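import Cfsg.Agent.JankoFour.ClassNumber.Pool
import Cfsg.Agent.JankoFour.ClassNumber.Data.Table
import Cfsg.Agent.JankoFour.ClassNumber.Data.Chains

/-!
The conjugates inside centralisers of powers are different.
-/

set_option autoImplicit false
set_option maxRecDepth 20000
set_option Elab.async false

namespace Cfsg.Lib.JankoFour.ClassNumber

theorem okC4A_keys : conjOK cm usC4A 414 wsC4A = true := by decide +kernel

theorem okC4A_small : gensC4A.all (fun g => Nat.blt g 980) = true ∧ usC4A.all (fun u => Nat.blt u (2 ^ 112)) = true ∧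
    powOK cm 414 2 10 = true ∧ commList cm 10 gensC4A = true ∧ lettersOK gensC4A wsC4A = true ∧ wsC4A.length = 4032 := by
  decide +kernel

/-- The chain step to 4A. -/
theorem chain4A : Chain cm 490 414 10 2 gensC4A usC4A wsC4A :=
  ⟨by decide, by decide, fun g hg => Nat.le_of_ble_eq_true (List.all_eq_true.mp okC4A_small.1 g hg),
    okC4A_small.2.1, okC4A_small.2.2.1, okC4A_small.2.2.2.1, okC4A_small.2.2.2.2.1, okC4A_keys⟩

end Cfsg.Lib.JankoFour.ClassNumber
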