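import Cfsg.Agent.JankoFour.ClassNumber.Pool
import Cfsg.Agent.JankoFour.ClassNumber.Data.Table
import Cfsg.Agent.JankoFour.ClassNumber.Data.Chains

/-!
The conjugates inside centralisers of powers are different.
-/

set_option autoImplicit false
set_option maxRecDepth 20000
set_option Elab.async false

namespace Cfsg.Lib.JankoFour.ClassNumber

theorem okC6B_keys : conjOK cm usC6B 426 wsC6B = true := by decide +kernel

theorem okC6B_small : gensC6B.all (fun g => Nat.blt g 980) = true ∧ usC6B.all (fun u => Nat.blt u (2 ^ 112)) = true ∧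
    powOK cm 426 4 90 = true ∧ commList cm 90 gensC6B = true ∧ lettersOK gensC6B wsC6B = true ∧ wsC6B.length = 1155 := by
  decide +kernel

/-- The chain step to 6B. -/
theorem chain6B : Chain cm 490 426 90 4 gensC6B usC6B wsC6B :=
  ⟨by decide, by decide, fun g hg => Nat.le_of_ble_eq_true (List.all_eq_true.mp okC6B_small.1 g hg),
    okC6B_small.2.1, okC6B_small.2.2.1, okC6B_small.2.2.2.1, okC6B_small.2.2.2.2.1, okC6B_keys⟩

theorem okC6C_keys : conjOK cm usC6C 430 wsC6C = true := by decide +kernel

theorem okC6C_small : gensC6C.all (fun g => Nat.blt g 980) = true ∧ usC6C.all (fun u => Nat.blt u (2 ^ 112)) = true ∧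
    powOK cm 430 4 90 = true ∧ commList cm 90 gensC6C = true ∧ lettersOK gensC6C wsC6C = true ∧ wsC6C.length = 1155 := by
  decide +kernel

/-- The chain step to 6C. -/
theorem chain6C : Chain cm 490 430 90 4 gensC6C usC6C wsC6C :=
  ⟨by decide, by decide, fun g hg => Nat.le_of_ble_eq_true (List.all_eq_true.mp okC6C_small.1 g hg),
    okC6C_small.2.1, okC6C_small.2.2.1, okC6C_small.2.2.2.1, okC6C_small.2.2.2.2.1, okC6C_keys⟩

end Cfsg.Lib.JankoFour.ClassNumber
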