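import Cfsg.Agent.JankoFour.ClassNumber.Pool
import Cfsg.Agent.JankoFour.ClassNumber.Data.Table
import Cfsg.Agent.JankoFour.ClassNumber.Data.Chains

/-!
The conjugates inside centralisers of powers are different.
-/

set_option autoImplicit false
set_option maxRecDepth 20000
set_option Elab.async false

namespace Cfsg.Lib.JankoFour.ClassNumber

theorem okC6A_keys : conjOK cm usC6A 434 wsC6A = true := by decide +kernel

theorem okC6A_small : gensC6A.all (fun g => Nat.blt g 980) = true ∧ usC6A.all (fun u => Nat.blt u (2 ^ 112)) = true ∧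
    powOK cm 434 4 90 = true ∧ commList cm 90 gensC6A = true ∧ lettersOK gensC6A wsC6A = true ∧ wsC6A.length = 1 := by
  decide +kernel

/-- The chain step to 6A. -/
theorem chain6A : Chain cm 490 434 90 4 gensC6A usC6A wsC6A :=
  ⟨by decide, by decide, fun g hg => Nat.le_of_ble_eq_true (List.all_eq_true.mp okC6A_small.1 g hg),
    okC6A_small.2.1, okC6A_small.2.2.1, okC6A_small.2.2.2.1, okC6A_small.2.2.2.2.1, okC6A_keys⟩

theorem okC10A_keys : conjOK cm usC10A 438 wsC10A = true := by decide +kernel

theorem okC10A_small : gensC10A.all (fun g => Nat.blt g 980) = true ∧ usC10A.all (fun u => Nat.blt u (2 ^ 112)) = true ∧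
    powOK cm 438 6 86 = true ∧ commList cm 86 gensC10A = true ∧ lettersOK gensC10A wsC10A = true ∧ wsC10A.length = 7 := by
  decide +kernel

/-- The chain step to 10A. -/
theorem chain10A : Chain cm 490 438 86 6 gensC10A usC10A wsC10A :=
  ⟨by decide, by decide, fun g hg => Nat.le_of_ble_eq_true (List.all_eq_true.mp okC10A_small.1 g hg),
    okC10A_small.2.1, okC10A_small.2.2.1, okC10A_small.2.2.2.1, okC10A_small.2.2.2.2.1, okC10A_keys⟩

theorem okC10B_keys : conjOK cm usC10B 442 wsC10B = true := by decide +kernel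

theorem okC10B_small : gensC10B.all (fun g => Nat.blt g 980) = true ∧ usC10B.all (fun u => Nat.blt u (2 ^ 112)) = true ∧
    powOK cm 442 6 86 = true ∧ commList cm 86 gensC10B = true ∧ lettersOK gensC10B wsC10B = true ∧ wsC10B.length = 84 := by
  decide +kernel

/-- The chain step to 10B. -/
theorem chain10B : Chain cm 490 442 86 6 gensC10B usC10B wsC10B :=
  ⟨by decide, by decide, fun g hg => Nat.le_of_ble_eq_true (List.all_eq_true.mp okC10B_small.1 g hg),
    okC10B_small.2.1, okC10B_small.2.2.1, okC10B_small.2.2.2.1, okC10B_small.2.2.2.2.1, okC10B_keys⟩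

theorem okC14A_keys : conjOK cm usC14A 450 wsC14A = true := by decide +kernel

theorem okC14A_small : gensC14A.all (fun g => Nat.blt g 980) = true ∧ usC14A.all (fun u => Nat.blt u (2 ^ 112)) = true ∧
    powOK cm 450 8 220 = true ∧ commList cm 220 gensC14A = true ∧ lettersOK gensC14A wsC14A = true ∧ wsC14A.length = 10 := by
  decide +kernel

/-- The chain step to 14A. -/
theorem chain14A : Chain cm 490 450 220 8 gensC14A usC14A wsC14A :=
  ⟨by decide, by decide, fun g hg => Nat.le_of_ble_eq_true (List.all_eq_true.mp okC14A_small.1 g hg),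
    okC14A_small.2.1, okC14A_small.2.2.1, okC14A_small.2.2.2.1, okC14A_small.2.2.2.2.1, okC14A_keys⟩

theorem okC14C_keys : conjOK cm usC14C 454 wsC14C = true := by decide +kernel

theorem okC14C_small : gensC14C.all (fun g => Nat.blt g 980) = true ∧ usC14C.all (fun u => Nat.blt u (2 ^ 112)) = true ∧
    powOK cm 454 8 220 = true ∧ commList cm 220 gensC14C = true ∧ lettersOK gensC14C wsC14C = true ∧ wsC14C.length = 15 := by
  decide +kernel

/-- The chain step to 14C. -/
theorem chain14C : Chain cm 490 454 220 8 gensC14C usC14C wsC14C :=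
  ⟨by decide, by decide, fun g hg => Nat.le_of_ble_eq_true (List.all_eq_true.mp okC14C_small.1 g hg),
    okC14C_small.2.1, okC14C_small.2.2.1, okC14C_small.2.2.2.1, okC14C_small.2.2.2.2.1, okC14C_keys⟩

theorem okC15_keys : conjOK cm usC15 446 wsC15 = true := by decide +kernel

theorem okC15_small : gensC15.all (fun g => Nat.blt g 980) = true ∧ usC15.all (fun u => Nat.blt u (2 ^ 112)) = true ∧
    powOK cm 446 6 86 = true ∧ commList cm 86 gensC15 = true ∧ lettersOK gensC15 wsC15 = true ∧ wsC15.length = 224 := by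
  decide +kernel

/-- The chain step to 15. -/
theorem chain15 : Chain cm 490 446 86 6 gensC15 usC15 wsC15 :=
  ⟨by decide, by decide, fun g hg => Nat.le_of_ble_eq_true (List.all_eq_true.mp okC15_small.1 g hg),
    okC15_small.2.1, okC15_small.2.2.1, okC15_small.2.2.2.1, okC15_small.2.2.2.2.1, okC15_keys⟩

theorem okC21_keys : conjOK cm usC21 458 wsC21 = true := by decide +kernel

theorem okC21_small : gensC21.all (fun g => Nat.blt g 980) = true ∧ usC21.all (fun u => Nat.blt u (2 ^ 112)) = true ∧
    powOK cm 458 15 220 = true ∧ commList cm 220 gensC21 = true ∧ lettersOK gensC21 wsC21 = true ∧ wsC21.length = 20 := by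
  decide +kernel

/-- The chain step to 21. -/
theorem chain21 : Chain cm 490 458 220 15 gensC21 usC21 wsC21 :=
  ⟨by decide, by decide, fun g hg => Nat.le_of_ble_eq_true (List.all_eq_true.mp okC21_small.1 g hg),
    okC21_small.2.1, okC21_small.2.2.1, okC21_small.2.2.2.1, okC21_small.2.2.2.2.1, okC21_keys⟩

theorem okC35_keys : conjOK cm usC35 462 wsC35 = true := by decide +kernel

theorem okC35_small : gensC35.all (fun g => Nat.blt g 980) = true ∧ usC35.all (fun u => Nat.blt u (2 ^ 112)) = true ∧
    powOK cm 462 15 220 = true ∧ commList cm 220 gensC35 = true ∧ lettersOK gensC35 wsC35 = true ∧ wsC35.length = 24 := by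
  decide +kernel

/-- The chain step to 35. -/
theorem chain35 : Chain cm 490 462 220 15 gensC35 usC35 wsC35 :=
  ⟨by decide, by decide, fun g hg => Nat.le_of_ble_eq_true (List.all_eq_true.mp okC35_small.1 g hg),
    okC35_small.2.1, okC35_small.2.2.1, okC35_small.2.2.2.1, okC35_small.2.2.2.2.1, okC35_keys⟩

theorem okC22A_keys : conjOK cm usC22A 466 wsC22A = true := by decide +kernel

theorem okC22A_small : gensC22A.all (fun g => Nat.blt g 980) = true ∧ usC22A.all (fun u => Nat.blt u (2 ^ 112)) = true ∧
    powOK cm 466 12 40 = true ∧ commList cm 40 gensC22A = true ∧ lettersOK gensC22A wsC22A = true ∧ wsC22A.length = 121 := by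
  decide +kernel

/-- The chain step to 22A. -/
theorem chain22A : Chain cm 490 466 40 12 gensC22A usC22A wsC22A :=
  ⟨by decide, by decide, fun g hg => Nat.le_of_ble_eq_true (List.all_eq_true.mp okC22A_small.1 g hg),
    okC22A_small.2.1, okC22A_small.2.2.1, okC22A_small.2.2.2.1, okC22A_small.2.2.2.2.1, okC22A_keys⟩

theorem okC22B_keys : conjOK cm usC22B 470 wsC22B = true := by decide +kernel

theorem okC22B_small : gensC22B.all (fun g => Nat.blt g 980) = true ∧ usC22B.all (fun u => Nat.blt u (2 ^ 112)) = true ∧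
    powOK cm 470 12 38 = true ∧ commList cm 38 gensC22B = true ∧ lettersOK gensC22B wsC22B = true ∧ wsC22B.length = 11 := by
  decide +kernel

/-- The chain step to 22B. -/
theorem chain22B : Chain cm 490 470 38 12 gensC22B usC22B wsC22B :=
  ⟨by decide, by decide, fun g hg => Nat.le_of_ble_eq_true (List.all_eq_true.mp okC22B_small.1 g hg),
    okC22B_small.2.1, okC22B_small.2.2.1, okC22B_small.2.2.2.1, okC22B_small.2.2.2.2.1, okC22B_keys⟩

theorem okC33A_keys : conjOK cm usC33A 474 wsC33A = true := by decide +kernel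

theorem okC33A_small : gensC33A.all (fun g => Nat.blt g 980) = true ∧ usC33A.all (fun u => Nat.blt u (2 ^ 112)) = true ∧
    powOK cm 474 12 40 = true ∧ commList cm 40 gensC33A = true ∧ lettersOK gensC33A wsC33A = true ∧ wsC33A.length = 484 := by
  decide +kernel

/-- The chain step to 33A. -/
theorem chain33A : Chain cm 490 474 40 12 gensC33A usC33A wsC33A :=
  ⟨by decide, by decide, fun g hg => Nat.le_of_ble_eq_true (List.all_eq_true.mp okC33A_small.1 g hg),
    okC33A_small.2.1, okC33A_small.2.2.1, okC33A_small.2.2.2.1, okC33A_small.2.2.2.2.1, okC33A_keys⟩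

theorem okC33B_keys : conjOK cm usC33B 478 wsC33B = true := by decide +kernel

theorem okC33B_small : gensC33B.all (fun g => Nat.blt g 980) = true ∧ usC33B.all (fun u => Nat.blt u (2 ^ 112)) = true ∧
    powOK cm 478 12 40 = true ∧ commList cm 40 gensC33B = true ∧ lettersOK gensC33B wsC33B = true ∧ wsC33B.length = 484 := by
  decide +kernel

/-- The chain step to 33B. -/
theorem chain33B : Chain cm 490 478 40 12 gensC33B usC33B wsC33B :=
  ⟨by decide, by decide, fun g hg => Nat.le_of_ble_eq_true (List.all_eq_true.mp okC33B_small.1 g hg),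
    okC33B_small.2.1, okC33B_small.2.2.1, okC33B_small.2.2.2.1, okC33B_small.2.2.2.2.1, okC33B_keys⟩

theorem okC8B_keys : conjOK cm usC8B 712 wsC8B = true := by decide +kernel

theorem okC8B_small : gensC8B.all (fun g => Nat.blt g 980) = true ∧ usC8B.all (fun u => Nat.blt u (2 ^ 112)) = true ∧
    powOK cm 712 2 418 = true ∧ commList cm 418 gensC8B = true ∧ lettersOK gensC8B wsC8B = true ∧ wsC8B.length = 192 := by
  decide +kernel

/-- The chain step to 8B. -/
theorem chain8B : Chain cm 490 712 418 2 gensC8B usC8B wsC8B :=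
  ⟨by decide, by decide, fun g hg => Nat.le_of_ble_eq_true (List.all_eq_true.mp okC8B_small.1 g hg),
    okC8B_small.2.1, okC8B_small.2.2.1, okC8B_small.2.2.2.1, okC8B_small.2.2.2.2.1, okC8B_keys⟩

theorem okC8C_keys : conjOK cm usC8C 708 wsC8C = true := by decide +kernel

theorem okC8C_small : gensC8C.all (fun g => Nat.blt g 980) = true ∧ usC8C.all (fun u => Nat.blt u (2 ^ 112)) = true ∧
    powOK cm 708 2 418 = true ∧ commList cm 418 gensC8C = true ∧ lettersOK gensC8C wsC8C = true ∧ wsC8C.length = 128 := by
  decide +kernel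

/-- The chain step to 8C. -/
theorem chain8C : Chain cm 490 708 418 2 gensC8C usC8C wsC8C :=
  ⟨by decide, by decide, fun g hg => Nat.le_of_ble_eq_true (List.all_eq_true.mp okC8C_small.1 g hg),
    okC8C_small.2.1, okC8C_small.2.2.1, okC8C_small.2.2.2.1, okC8C_small.2.2.2.2.1, okC8C_keys⟩

theorem okC12A_keys : conjOK cm usC12A 716 wsC12A = true := by decide +kernel

theorem okC12A_small : gensC12A.all (fun g => Nat.blt g 980) = true ∧ usC12A.all (fun u => Nat.blt u (2 ^ 112)) = true ∧
    powOK cm 716 2 426 = true ∧ commList cm 426 gensC12A = true ∧ lettersOK gensC12A wsC12A = true ∧ wsC12A.length = 12 := by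
  decide +kernel

/-- The chain step to 12A. -/
theorem chain12A : Chain cm 490 716 426 2 gensC12A usC12A wsC12A :=
  ⟨by decide, by decide, fun g hg => Nat.le_of_ble_eq_true (List.all_eq_true.mp okC12A_small.1 g hg),
    okC12A_small.2.1, okC12A_small.2.2.1, okC12A_small.2.2.2.1, okC12A_small.2.2.2.2.1, okC12A_keys⟩

theorem okC12B_keys : conjOK cm usC12B 824 wsC12B = true := by decide +kernel

theorem okC12B_small : gensC12B.all (fun g => Nat.blt g 980) = true ∧ usC12B.all (fun u => Nat.blt u (2 ^ 112)) = true ∧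
    powOK cm 824 2 426 = true ∧ commList cm 426 gensC12B = true ∧ lettersOK gensC12B wsC12B = true ∧ wsC12B.length = 12 := by
  decide +kernel

/-- The chain step to 12B. -/
theorem chain12B : Chain cm 490 824 426 2 gensC12B usC12B wsC12B :=
  ⟨by decide, by decide, fun g hg => Nat.le_of_ble_eq_true (List.all_eq_true.mp okC12B_small.1 g hg),
    okC12B_small.2.1, okC12B_small.2.2.1, okC12B_small.2.2.2.1, okC12B_small.2.2.2.2.1, okC12B_keys⟩

theorem okC12C_keys : conjOK cm usC12C 720 wsC12C = true := by decide +kernel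

theorem okC12C_small : gensC12C.all (fun g => Nat.blt g 980) = true ∧ usC12C.all (fun u => Nat.blt u (2 ^ 112)) = true ∧
    powOK cm 720 2 430 = true ∧ commList cm 430 gensC12C = true ∧ lettersOK gensC12C wsC12C = true ∧ wsC12C.length = 48 := by
  decide +kernel

/-- The chain step to 12C. -/
theorem chain12C : Chain cm 490 720 430 2 gensC12C usC12C wsC12C :=
  ⟨by decide, by decide, fun g hg => Nat.le_of_ble_eq_true (List.all_eq_true.mp okC12C_small.1 g hg),
    okC12C_small.2.1, okC12C_small.2.2.1, okC12C_small.2.2.2.1, okC12C_small.2.2.2.2.1, okC12C_keys⟩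

theorem okC20A_keys : conjOK cm usC20A 724 wsC20A = true := by decide +kernel

theorem okC20A_small : gensC20A.all (fun g => Nat.blt g 980) = true ∧ usC20A.all (fun u => Nat.blt u (2 ^ 112)) = true ∧
    powOK cm 724 2 438 = true ∧ commList cm 438 gensC20A = true ∧ lettersOK gensC20A wsC20A = true ∧ wsC20A.length = 6 := by
  decide +kernel

/-- The chain step to 20A. -/
theorem chain20A : Chain cm 490 724 438 2 gensC20A usC20A wsC20A :=
  ⟨by decide, by decide, fun g hg => Nat.le_of_ble_eq_true (List.all_eq_true.mp okC20A_small.1 g hg),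
    okC20A_small.2.1, okC20A_small.2.2.1, okC20A_small.2.2.2.1, okC20A_small.2.2.2.2.1, okC20A_keys⟩

theorem okC20B_keys : conjOK cm usC20B 828 wsC20B = true := by decide +kernel

theorem okC20B_small : gensC20B.all (fun g => Nat.blt g 980) = true ∧ usC20B.all (fun u => Nat.blt u (2 ^ 112)) = true ∧
    powOK cm 828 2 438 = true ∧ commList cm 438 gensC20B = true ∧ lettersOK gensC20B wsC20B = true ∧ wsC20B.length = 6 := by
  decide +kernel

/-- The chain step to 20B. -/
theorem chain20B : Chain cm 490 828 438 2 gensC20B usC20B wsC20B :=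
  ⟨by decide, by decide, fun g hg => Nat.le_of_ble_eq_true (List.all_eq_true.mp okC20B_small.1 g hg),
    okC20B_small.2.1, okC20B_small.2.2.1, okC20B_small.2.2.2.1, okC20B_small.2.2.2.2.1, okC20B_keys⟩

theorem okC28_keys : conjOK cm usC28 728 wsC28 = true := by decide +kernel

theorem okC28_small : gensC28.all (fun g => Nat.blt g 980) = true ∧ usC28.all (fun u => Nat.blt u (2 ^ 112)) = true ∧
    powOK cm 728 2 454 = true ∧ commList cm 454 gensC28 = true ∧ lettersOK gensC28 wsC28 = true ∧ wsC28.length = 2 := by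
  decide +kernel

/-- The chain step to 28. -/
theorem chain28 : Chain cm 490 728 454 2 gensC28 usC28 wsC28 :=
  ⟨by decide, by decide, fun g hg => Nat.le_of_ble_eq_true (List.all_eq_true.mp okC28_small.1 g hg),
    okC28_small.2.1, okC28_small.2.2.1, okC28_small.2.2.2.1, okC28_small.2.2.2.2.1, okC28_keys⟩

theorem okC30_keys : conjOK cm usC30 732 wsC30 = true := by decide +kernel

theorem okC30_small : gensC30.all (fun g => Nat.blt g 980) = true ∧ usC30.all (fun u => Nat.blt u (2 ^ 112)) = true ∧
    powOK cm 732 2 446 = true ∧ commList cm 446 gensC30 = true ∧ lettersOK gensC30 wsC30 = true ∧ wsC30.length = 1 := by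
  decide +kernel

/-- The chain step to 30. -/
theorem chain30 : Chain cm 490 732 446 2 gensC30 usC30 wsC30 :=
  ⟨by decide, by decide, fun g hg => Nat.le_of_ble_eq_true (List.all_eq_true.mp okC30_small.1 g hg),
    okC30_small.2.1, okC30_small.2.2.1, okC30_small.2.2.2.1, okC30_small.2.2.2.2.1, okC30_keys⟩

theorem okC42_keys : conjOK cm usC42 736 wsC42 = true := by decide +kernel

theorem okC42_small : gensC42.all (fun g => Nat.blt g 980) = true ∧ usC42.all (fun u => Nat.blt u (2 ^ 112)) = true ∧
    powOK cm 736 2 458 = true ∧ commList cm 458 gensC42 = true ∧ lettersOK gensC42 wsC42 = true ∧ wsC42.length = 1 := by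
  decide +kernel

/-- The chain step to 42. -/
theorem chain42 : Chain cm 490 736 458 2 gensC42 usC42 wsC42 :=
  ⟨by decide, by decide, fun g hg => Nat.le_of_ble_eq_true (List.all_eq_true.mp okC42_small.1 g hg),
    okC42_small.2.1, okC42_small.2.2.1, okC42_small.2.2.2.1, okC42_small.2.2.2.2.1, okC42_keys⟩

theorem okC44_keys : conjOK cm usC44 740 wsC44 = true := by decide +kernel

theorem okC44_small : gensC44.all (fun g => Nat.blt g 980) = true ∧ usC44.all (fun u => Nat.blt u (2 ^ 112)) = true ∧
    powOK cm 740 2 466 = true ∧ commList cm 466 gensC44 = true ∧ lettersOK gensC44 wsC44 = true ∧ wsC44.length = 6 := by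
  decide +kernel

/-- The chain step to 44. -/
theorem chain44 : Chain cm 490 740 466 2 gensC44 usC44 wsC44 :=
  ⟨by decide, by decide, fun g hg => Nat.le_of_ble_eq_true (List.all_eq_true.mp okC44_small.1 g hg),
    okC44_small.2.1, okC44_small.2.2.1, okC44_small.2.2.2.1, okC44_small.2.2.2.2.1, okC44_keys⟩

theorem okC66A_keys : conjOK cm usC66A 748 wsC66A = true := by decide +kernel

theorem okC66A_small : gensC66A.all (fun g => Nat.blt g 980) = true ∧ usC66A.all (fun u => Nat.blt u (2 ^ 112)) = true ∧
    powOK cm 748 3 466 = true ∧ commList cm 466 gensC66A = true ∧ lettersOK gensC66A wsC66A = true ∧ wsC66A.length = 4 := by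
  decide +kernel

/-- The chain step to 66A. -/
theorem chain66A : Chain cm 490 748 466 3 gensC66A usC66A wsC66A :=
  ⟨by decide, by decide, fun g hg => Nat.le_of_ble_eq_true (List.all_eq_true.mp okC66A_small.1 g hg),
    okC66A_small.2.1, okC66A_small.2.2.1, okC66A_small.2.2.2.1, okC66A_small.2.2.2.2.1, okC66A_keys⟩

theorem okC66B_keys : conjOK cm usC66B 744 wsC66B = true := by decide +kernel

theorem okC66B_small : gensC66B.all (fun g => Nat.blt g 980) = true ∧ usC66B.all (fun u => Nat.blt u (2 ^ 112)) = true ∧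
    powOK cm 744 3 466 = true ∧ commList cm 466 gensC66B = true ∧ lettersOK gensC66B wsC66B = true ∧ wsC66B.length = 4 := by
  decide +kernel

/-- The chain step to 66B. -/
theorem chain66B : Chain cm 490 744 466 3 gensC66B usC66B wsC66B :=
  ⟨by decide, by decide, fun g hg => Nat.le_of_ble_eq_true (List.all_eq_true.mp okC66B_small.1 g hg),
    okC66B_small.2.1, okC66B_small.2.2.1, okC66B_small.2.2.2.1, okC66B_small.2.2.2.2.1, okC66B_keys⟩

theorem okC16_keys : conjOK cm usC16 766 wsC16 = true := by decide +kernel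

theorem okC16_small : gensC16.all (fun g => Nat.blt g 980) = true ∧ usC16.all (fun u => Nat.blt u (2 ^ 112)) = true ∧
    powOK cm 766 2 712 = true ∧ commList cm 712 gensC16 = true ∧ lettersOK gensC16 wsC16 = true ∧ wsC16.length = 16 := by
  decide +kernel

/-- The chain step to 16. -/
theorem chain16 : Chain cm 490 766 712 2 gensC16 usC16 wsC16 :=
  ⟨by decide, by decide, fun g hg => Nat.le_of_ble_eq_true (List.all_eq_true.mp okC16_small.1 g hg),
    okC16_small.2.1, okC16_small.2.2.1, okC16_small.2.2.2.1, okC16_small.2.2.2.2.1, okC16_keys⟩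

theorem okC24A_keys : conjOK cm usC24A 790 wsC24A = true := by decide +kernel

theorem okC24A_small : gensC24A.all (fun g => Nat.blt g 980) = true ∧ usC24A.all (fun u => Nat.blt u (2 ^ 112)) = true ∧
    powOK cm 790 2 716 = true ∧ commList cm 716 gensC24A = true ∧ lettersOK gensC24A wsC24A = true ∧ wsC24A.length = 4 := by
  decide +kernel

/-- The chain step to 24A. -/
theorem chain24A : Chain cm 490 790 716 2 gensC24A usC24A wsC24A :=
  ⟨by decide, by decide, fun g hg => Nat.le_of_ble_eq_true (List.all_eq_true.mp okC24A_small.1 g hg),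
    okC24A_small.2.1, okC24A_small.2.2.1, okC24A_small.2.2.2.1, okC24A_small.2.2.2.2.1, okC24A_keys⟩

theorem okC24B_keys : conjOK cm usC24B 832 wsC24B = true := by decide +kernel

theorem okC24B_small : gensC24B.all (fun g => Nat.blt g 980) = true ∧ usC24B.all (fun u => Nat.blt u (2 ^ 112)) = true ∧
    powOK cm 832 2 716 = true ∧ commList cm 716 gensC24B = true ∧ lettersOK gensC24B wsC24B = true ∧ wsC24B.length = 4 := by
  decide +kernel

/-- The chain step to 24B. -/
theorem chain24B : Chain cm 490 832 716 2 gensC24B usC24B wsC24B :=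
  ⟨by decide, by decide, fun g hg => Nat.le_of_ble_eq_true (List.all_eq_true.mp okC24B_small.1 g hg),
    okC24B_small.2.1, okC24B_small.2.2.1, okC24B_small.2.2.2.1, okC24B_small.2.2.2.2.1, okC24B_keys⟩

theorem okC40A_keys : conjOK cm usC40A 820 wsC40A = true := by decide +kernel

theorem okC40A_small : gensC40A.all (fun g => Nat.blt g 980) = true ∧ usC40A.all (fun u => Nat.blt u (2 ^ 112)) = true ∧
    powOK cm 820 2 724 = true ∧ commList cm 724 gensC40A = true ∧ lettersOK gensC40A wsC40A = true ∧ wsC40A.length = 4 := by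
  decide +kernel

/-- The chain step to 40A. -/
theorem chain40A : Chain cm 490 820 724 2 gensC40A usC40A wsC40A :=
  ⟨by decide, by decide, fun g hg => Nat.le_of_ble_eq_true (List.all_eq_true.mp okC40A_small.1 g hg),
    okC40A_small.2.1, okC40A_small.2.2.1, okC40A_small.2.2.2.1, okC40A_small.2.2.2.2.1, okC40A_keys⟩

theorem okC40B_keys : conjOK cm usC40B 914 wsC40B = true := by decide +kernel

theorem okC40B_small : gensC40B.all (fun g => Nat.blt g 980) = true ∧ usC40B.all (fun u => Nat.blt u (2 ^ 112)) = true ∧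
    powOK cm 914 2 828 = true ∧ commList cm 828 gensC40B = true ∧ lettersOK gensC40B wsC40B = true ∧ wsC40B.length = 4 := by
  decide +kernel

/-- The chain step to 40B. -/
theorem chain40B : Chain cm 490 914 828 2 gensC40B usC40B wsC40B :=
  ⟨by decide, by decide, fun g hg => Nat.le_of_ble_eq_true (List.all_eq_true.mp okC40B_small.1 g hg),
    okC40B_small.2.1, okC40B_small.2.2.1, okC40B_small.2.2.2.1, okC40B_small.2.2.2.2.1, okC40B_keys⟩

end Cfsg.Lib.JankoFour.ClassNumber
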