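import Cfsg.Agent.JankoFour.ClassNumber.Check
import Cfsg.Agent.JankoFour.ClassNumber.Data.Table
import Cfsg.Agent.JankoFour.ClassNumber.Data.Chains
import Cfsg.Agent.J4Eleven.Checks

/-!
Lower bounds of centralisers and elements outside complete lists.
-/

set_option autoImplicit false
set_option maxRecDepth 20000
set_option Elab.async false

namespace Cfsg.Lib.JankoFour.ClassNumber

open Cfsg.Lib.J4Cert
open Cfsg.Lib.J4Rep (idMat)

theorem low20A_small : gensL20A.all (fun g => Nat.blt g 980) = true ∧ usL20A.all (fun u => Nat.blt u (2 ^ 112)) = true ∧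
    commList cm 724 gensL20A = true ∧ lettersOK gensL20A wsL20A = true ∧ wsL20A.length = 160 := by decide +kernel

theorem low20A_keys : wordsOK cm usL20A wsL20A = true := by decide +kernel

theorem out20A : outside cm usC20A 724 828 wsC20A = true := by decide +kernel

theorem low24A_small : gensL24A.all (fun g => Nat.blt g 980) = true ∧ usL24A.all (fun u => Nat.blt u (2 ^ 112)) = true ∧
    commList cm 790 gensL24A = true ∧ lettersOK gensL24A wsL24A = true ∧ wsL24A.length = 48 := by decide +kernel

theorem low24A_keys : wordsOK cm usL24A wsL24A = true := by decide +kernel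

theorem out24A : outside cm usC24A 790 832 wsC24A = true := by decide +kernel

theorem tr_list : (J4Eleven.trPar (cm 478) = 1 ∧ J4Eleven.trPar (cm 474) = 0) ∧
    (J4Eleven.trPar (cm 744) = 1 ∧ J4Eleven.trPar (cm 748) = 0) := by decide +kernel

end Cfsg.Lib.JankoFour.ClassNumber
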