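import Cfsg.Agent.JankoFour.ClassNumber.Check
import Cfsg.Agent.JankoFour.ClassNumber.Data.Table

/-!
The orders of the representatives, and powers relating them.
-/

set_option autoImplicit false
set_option maxRecDepth 20000
set_option Elab.async false

namespace Cfsg.Lib.JankoFour.ClassNumber

open Cfsg.Lib.J4Cert
open Cfsg.Lib.J4Rep (idMat)

/-- The vector moved by powers. -/
def ordV : ℕ := 0x5a5a5a5a5a5a5a5a5a5a5a5a5a5a

/-- A power is the identity. -/
def powOne (e : ℕ × ℕ) : Bool := leq (mPow (cm e.1) e.2) idMat

/-- A power moves the vector. -/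
def powMoves (e : ℕ × ℕ) : Bool := !Nat.beq (vfold cm ordV (List.replicate e.2 e.1)) ordV

theorem ord_one0 : [(10, 2), (0, 2), (90, 3), (86, 5), (434, 6), (426, 6), (430, 6), (220, 7)].all powOne = true := by decide +kernel

theorem ord_one1 : [(438, 10), (442, 10), (40, 11)].all powOne = true := by decide +kernel

theorem ord_one2 : [(38, 11), (450, 14), (454, 14)].all powOne = true := by decide +kernel

theorem ord_one3 : [(446, 15), (458, 21)].all powOne = true := by decide +kernel

theorem ord_one4 : [(466, 22)].all powOne = true := by decide +kernel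

theorem ord_one5 : [(470, 22)].all powOne = true := by decide +kernel

theorem ord_one6 : [(942, 23)].all powOne = true := by decide +kernel

theorem ord_one7 : [(948, 29)].all powOne = true := by decide +kernel

theorem ord_one8 : [(944, 31)].all powOne = true := by decide +kernel

theorem ord_one9 : [(474, 33)].all powOne = true := by decide +kernel

theorem ord_one10 : [(478, 33)].all powOne = true := by decide +kernel

theorem ord_one11 : [(462, 35)].all powOne = true := by decide +kernel

theorem ord_one12 : [(940, 37)].all powOne = true := by decide +kernel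

theorem ord_one13 : [(946, 43)].all powOne = true := by decide +kernel

theorem ord_move0 : [(10, 1), (0, 1), (90, 1), (414, 2), (418, 2), (422, 2), (86, 1), (434, 3), (434, 2), (426, 3), (426, 2), (430, 3), (430, 2), (220, 1), (704, 4), (712, 4), (708, 4), (438, 5), (438, 2), (442, 5), (442, 2), (40, 1), (38, 1), (716, 6), (716, 4), (824, 6), (824, 4), (720, 6), (720, 4), (450, 7), (450, 2), (454, 7), (454, 2), (446, 5), (446, 3), (766, 8), (724, 10), (724, 4), (828, 10), (828, 4)].all powMoves = true := by decide +kernel

theorem ord_move1 : [(458, 7), (458, 3), (466, 11), (466, 2), (470, 11), (470, 2), (942, 1), (790, 12), (790, 8), (832, 12), (832, 8), (728, 14), (728, 4), (948, 1), (732, 15), (732, 10), (732, 6), (944, 1), (474, 11), (474, 3)].all powMoves = true := by decide +kernel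

theorem ord_move2 : [(478, 11), (478, 3), (462, 7), (462, 5), (940, 1), (820, 20), (820, 8), (914, 20), (914, 8), (736, 21), (736, 14), (736, 6), (946, 1), (740, 22)].all powMoves = true := by decide +kernel

theorem ord_move3 : [(740, 4), (748, 33), (748, 22), (748, 6), (744, 33), (744, 22), (744, 6)].all powMoves = true := by decide +kernel

theorem ord_powers0 : ([(220, 3, 950), (450, 3, 952), (454, 3, 954), (458, 10, 956), (728, 17, 958)].all fun e : ℕ × ℕ × ℕ => powOK cm e.1 e.2.1 e.2.2) = true := by decide +kernel

theorem ord_powers1 : ([(462, 31, 960)].all fun e : ℕ × ℕ × ℕ => powOK cm e.1 e.2.1 e.2.2) = true := by decide +kernel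

theorem ord_powers2 : ([(736, 31, 962), (944, 3, 964), (944, 5, 966)].all fun e : ℕ × ℕ × ℕ => powOK cm e.1 e.2.1 e.2.2) = true := by decide +kernel

theorem ord_powers3 : ([(964, 12, 966), (940, 2, 968), (940, 3, 970), (968, 20, 970), (946, 3, 972)].all fun e : ℕ × ℕ × ℕ => powOK cm e.1 e.2.1 e.2.2) = true := by decide +kernel

theorem ord_powers4 : ([(946, 7, 974), (972, 31, 974)].all fun e : ℕ × ℕ × ℕ => powOK cm e.1 e.2.1 e.2.2) = true := by decide +kernel

end Cfsg.Lib.JankoFour.ClassNumber
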