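import Cfsg.Agent.JankoFour.ClassNumber.Check
import Cfsg.Agent.JankoFour.ClassNumber.Data.Table
import Cfsg.Agent.JankoFour.ClassNumber.Data.Entries

/-!
The stored elements arise from earlier ones.
-/

set_option autoImplicit false
set_option maxRecDepth 20000
set_option Elab.async false

namespace Cfsg.Lib.JankoFour.ClassNumber

theorem ent_ok0 : entriesOK cm 24 cEnt0 = true := by decide +kernel

theorem ent_ok1 : entriesOK cm 27 cEnt1 = true := by decide +kernel

theorem ent_ok2 : entriesOK cm 30 cEnt2 = true := by decide +kernel

theorem ent_ok3 : entriesOK cm 34 cEnt3 = true := by decide +kernel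

theorem ent_ok4 : entriesOK cm 39 cEnt4 = true := by decide +kernel

theorem ent_ok5 : entriesOK cm 42 cEnt5 = true := by decide +kernel

theorem ent_ok6 : entriesOK cm 45 cEnt6 = true := by decide +kernel

theorem ent_ok7 : entriesOK cm 47 cEnt7 = true := by decide +kernel

theorem ent_ok8 : entriesOK cm 50 cEnt8 = true := by decide +kernel

theorem ent_ok9 : entriesOK cm 52 cEnt9 = true := by decide +kernel

theorem ent_ok10 : entriesOK cm 54 cEnt10 = true := by decide +kernel

theorem ent_ok11 : entriesOK cm 55 cEnt11 = true := by decide +kernel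

theorem ent_ok12 : entriesOK cm 56 cEnt12 = true := by decide +kernel

theorem ent_ok13 : entriesOK cm 57 cEnt13 = true := by decide +kernel

theorem ent_ok14 : entriesOK cm 58 cEnt14 = true := by decide +kernel

theorem ent_ok15 : entriesOK cm 61 cEnt15 = true := by decide +kernel

theorem ent_ok16 : entriesOK cm 64 cEnt16 = true := by decide +kernel

theorem ent_ok17 : entriesOK cm 67 cEnt17 = true := by decide +kernel

theorem ent_ok18 : entriesOK cm 70 cEnt18 = true := by decide +kernel

theorem ent_ok19 : entriesOK cm 73 cEnt19 = true := by decide +kernel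

end Cfsg.Lib.JankoFour.ClassNumber
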