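import Cfsg.Agent.JankoFour.ClassNumber.Check
import Cfsg.Agent.JankoFour.ClassNumber.Data.Table
import Cfsg.Agent.JankoFour.ClassNumber.Data.Entries
import Cfsg.Agent.JankoFour.ClassNumber.PoolChecks0

/-!
The stored elements arise from earlier ones.
-/

set_option autoImplicit false
set_option maxRecDepth 20000
set_option Elab.async false

namespace Cfsg.Lib.JankoFour.ClassNumber

theorem ent_ok20 : entriesOK cm 75 cEnt20 = true := by decide +kernel

theorem ent_ok21 : entriesOK cm 76 cEnt21 = true := by decide +kernel

theorem ent_ok22 : entriesOK cm 77 cEnt22 = true := by decide +kernel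

theorem ent_ok23 : entriesOK cm 80 cEnt23 = true := by decide +kernel

theorem ent_ok24 : entriesOK cm 85 cEnt24 = true := by decide +kernel

theorem ent_ok25 : entriesOK cm 91 cEnt25 = true := by decide +kernel

theorem ent_ok26 : entriesOK cm 94 cEnt26 = true := by decide +kernel

theorem ent_ok27 : entriesOK cm 95 cEnt27 = true := by decide +kernel

theorem ent_ok28 : entriesOK cm 101 cEnt28 = true := by decide +kernel

theorem ent_ok29 : entriesOK cm 105 cEnt29 = true := by decide +kernel

theorem ent_ok30 : entriesOK cm 108 cEnt30 = true := by decide +kernel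

theorem ent_ok31 : entriesOK cm 112 cEnt31 = true := by decide +kernel

theorem ent_ok32 : entriesOK cm 115 cEnt32 = true := by decide +kernel

theorem ent_ok33 : entriesOK cm 119 cEnt33 = true := by decide +kernel

theorem ent_ok34 : entriesOK cm 121 cEnt34 = true := by decide +kernel

theorem ent_ok35 : entriesOK cm 122 cEnt35 = true := by decide +kernel

theorem ent_ok36 : entriesOK cm 123 cEnt36 = true := by decide +kernel

theorem ent_ok37 : entriesOK cm 124 cEnt37 = true := by decide +kernel

theorem ent_ok38 : entriesOK cm 125 cEnt38 = true := by decide +kernel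

theorem ent_ok39 : entriesOK cm 127 cEnt39 = true := by decide +kernel

end Cfsg.Lib.JankoFour.ClassNumber
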