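import Cfsg.Agent.JankoFour.ClassNumber.Check
import Cfsg.Agent.JankoFour.ClassNumber.Data.Table
import Cfsg.Agent.JankoFour.ClassNumber.Data.Entries
import Cfsg.Agent.JankoFour.ClassNumber.PoolChecks1

/-!
The stored elements arise from earlier ones.
-/

set_option autoImplicit false
set_option maxRecDepth 20000
set_option Elab.async false

namespace Cfsg.Lib.JankoFour.ClassNumber

theorem ent_ok40 : entriesOK cm 129 cEnt40 = true := by decide +kernel

theorem ent_ok41 : entriesOK cm 135 cEnt41 = true := by decide +kernel

theorem ent_ok42 : entriesOK cm 140 cEnt42 = true := by decide +kernel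

theorem ent_ok43 : entriesOK cm 143 cEnt43 = true := by decide +kernel

theorem ent_ok44 : entriesOK cm 144 cEnt44 = true := by decide +kernel

theorem ent_ok45 : entriesOK cm 146 cEnt45 = true := by decide +kernel

theorem ent_ok46 : entriesOK cm 150 cEnt46 = true := by decide +kernel

theorem ent_ok47 : entriesOK cm 156 cEnt47 = true := by decide +kernel

theorem ent_ok48 : entriesOK cm 160 cEnt48 = true := by decide +kernel

theorem ent_ok49 : entriesOK cm 162 cEnt49 = true := by decide +kernel

theorem ent_ok50 : entriesOK cm 166 cEnt50 = true := by decide +kernel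

theorem ent_ok51 : entriesOK cm 169 cEnt51 = true := by decide +kernel

theorem ent_ok52 : entriesOK cm 172 cEnt52 = true := by decide +kernel

theorem ent_ok53 : entriesOK cm 176 cEnt53 = true := by decide +kernel

theorem ent_ok54 : entriesOK cm 179 cEnt54 = true := by decide +kernel

theorem ent_ok55 : entriesOK cm 180 cEnt55 = true := by decide +kernel

theorem ent_ok56 : entriesOK cm 181 cEnt56 = true := by decide +kernel

theorem ent_ok57 : entriesOK cm 183 cEnt57 = true := by decide +kernel

theorem ent_ok58 : entriesOK cm 188 cEnt58 = true := by decide +kernel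

theorem ent_ok59 : entriesOK cm 193 cEnt59 = true := by decide +kernel

end Cfsg.Lib.JankoFour.ClassNumber
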