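import Cfsg.Agent.JankoFour.ClassNumber.Check
import Cfsg.Agent.JankoFour.ClassNumber.Data.Table
import Cfsg.Agent.JankoFour.ClassNumber.Data.Entries
import Cfsg.Agent.JankoFour.ClassNumber.PoolChecks2

/-!
The stored elements arise from earlier ones.
-/

set_option autoImplicit false
set_option maxRecDepth 20000
set_option Elab.async false

namespace Cfsg.Lib.JankoFour.ClassNumber

theorem ent_ok60 : entriesOK cm 198 cEnt60 = true := by decide +kernel

theorem ent_ok61 : entriesOK cm 199 cEnt61 = true := by decide +kernel

theorem ent_ok62 : entriesOK cm 200 cEnt62 = true := by decide +kernel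

theorem ent_ok63 : entriesOK cm 202 cEnt63 = true := by decide +kernel

theorem ent_ok64 : entriesOK cm 205 cEnt64 = true := by decide +kernel

theorem ent_ok65 : entriesOK cm 208 cEnt65 = true := by decide +kernel

theorem ent_ok66 : entriesOK cm 213 cEnt66 = true := by decide +kernel

theorem ent_ok67 : entriesOK cm 218 cEnt67 = true := by decide +kernel

theorem ent_ok68 : entriesOK cm 221 cEnt68 = true := by decide +kernel

theorem ent_ok69 : entriesOK cm 224 cEnt69 = true := by decide +kernel

theorem ent_ok70 : entriesOK cm 227 cEnt70 = true := by decide +kernel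

theorem ent_ok71 : entriesOK cm 229 cEnt71 = true := by decide +kernel

theorem ent_ok72 : entriesOK cm 232 cEnt72 = true := by decide +kernel

theorem ent_ok73 : entriesOK cm 234 cEnt73 = true := by decide +kernel

theorem ent_ok74 : entriesOK cm 237 cEnt74 = true := by decide +kernel

theorem ent_ok75 : entriesOK cm 239 cEnt75 = true := by decide +kernel

theorem ent_ok76 : entriesOK cm 242 cEnt76 = true := by decide +kernel

theorem ent_ok77 : entriesOK cm 245 cEnt77 = true := by decide +kernel

theorem ent_ok78 : entriesOK cm 248 cEnt78 = true := by decide +kernel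

theorem ent_ok79 : entriesOK cm 252 cEnt79 = true := by decide +kernel

end Cfsg.Lib.JankoFour.ClassNumber
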