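import Cfsg.Agent.JankoFour.ClassNumber.Check
import Cfsg.Agent.JankoFour.ClassNumber.Data.Table
import Cfsg.Agent.JankoFour.ClassNumber.Data.Entries
import Cfsg.Agent.JankoFour.ClassNumber.PoolChecks3

/-!
The stored elements arise from earlier ones.
-/

set_option autoImplicit false
set_option maxRecDepth 20000
set_option Elab.async false

namespace Cfsg.Lib.JankoFour.ClassNumber

theorem ent_ok80 : entriesOK cm 254 cEnt80 = true := by decide +kernel

theorem ent_ok81 : entriesOK cm 256 cEnt81 = true := by decide +kernel

theorem ent_ok82 : entriesOK cm 257 cEnt82 = true := by decide +kernel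

theorem ent_ok83 : entriesOK cm 258 cEnt83 = true := by decide +kernel

theorem ent_ok84 : entriesOK cm 259 cEnt84 = true := by decide +kernel

theorem ent_ok85 : entriesOK cm 261 cEnt85 = true := by decide +kernel

theorem ent_ok86 : entriesOK cm 264 cEnt86 = true := by decide +kernel

theorem ent_ok87 : entriesOK cm 268 cEnt87 = true := by decide +kernel

theorem ent_ok88 : entriesOK cm 272 cEnt88 = true := by decide +kernel

theorem ent_ok89 : entriesOK cm 276 cEnt89 = true := by decide +kernel

theorem ent_ok90 : entriesOK cm 280 cEnt90 = true := by decide +kernel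

theorem ent_ok91 : entriesOK cm 284 cEnt91 = true := by decide +kernel

theorem ent_ok92 : entriesOK cm 290 cEnt92 = true := by decide +kernel

theorem ent_ok93 : entriesOK cm 299 cEnt93 = true := by decide +kernel

theorem ent_ok94 : entriesOK cm 304 cEnt94 = true := by decide +kernel

theorem ent_ok95 : entriesOK cm 309 cEnt95 = true := by decide +kernel

theorem ent_ok96 : entriesOK cm 314 cEnt96 = true := by decide +kernel

theorem ent_ok97 : entriesOK cm 318 cEnt97 = true := by decide +kernel

theorem ent_ok98 : entriesOK cm 323 cEnt98 = true := by decide +kernel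

theorem ent_ok99 : entriesOK cm 328 cEnt99 = true := by decide +kernel

end Cfsg.Lib.JankoFour.ClassNumber
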