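import Cfsg.Agent.JankoFour.ClassNumber.Check
import Cfsg.Agent.JankoFour.ClassNumber.Data.Table
import Cfsg.Agent.JankoFour.ClassNumber.Data.Entries
import Cfsg.Agent.JankoFour.ClassNumber.PoolChecks4

/-!
The stored elements arise from earlier ones.
-/

set_option autoImplicit false
set_option maxRecDepth 20000
set_option Elab.async false

namespace Cfsg.Lib.JankoFour.ClassNumber

theorem ent_ok100 : entriesOK cm 333 cEnt100 = true := by decide +kernel

theorem ent_ok101 : entriesOK cm 340 cEnt101 = true := by decide +kernel

theorem ent_ok102 : entriesOK cm 345 cEnt102 = true := by decide +kernel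

theorem ent_ok103 : entriesOK cm 351 cEnt103 = true := by decide +kernel

theorem ent_ok104 : entriesOK cm 355 cEnt104 = true := by decide +kernel

theorem ent_ok105 : entriesOK cm 361 cEnt105 = true := by decide +kernel

theorem ent_ok106 : entriesOK cm 364 cEnt106 = true := by decide +kernel

theorem ent_ok107 : entriesOK cm 367 cEnt107 = true := by decide +kernel

theorem ent_ok108 : entriesOK cm 373 cEnt108 = true := by decide +kernel

theorem ent_ok109 : entriesOK cm 375 cEnt109 = true := by decide +kernel

theorem ent_ok110 : entriesOK cm 376 cEnt110 = true := by decide +kernel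

theorem ent_ok111 : entriesOK cm 377 cEnt111 = true := by decide +kernel

theorem ent_ok112 : entriesOK cm 378 cEnt112 = true := by decide +kernel

theorem ent_ok113 : entriesOK cm 379 cEnt113 = true := by decide +kernel

theorem ent_ok114 : entriesOK cm 380 cEnt114 = true := by decide +kernel

theorem ent_ok115 : entriesOK cm 381 cEnt115 = true := by decide +kernel

theorem ent_ok116 : entriesOK cm 385 cEnt116 = true := by decide +kernel

theorem ent_ok117 : entriesOK cm 394 cEnt117 = true := by decide +kernel

theorem ent_ok118 : entriesOK cm 403 cEnt118 = true := by decide +kernel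

theorem ent_ok119 : entriesOK cm 410 cEnt119 = true := by decide +kernel

end Cfsg.Lib.JankoFour.ClassNumber
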