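import Cfsg.Agent.JankoFour.ClassNumber.Check
import Cfsg.Agent.JankoFour.ClassNumber.Data.Table
import Cfsg.Agent.JankoFour.ClassNumber.Data.Entries
import Cfsg.Agent.JankoFour.ClassNumber.PoolChecks5

/-!
The stored elements arise from earlier ones.
-/

set_option autoImplicit false
set_option maxRecDepth 20000
set_option Elab.async false

namespace Cfsg.Lib.JankoFour.ClassNumber

theorem ent_ok120 : entriesOK cm 413 cEnt120 = true := by decide +kernel

theorem ent_ok121 : entriesOK cm 416 cEnt121 = true := by decide +kernel

theorem ent_ok122 : entriesOK cm 423 cEnt122 = true := by decide +kernel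

theorem ent_ok123 : entriesOK cm 432 cEnt123 = true := by decide +kernel

theorem ent_ok124 : entriesOK cm 444 cEnt124 = true := by decide +kernel

theorem ent_ok125 : entriesOK cm 455 cEnt125 = true := by decide +kernel

theorem ent_ok126 : entriesOK cm 458 cEnt126 = true := by decide +kernel

theorem ent_ok127 : entriesOK cm 460 cEnt127 = true := by decide +kernel

theorem ent_ok128 : entriesOK cm 461 cEnt128 = true := by decide +kernel

theorem ent_ok129 : entriesOK cm 462 cEnt129 = true := by decide +kernel

theorem ent_ok130 : entriesOK cm 463 cEnt130 = true := by decide +kernel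

theorem ent_ok131 : entriesOK cm 465 cEnt131 = true := by decide +kernel

theorem ent_ok132 : entriesOK cm 467 cEnt132 = true := by decide +kernel

theorem ent_ok133 : entriesOK cm 469 cEnt133 = true := by decide +kernel

theorem ent_ok134 : entriesOK cm 472 cEnt134 = true := by decide +kernel

theorem ent_ok135 : entriesOK cm 477 cEnt135 = true := by decide +kernel

theorem ent_ok136 : entriesOK cm 480 cEnt136 = true := by decide +kernel

theorem ent_ok137 : entriesOK cm 481 cEnt137 = true := by decide +kernel

theorem ent_ok138 : entriesOK cm 485 cEnt138 = true := by decide +kernel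

end Cfsg.Lib.JankoFour.ClassNumber
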