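import Cfsg.Agent.JankoFour.ClassNumber.Rank

/-!
Conjugates told apart by their action on a small invariant space, listed as a tree, with a second level of
conjugates that act alike.
-/

set_option autoImplicit false
set_option maxRecDepth 8000

namespace Cfsg.Lib.JankoFour.ClassNumber

open Cfsg Cfsg.Lib.J4Cert Subgroup
open Cfsg.Lib.J4Rep (va mmul idMat va_mmul va_xor va_idMat)

attribute [local irreducible] mB mPow prodM vt tabs4

variable {M : ℕ → List ℕ} {n : ℕ}

/-- Coordinates for an element acting on an invariant space with a basis. -/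
def Acts (B : List ℕ) (d : ℕ) (g : Spor.J4) (C : List ℕ) : Prop :=
  (∀ r ∈ C, r < 2 ^ d) ∧ ∀ c < 2 ^ d, img g (va c B) = va (va c C) B

theorem idD_eq (d : ℕ) {c : ℕ} (hc : c < 2 ^ d) : va c (idD d) = c := by
  refine Nat.eq_of_testBit_eq fun i => ?_
  rw [idD, List.range_eq_range', Cfsg.Lib.J4Rep.va_pows_testBit, Nat.sub_zero]
  by_cases h : i < d
  · simp [h]
  · rw [Nat.testBit_lt_two_pow (lt_of_lt_of_le hc (Nat.pow_le_pow_right (by norm_num) (not_lt.1 h)))]
    simp

theorem idD_lt (d : ℕ) : ∀ r ∈ idD d, r < 2 ^ d := by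
  intro r hr
  simp only [idD, List.mem_map, List.mem_range] at hr
  obtain ⟨i, hi, rfl⟩ := hr
  exact Nat.pow_lt_pow_right (by norm_num) hi

variable {B : List ℕ} {d : ℕ}

theorem Acts.mul (hB : ∀ r ∈ B, r < 2 ^ 112) {g h : Spor.J4} {A A' : List ℕ} (hg : Acts B d g A)
    (hh : Acts B d h A') : Acts B d (g * h) (mmul A A') := by
  refine ⟨fun r hr => ?_, fun c hc => ?_⟩
  · obtain ⟨a, -, rfl⟩ := List.mem_map.mp hr
    exact va_lt_two A' a hh.1
  · rw [img_mul _ _ (va_lt_two B c hB), hg.2 c hc, hh.2 _ (va_lt_two A c hg.1), va_mmul A A']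

theorem Acts.one (hB : ∀ r ∈ B, r < 2 ^ 112) : Acts B d 1 (idD d) :=
  ⟨idD_lt d, fun c hc => by rw [img_one (va_lt_two B c hB), idD_eq d hc]⟩

theorem Acts.of_check (hB : ∀ r ∈ B, r < 2 ^ 112) {g : Spor.J4} {A C : List ℕ} (hg : MOK g A)
    (h : actsAs B d A C = true) : Acts B d g C := by
  simp only [actsAs, Bool.and_eq_true, List.all_eq_true, Nat.blt_eq] at h
  obtain ⟨⟨-, hC⟩, he⟩ := h
  refine ⟨hC, fun c _ => ?_⟩
  rw [va_mmul, leq_eq he, ← va_mmul, img, dif_pos (va_lt_two B c hB)]
  exact hg.2 ⟨va c B, va_lt_two B c hB⟩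

/-- The images of the whole small space. -/
def fAct (B : List ℕ) (d : ℕ) (g : Spor.J4) : Fin (2 ^ d) → ℕ := fun c => img g (va c.val B)

theorem Acts.fAct_eq {g h : Spor.J4} {C : List ℕ} (hg : Acts B d g C) (hh : Acts B d h C) :
    fAct B d g = fAct B d h := funext fun c => (hg.2 c c.2).trans (hh.2 c c.2).symm

theorem unpack_lt (d : ℕ) : ∀ (m s : ℕ), ∀ r ∈ unpackD d m s, r < 2 ^ d
  | 0, _, r, hr => by simp [unpackD] at hr
  | m + 1, s, r, hr => by
    rw [unpackD, List.mem_cons] at hr
    rcases hr with rfl | hr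
    · show s &&& (2 ^ d - 1) < 2 ^ d
      rw [Nat.and_two_pow_sub_one_eq_mod]
      exact Nat.mod_lt _ (Nat.two_pow_pos d)
    · exact unpack_lt d m _ r hr

theorem unpack_len (d : ℕ) : ∀ (m s : ℕ), (unpackD d m s).length = m
  | 0, _ => rfl
  | m + 1, s => by rw [unpackD, List.length_cons, unpack_len d m]

theorem unpack_inj (d : ℕ) : ∀ (m s t : ℕ), s < 2 ^ (d * m) → t < 2 ^ (d * m) →
    unpackD d m s = unpackD d m t → s = t
  | 0, s, t, hs, ht, _ => by
    rw [Nat.mul_zero, pow_zero] at hs ht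
    omega
  | m + 1, s, t, hs, ht, he => by
    rw [unpackD, unpackD, List.cons.injEq] at he
    obtain ⟨h1, h2⟩ := he
    change s &&& (2 ^ d - 1) = t &&& (2 ^ d - 1) at h1
    rw [Nat.and_two_pow_sub_one_eq_mod, Nat.and_two_pow_sub_one_eq_mod] at h1
    have hb : ∀ u, u < 2 ^ (d * (m + 1)) → u >>> d < 2 ^ (d * m) := fun u hu => by
      rw [Nat.shiftRight_eq_div_pow]
      refine Nat.div_lt_of_lt_mul ?_
      rwa [← pow_add, show d + d * m = d * (m + 1) by ring]
    have h3 := unpack_inj d m _ _ (hb s hs) (hb t ht) h2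
    change s >>> d = t >>> d at h3
    rw [Nat.shiftRight_eq_div_pow, Nat.shiftRight_eq_div_pow] at h3
    rw [← Nat.mod_add_div s (2 ^ d), ← Nat.mod_add_div t (2 ^ d), h1, h3]

theorem acts_unique {P : List ℕ} (hP : leftInv d B P = true) {g : Spor.J4} {C C' : List ℕ} (hl : C.length = d)
    (hl' : C'.length = d) (h : Acts B d g C) (h' : Acts B d g C') : C = C' := by
  refine List.ext_getElem (hl.trans hl'.symm) fun i h1 h2 => ?_
  have hi : 2 ^ i < 2 ^ d := Nat.pow_lt_pow_right (by norm_num) (hl ▸ h1)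
  have e := congrArg (fun v => va v P) ((h.2 _ hi).symm.trans (h'.2 _ hi))
  rw [va_mmul B P, va_mmul B P, leq_eq hP] at e
  rw [va_unit C i h1, va_unit C' i h2, List.getD_eq_getElem _ _ h1, List.getD_eq_getElem _ _ h2,
    idD_eq d (h.1 _ (List.getElem_mem h1)), idD_eq d (h'.1 _ (List.getElem_mem h2))] at e
  exact e

/-- The data of a small space and the matrices of the letters on it. -/
structure Space (M : ℕ → List ℕ) (n : ℕ) (B P : List ℕ) (d : ℕ) (C : ℕ → List ℕ) (x : ℕ) (gens : List ℕ) : Prop where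
  hB : ∀ r ∈ B, r < 2 ^ 112
  hP : leftInv d B P = true
  hx : x < 2 * n
  hCx : actsAs B d (M x) (C x) = true
  hg : ∀ g ∈ gens, g < 2 * n
  hC : ∀ g ∈ gens, actsAs B d (M g) (C g) = true ∧ actsAs B d (M (iv g)) (C (iv g)) = true

variable {P : List ℕ} {C : ℕ → List ℕ} {x : ℕ} {gens : List ℕ}

theorem Space.letter (h : PoolOK M n) (S : Space M n B P d C x gens) {j : ℕ}
    (hj : gens.any (fun g => Nat.beq g j || Nat.beq (iv g) j) = true) :
    (j < 2 * n ∧ Acts B d (el M j) (C j)) ∧ Acts B d (el M (iv j)) (C (iv j)) := by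
  obtain ⟨g, hg, hor⟩ := List.any_eq_true.mp hj
  have h1 := Acts.of_check S.hB (h.el_ok (S.hg g hg)) (S.hC g hg).1
  have h2 := Acts.of_check S.hB (h.el_ok (iv_lt (S.hg g hg))) (S.hC g hg).2
  rw [Bool.or_eq_true] at hor
  rcases hor with e | e
  · exact Nat.eq_of_beq_eq_true e ▸ ⟨⟨S.hg g hg, h1⟩, h2⟩
  · rw [← Nat.eq_of_beq_eq_true e, iv_iv]
    exact ⟨⟨iv_lt (S.hg g hg), h2⟩, h1⟩

theorem Space.node (h : PoolOK M n) (S : Space M n B P d C x gens) {D : Subgroup Spor.J4}
    (hD : ∀ g ∈ gens, el M g ∈ D) {T : Tr Node} {m : ℕ}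
    (hT : ∀ i < m, nodeOK T C gens d (C x) m i = true) :
    ∀ i < m, ∃ g ∈ D, ∀ c, Acts B d c (C x) → Acts B d (g * c * g⁻¹) (unpackD d d (T.get i).1) := by
  intro i
  induction hdep : (T.get i).2.2.2 using Nat.strong_induction_on generalizing i with
  | _ dep ih =>
    intro hi
    have hn := hT i hi
    rcases hget : T.get i with ⟨s, p, j, dp'⟩
    rw [hget] at hdep
    simp only [nodeOK, hget, Bool.and_eq_true] at hn
    replace hn := hn.2
    cases h0 : Nat.beq dp' 0
    · rw [h0, cond_false] at hn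
      rcases hgp : T.get p with ⟨sp, p2, j2, dp⟩
      rw [hgp] at hn
      simp only [Bool.and_eq_true, Nat.blt_eq] at hn
      obtain ⟨⟨⟨hp, hlt⟩, hj⟩, he⟩ := hn
      obtain ⟨g, hg, hga⟩ := ih dp (by subst hdep; exact hlt) p (by rw [hgp]) hp
      obtain ⟨⟨hjn, hCj⟩, hCi⟩ := S.letter h hj
      refine ⟨el M j * g, mul_mem ?_ hg, fun c hc => ?_⟩
      · obtain ⟨g', hg', hor⟩ := List.any_eq_true.mp hj
        rw [Bool.or_eq_true] at hor
        rcases hor with e | e
        · exact Nat.eq_of_beq_eq_true e ▸ hD g' hg'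
        · rw [← Nat.eq_of_beq_eq_true e, h.el_iv (S.hg g' hg')]
          exact inv_mem (hD g' hg')
      · have := hga c hc
        rw [hgp] at this
        show Acts B d _ (unpackD d d s)
        rw [leq_eq he, show el M j * g * c * (el M j * g)⁻¹ = el M j * (g * c * g⁻¹) * el M (iv j) by
          rw [h.el_iv hjn]; group]
        exact (hCj.mul S.hB this).mul S.hB hCi
    · rw [h0, cond_true] at hn
      exact ⟨1, one_mem _, fun c hc => by
        show Acts B d _ (unpackD d d s)
        rw [leq_eq hn, one_mul, inv_one, mul_one]; exact hc⟩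

theorem prodC_acts (h : PoolOK M n) (S : Space M n B P d C x gens) : ∀ (w : List ℕ) (a : Spor.J4) (A : List ℕ),
    (∀ j ∈ w, gens.any (fun g => Nat.beq g j || Nat.beq (iv g) j) = true ∨ j = x) → Acts B d a A →
    Acts B d (a * wv M w) (w.foldl (fun A j => mmul A (C j)) A)
  | [], a, A, _, ha => by simpa [wv] using ha
  | j :: w, a, A, hw, ha => by
    rw [List.forall_mem_cons] at hw
    rw [wv, List.map_cons, List.prod_cons, ← mul_assoc, List.foldl_cons]
    refine prodC_acts h S w _ _ hw.2 (ha.mul S.hB ?_)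
    rcases hw.1 with hj | rfl
    · exact (S.letter h hj).1.2
    · exact Acts.of_check S.hB (h.el_ok S.hx) S.hCx

/-- The bound from a tree of actions and a list of conjugates that act alike. -/
theorem Space.bound (h : PoolOK M n) (S : Space M n B P d C x gens) {y k : ℕ} (hy : y < 2 * n)
    (hp : powOK M x k y = true) (hc : commList M y gens = true) {T : Tr Node} {m : ℕ}
    (hT : ∀ i < m, nodeOK T C gens d (C x) m i = true) (hinc : ∀ i, i + 1 < m → (T.get i).1 < (T.get (i + 1)).1)
    {us : List ℕ} {hs : List (List ℕ)} (hu : us.all (fun u => Nat.blt u (2 ^ 112)) = true)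
    (hl : lettersOK gens hs = true) (hlev : levelTwoOK C d x hs = true) (hk : conjOK M us x hs = true) :
    m * hs.length * Nat.card ↥(centralizer ({el M x} : Set Spor.J4)) ≤
      Nat.card ↥(centralizer ({el M y} : Set Spor.J4)) := by
  haveI := finite_J4
  have hlt : ∀ i < m, (T.get i).1 < 2 ^ (d * d) := by
    intro i hi
    have hn := hT i hi
    rcases hget : T.get i with ⟨s, p, j, dp⟩
    simp only [nodeOK, hget, Bool.and_eq_true, Nat.blt_eq] at hn
    exact hn.1
  have hD := comm_mem h hy S.hg hc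
  choose g hg hga using fun i : Fin m => S.node h hD hT i i.2
  have hx0 : Acts B d (el M x) (C x) := Acts.of_check S.hB (h.el_ok S.hx) S.hCx
  have hmono : ∀ i j, i < j → j < m → (T.get i).1 < (T.get j).1 := by
    intro i j hij hj
    induction j, hij using Nat.le_induction with
    | base => exact hinc i hj
    | succ j _ ih => exact (ih (by omega)).trans (hinc j hj)
  refine mul_mul_card_le (cent_le h S.hx hy hp) g (fun j : Fin hs.length => wv M hs[j]) hg
    (fun j => mem_of_letters h S.hg hl hD (List.getElem_mem _)) (fAct B d) ?_ ?_ ?_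
  · intro i j
    refine Acts.fAct_eq (hga i _ ?_) (hga i _ hx0)
    have hw : ∀ l ∈ hs[j], gens.any (fun g => Nat.beq g l || Nat.beq (iv g) l) = true := by
      intro l hl'
      exact List.all_eq_true.mp (List.all_eq_true.mp hl _ (List.getElem_mem _)) l hl'
    have hwn := letters_lt S.hg hl (List.getElem_mem (l := hs) (n := j.val) j.isLt)
    have hwi : ∀ l ∈ ivW hs[j], gens.any (fun g => Nat.beq g l || Nat.beq (iv g) l) = true := by
      intro l hl'
      rw [ivW, List.mem_reverse, List.mem_map] at hl'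
      obtain ⟨i', hi', rfl⟩ := hl'
      obtain ⟨g', hg', hor⟩ := List.any_eq_true.mp (hw i' hi')
      refine List.any_eq_true.mpr ⟨g', hg', ?_⟩
      rw [Bool.or_eq_true] at hor ⊢
      rcases hor with e | e
      · exact Or.inr (Nat.eq_of_beq_eq_true e ▸ Nat.beq_refl _)
      · left
        rw [← Nat.eq_of_beq_eq_true e, iv_iv]
        exact Nat.beq_refl _
    have e := prodC_acts h S (hs[j] ++ x :: ivW hs[j]) 1 (idD d) (fun l hl' => by
      rcases List.mem_append.mp hl' with hl' | hl'
      · exact Or.inl (hw l hl')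
      · rcases List.mem_cons.mp hl' with rfl | hl'
        · exact Or.inr rfl
        · exact Or.inl (hwi l hl')) (Acts.one S.hB)
    have hlev' := List.all_eq_true.mp hlev hs[j] (List.getElem_mem _)
    rw [prodC] at hlev'
    rw [leq_eq hlev', one_mul] at e
    refine (congrArg (fun q => Acts B d q (C x)) ?_).mp e
    simp only [Fin.getElem_fin] at hwn ⊢
    rw [← wv_ivW h hwn]
    simp only [wv, List.map_append, List.map_cons, List.prod_append, List.prod_cons, mul_assoc]
  · intro i j e
    have e' : Acts B d (g j * el M x * (g j)⁻¹) (unpackD d d (T.get i).1) := by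
      refine ⟨unpack_lt d d _, fun c hc => ?_⟩
      have := congrFun e ⟨c, hc⟩
      simp only [fAct] at this
      rw [← this, (hga i _ hx0).2 c hc]
    have := acts_unique S.hP (unpack_len d d _) (unpack_len d d _) e' (hga j _ hx0)
    have hs' := unpack_inj d d _ _ (hlt i i.2) (hlt j j.2) this
    rcases lt_trichotomy i.val j.val with hlt | heq | hgt
    · exact absurd hs' (Nat.ne_of_lt (hmono _ _ hlt j.2))
    · exact Fin.ext heq
    · exact absurd hs'.symm (Nat.ne_of_lt (hmono _ _ hgt i.2))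
  · intro i j e
    have := (incr_pairwise hk).imp (S := (· ≠ ·)) fun hab => Nat.ne_of_lt hab
    have hwn := fun l : Fin hs.length => letters_lt S.hg hl (List.getElem_mem (l := hs) (n := l.val) l.isLt)
    refine Fin.ext ((List.Nodup.getElem_inj_iff (this : (hs.map (cKey M us x)).Nodup) (hi := by simp) (hj := by simp)).mp ?_)
    rw [List.getElem_map, List.getElem_map, cKey_eq h hu S.hx (hwn i), cKey_eq h hu S.hx (hwn j)]
    exact congrArg (fun q => packW (us.map (img q))) e

end Cfsg.Lib.JankoFour.ClassNumber
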