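import Cfsg.Agent.JankoFour.ClassNumber.Check
import Cfsg.Agent.JankoFour.ClassNumber.Data.Table
import Cfsg.Agent.JankoFour.ClassNumber.Data.Chains
import Cfsg.Agent.JankoFour.ClassNumber.Data.SpaceB
import Cfsg.Agent.JankoFour.ClassNumber.Data.SpaceC
import Cfsg.Agent.JankoFour.ClassNumber.Data.NodesB

/-!
The small spaces, their second levels, and the first tree.
-/

set_option autoImplicit false
set_option maxRecDepth 20000
set_option Elab.async false

namespace Cfsg.Lib.JankoFour.ClassNumber

open Cfsg.Lib.J4Cert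

theorem spaceB_ok : basB.all (fun r => Nat.blt r (2 ^ 112)) = true ∧ leftInv 10 basB pinvB = true ∧
    actsAs basB 10 (cm 418) (actB 418) = true ∧ gensSB.all (fun g => Nat.blt g 980) = true ∧
    (gensSB.all fun g => actsAs basB 10 (cm g) (actB g) && actsAs basB 10 (cm (iv g)) (actB (iv g))) = true := by
  decide +kernel

theorem levelB_ok : usSB.all (fun u => Nat.blt u (2 ^ 112)) = true ∧ powOK cm 418 2 10 = true ∧
    commList cm 10 gensSB = true ∧ lettersOK gensSB wsSB = true ∧ levelTwoOK actB 10 418 wsSB = true ∧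
    conjOK cm usSB 418 wsSB = true ∧ wsSB.length = 192 := by decide +kernel

theorem spaceC_ok : basC.all (fun r => Nat.blt r (2 ^ 112)) = true ∧ leftInv 12 basC pinvC = true ∧
    actsAs basC 12 (cm 422) (actC 422) = true ∧ gensSC.all (fun g => Nat.blt g 980) = true ∧
    (gensSC.all fun g => actsAs basC 12 (cm g) (actC g) && actsAs basC 12 (cm (iv g)) (actC (iv g))) = true := by
  decide +kernel

theorem levelC_ok : usSC.all (fun u => Nat.blt u (2 ^ 112)) = true ∧ powOK cm 422 2 0 = true ∧
    commList cm 0 gensSC = true ∧ lettersOK gensSC wsSC = true ∧ levelTwoOK actC 12 422 wsSC = true ∧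
    conjOK cm usSC 422 wsSC = true ∧ wsSC.length = 1 := by decide +kernel

theorem treeB_ok : treeOK treeB actB gensSB 10 (actB 418) 1155 0 1155 = true := by decide +kernel

end Cfsg.Lib.JankoFour.ClassNumber
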