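import Cfsg.Agent.JankoFour.ClassNumber.Check
import Cfsg.Agent.JankoFour.ClassNumber.Data.Table
import Cfsg.Agent.JankoFour.ClassNumber.Data.Chains
import Cfsg.Agent.JankoFour.ClassNumber.Data.SpaceC
import Cfsg.Agent.JankoFour.ClassNumber.Data.NodesC6

/-!
A part of the second tree.
-/

set_option autoImplicit false
set_option maxRecDepth 20000
set_option Elab.async false

namespace Cfsg.Lib.JankoFour.ClassNumber

open Cfsg.Lib.J4Cert

theorem treeC_ok0 : treeOK treeC actC gensSC 12 (actC 422) 42240 0 440 = true := by decide +kernel

theorem treeC_ok1 : treeOK treeC actC gensSC 12 (actC 422) 42240 440 440 = true := by decide +kernel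

theorem treeC_ok2 : treeOK treeC actC gensSC 12 (actC 422) 42240 880 440 = true := by decide +kernel

theorem treeC_ok3 : treeOK treeC actC gensSC 12 (actC 422) 42240 1320 440 = true := by decide +kernel

theorem treeC_ok4 : treeOK treeC actC gensSC 12 (actC 422) 42240 1760 440 = true := by decide +kernel

theorem treeC_ok5 : treeOK treeC actC gensSC 12 (actC 422) 42240 2200 440 = true := by decide +kernel

theorem treeC_ok6 : treeOK treeC actC gensSC 12 (actC 422) 42240 2640 440 = true := by decide +kernel

theorem treeC_ok7 : treeOK treeC actC gensSC 12 (actC 422) 42240 3080 440 = true := by decide +kernel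

theorem treeC_ok8 : treeOK treeC actC gensSC 12 (actC 422) 42240 3520 440 = true := by decide +kernel

theorem treeC_ok9 : treeOK treeC actC gensSC 12 (actC 422) 42240 3960 440 = true := by decide +kernel

theorem treeC_ok10 : treeOK treeC actC gensSC 12 (actC 422) 42240 4400 440 = true := by decide +kernel

theorem treeC_ok11 : treeOK treeC actC gensSC 12 (actC 422) 42240 4840 440 = true := by decide +kernel

theorem treeC_ok12 : treeOK treeC actC gensSC 12 (actC 422) 42240 5280 440 = true := by decide +kernel

theorem treeC_ok13 : treeOK treeC actC gensSC 12 (actC 422) 42240 5720 440 = true := by decide +kernel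

theorem treeC_ok14 : treeOK treeC actC gensSC 12 (actC 422) 42240 6160 440 = true := by decide +kernel

theorem treeC_ok15 : treeOK treeC actC gensSC 12 (actC 422) 42240 6600 440 = true := by decide +kernel

theorem treeC_ok16 : treeOK treeC actC gensSC 12 (actC 422) 42240 7040 440 = true := by decide +kernel

theorem treeC_ok17 : treeOK treeC actC gensSC 12 (actC 422) 42240 7480 440 = true := by decide +kernel

theorem treeC_ok18 : treeOK treeC actC gensSC 12 (actC 422) 42240 7920 440 = true := by decide +kernel

theorem treeC_ok19 : treeOK treeC actC gensSC 12 (actC 422) 42240 8360 440 = true := by decide +kernel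

theorem treeC_ok20 : treeOK treeC actC gensSC 12 (actC 422) 42240 8800 440 = true := by decide +kernel

theorem treeC_ok21 : treeOK treeC actC gensSC 12 (actC 422) 42240 9240 440 = true := by decide +kernel

theorem treeC_ok22 : treeOK treeC actC gensSC 12 (actC 422) 42240 9680 440 = true := by decide +kernel

theorem treeC_ok23 : treeOK treeC actC gensSC 12 (actC 422) 42240 10120 440 = true := by decide +kernel

end Cfsg.Lib.JankoFour.ClassNumber
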