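import Cfsg.Agent.JankoFour.ClassNumber.Check
import Cfsg.Agent.JankoFour.ClassNumber.Data.Table
import Cfsg.Agent.JankoFour.ClassNumber.Data.Chains
import Cfsg.Agent.JankoFour.ClassNumber.Data.SpaceC
import Cfsg.Agent.JankoFour.ClassNumber.Data.NodesC6

/-!
A part of the second tree.
-/

set_option autoImplicit false
set_option maxRecDepth 20000
set_option Elab.async false

namespace Cfsg.Lib.JankoFour.ClassNumber

open Cfsg.Lib.J4Cert

theorem treeC_ok48 : treeOK treeC actC gensSC 12 (actC 422) 42240 21120 440 = true := by decide +kernel

theorem treeC_ok49 : treeOK treeC actC gensSC 12 (actC 422) 42240 21560 440 = true := by decide +kernel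

theorem treeC_ok50 : treeOK treeC actC gensSC 12 (actC 422) 42240 22000 440 = true := by decide +kernel

theorem treeC_ok51 : treeOK treeC actC gensSC 12 (actC 422) 42240 22440 440 = true := by decide +kernel

theorem treeC_ok52 : treeOK treeC actC gensSC 12 (actC 422) 42240 22880 440 = true := by decide +kernel

theorem treeC_ok53 : treeOK treeC actC gensSC 12 (actC 422) 42240 23320 440 = true := by decide +kernel

theorem treeC_ok54 : treeOK treeC actC gensSC 12 (actC 422) 42240 23760 440 = true := by decide +kernel

theorem treeC_ok55 : treeOK treeC actC gensSC 12 (actC 422) 42240 24200 440 = true := by decide +kernel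

theorem treeC_ok56 : treeOK treeC actC gensSC 12 (actC 422) 42240 24640 440 = true := by decide +kernel

theorem treeC_ok57 : treeOK treeC actC gensSC 12 (actC 422) 42240 25080 440 = true := by decide +kernel

theorem treeC_ok58 : treeOK treeC actC gensSC 12 (actC 422) 42240 25520 440 = true := by decide +kernel

theorem treeC_ok59 : treeOK treeC actC gensSC 12 (actC 422) 42240 25960 440 = true := by decide +kernel

theorem treeC_ok60 : treeOK treeC actC gensSC 12 (actC 422) 42240 26400 440 = true := by decide +kernel

theorem treeC_ok61 : treeOK treeC actC gensSC 12 (actC 422) 42240 26840 440 = true := by decide +kernel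

theorem treeC_ok62 : treeOK treeC actC gensSC 12 (actC 422) 42240 27280 440 = true := by decide +kernel

theorem treeC_ok63 : treeOK treeC actC gensSC 12 (actC 422) 42240 27720 440 = true := by decide +kernel

theorem treeC_ok64 : treeOK treeC actC gensSC 12 (actC 422) 42240 28160 440 = true := by decide +kernel

theorem treeC_ok65 : treeOK treeC actC gensSC 12 (actC 422) 42240 28600 440 = true := by decide +kernel

theorem treeC_ok66 : treeOK treeC actC gensSC 12 (actC 422) 42240 29040 440 = true := by decide +kernel

theorem treeC_ok67 : treeOK treeC actC gensSC 12 (actC 422) 42240 29480 440 = true := by decide +kernel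

theorem treeC_ok68 : treeOK treeC actC gensSC 12 (actC 422) 42240 29920 440 = true := by decide +kernel

theorem treeC_ok69 : treeOK treeC actC gensSC 12 (actC 422) 42240 30360 440 = true := by decide +kernel

theorem treeC_ok70 : treeOK treeC actC gensSC 12 (actC 422) 42240 30800 440 = true := by decide +kernel

theorem treeC_ok71 : treeOK treeC actC gensSC 12 (actC 422) 42240 31240 440 = true := by decide +kernel

end Cfsg.Lib.JankoFour.ClassNumber
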