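import Cfsg.Agent.JankoFour.ClassNumber.Check
import Cfsg.Agent.JankoFour.ClassNumber.Data.Table
import Cfsg.Agent.JankoFour.ClassNumber.Data.Chains
import Cfsg.Agent.JankoFour.ClassNumber.Data.SpaceC
import Cfsg.Agent.JankoFour.ClassNumber.Data.NodesC6

/-!
A part of the second tree.
-/

set_option autoImplicit false
set_option maxRecDepth 20000
set_option Elab.async false

namespace Cfsg.Lib.JankoFour.ClassNumber

open Cfsg.Lib.J4Cert

theorem treeC_ok72 : treeOK treeC actC gensSC 12 (actC 422) 42240 31680 440 = true := by decide +kernel

theorem treeC_ok73 : treeOK treeC actC gensSC 12 (actC 422) 42240 32120 440 = true := by decide +kernel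

theorem treeC_ok74 : treeOK treeC actC gensSC 12 (actC 422) 42240 32560 440 = true := by decide +kernel

theorem treeC_ok75 : treeOK treeC actC gensSC 12 (actC 422) 42240 33000 440 = true := by decide +kernel

theorem treeC_ok76 : treeOK treeC actC gensSC 12 (actC 422) 42240 33440 440 = true := by decide +kernel

theorem treeC_ok77 : treeOK treeC actC gensSC 12 (actC 422) 42240 33880 440 = true := by decide +kernel

theorem treeC_ok78 : treeOK treeC actC gensSC 12 (actC 422) 42240 34320 440 = true := by decide +kernel

theorem treeC_ok79 : treeOK treeC actC gensSC 12 (actC 422) 42240 34760 440 = true := by decide +kernel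

theorem treeC_ok80 : treeOK treeC actC gensSC 12 (actC 422) 42240 35200 440 = true := by decide +kernel

theorem treeC_ok81 : treeOK treeC actC gensSC 12 (actC 422) 42240 35640 440 = true := by decide +kernel

theorem treeC_ok82 : treeOK treeC actC gensSC 12 (actC 422) 42240 36080 440 = true := by decide +kernel

theorem treeC_ok83 : treeOK treeC actC gensSC 12 (actC 422) 42240 36520 440 = true := by decide +kernel

theorem treeC_ok84 : treeOK treeC actC gensSC 12 (actC 422) 42240 36960 440 = true := by decide +kernel

theorem treeC_ok85 : treeOK treeC actC gensSC 12 (actC 422) 42240 37400 440 = true := by decide +kernel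

theorem treeC_ok86 : treeOK treeC actC gensSC 12 (actC 422) 42240 37840 440 = true := by decide +kernel

theorem treeC_ok87 : treeOK treeC actC gensSC 12 (actC 422) 42240 38280 440 = true := by decide +kernel

theorem treeC_ok88 : treeOK treeC actC gensSC 12 (actC 422) 42240 38720 440 = true := by decide +kernel

theorem treeC_ok89 : treeOK treeC actC gensSC 12 (actC 422) 42240 39160 440 = true := by decide +kernel

theorem treeC_ok90 : treeOK treeC actC gensSC 12 (actC 422) 42240 39600 440 = true := by decide +kernel

theorem treeC_ok91 : treeOK treeC actC gensSC 12 (actC 422) 42240 40040 440 = true := by decide +kernel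

theorem treeC_ok92 : treeOK treeC actC gensSC 12 (actC 422) 42240 40480 440 = true := by decide +kernel

theorem treeC_ok93 : treeOK treeC actC gensSC 12 (actC 422) 42240 40920 440 = true := by decide +kernel

theorem treeC_ok94 : treeOK treeC actC gensSC 12 (actC 422) 42240 41360 440 = true := by decide +kernel

theorem treeC_ok95 : treeOK treeC actC gensSC 12 (actC 422) 42240 41800 440 = true := by decide +kernel

end Cfsg.Lib.JankoFour.ClassNumber
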