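import Cfsg.Agent.JankoFour.ClassNumber.Eleven
import Cfsg.Agent.JankoFour.ClassNumber.Small
import Cfsg.Agent.JankoFour.ClassNumber.OrderChecks
import Cfsg.Agent.JankoFour.ClassNumber.ListChecks
import Cfsg.Agent.JankoFour.ClassNumber.SpaceChecks
import Cfsg.Agent.JankoFour.ClassNumber.ChainChecks0
import Cfsg.Agent.JankoFour.ClassNumber.ChainChecks1
import Cfsg.Agent.JankoFour.ClassNumber.ChainChecks2
import Cfsg.Agent.JankoFour.ClassNumber.ChainChecks3
import Cfsg.Agent.JankoFour.ClassNumber.TreeChecks0
import Cfsg.Agent.JankoFour.ClassNumber.TreeChecks1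
import Cfsg.Agent.JankoFour.ClassNumber.TreeChecks2
import Cfsg.Agent.JankoFour.ClassNumber.TreeChecks3
import Cfsg.Agent.JankoFour.ClassNumber.PoolChecks0
import Cfsg.Agent.JankoFour.ClassNumber.PoolChecks1
import Cfsg.Agent.JankoFour.ClassNumber.PoolChecks2
import Cfsg.Agent.JankoFour.ClassNumber.PoolChecks3
import Cfsg.Agent.JankoFour.ClassNumber.PoolChecks4
import Cfsg.Agent.JankoFour.ClassNumber.PoolChecks5
import Cfsg.Agent.JankoFour.ClassNumber.PoolChecks6

/-!
The presented group has 62 classes.
-/

set_option autoImplicit false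
set_option maxRecDepth 20000
set_option maxHeartbeats 4000000
set_option linter.style.haveILetI false

namespace Cfsg.Lib.JankoFour.ClassNumber

open Cfsg Cfsg.Lib.J4Cert Subgroup
open Cfsg.Lib.J4Rep (idMat)
open Cfsg.Lib.J4Eleven (trPar matG_trace matG_trace_conj)

attribute [local irreducible] mB mPow prodM vt tabs4 cm vfold trPar idMat

/-- All stored matrices belong to elements. -/
theorem pool : PoolOK cm cN := by
  have p0 : PoolOK cm 27 := PoolOK.extends cEnt0 seeds_ok ent_ok0
  have p1 : PoolOK cm 30 := PoolOK.extends cEnt1 p0 ent_ok1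
  have p2 : PoolOK cm 34 := PoolOK.extends cEnt2 p1 ent_ok2
  have p3 : PoolOK cm 39 := PoolOK.extends cEnt3 p2 ent_ok3
  have p4 : PoolOK cm 42 := PoolOK.extends cEnt4 p3 ent_ok4
  have p5 : PoolOK cm 45 := PoolOK.extends cEnt5 p4 ent_ok5
  have p6 : PoolOK cm 47 := PoolOK.extends cEnt6 p5 ent_ok6
  have p7 : PoolOK cm 50 := PoolOK.extends cEnt7 p6 ent_ok7
  have p8 : PoolOK cm 52 := PoolOK.extends cEnt8 p7 ent_ok8
  have p9 : PoolOK cm 54 := PoolOK.extends cEnt9 p8 ent_ok9
  have p10 : PoolOK cm 55 := PoolOK.extends cEnt10 p9 ent_ok10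
  have p11 : PoolOK cm 56 := PoolOK.extends cEnt11 p10 ent_ok11
  have p12 : PoolOK cm 57 := PoolOK.extends cEnt12 p11 ent_ok12
  have p13 : PoolOK cm 58 := PoolOK.extends cEnt13 p12 ent_ok13
  have p14 : PoolOK cm 61 := PoolOK.extends cEnt14 p13 ent_ok14
  have p15 : PoolOK cm 64 := PoolOK.extends cEnt15 p14 ent_ok15
  have p16 : PoolOK cm 67 := PoolOK.extends cEnt16 p15 ent_ok16
  have p17 : PoolOK cm 70 := PoolOK.extends cEnt17 p16 ent_ok17
  have p18 : PoolOK cm 73 := PoolOK.extends cEnt18 p17 ent_ok18
  have p19 : PoolOK cm 75 := PoolOK.extends cEnt19 p18 ent_ok19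
  have p20 : PoolOK cm 76 := PoolOK.extends cEnt20 p19 ent_ok20
  have p21 : PoolOK cm 77 := PoolOK.extends cEnt21 p20 ent_ok21
  have p22 : PoolOK cm 80 := PoolOK.extends cEnt22 p21 ent_ok22
  have p23 : PoolOK cm 85 := PoolOK.extends cEnt23 p22 ent_ok23
  have p24 : PoolOK cm 91 := PoolOK.extends cEnt24 p23 ent_ok24
  have p25 : PoolOK cm 94 := PoolOK.extends cEnt25 p24 ent_ok25
  have p26 : PoolOK cm 95 := PoolOK.extends cEnt26 p25 ent_ok26
  have p27 : PoolOK cm 101 := PoolOK.extends cEnt27 p26 ent_ok27
  have p28 : PoolOK cm 105 := PoolOK.extends cEnt28 p27 ent_ok28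
  have p29 : PoolOK cm 108 := PoolOK.extends cEnt29 p28 ent_ok29
  have p30 : PoolOK cm 112 := PoolOK.extends cEnt30 p29 ent_ok30
  have p31 : PoolOK cm 115 := PoolOK.extends cEnt31 p30 ent_ok31
  have p32 : PoolOK cm 119 := PoolOK.extends cEnt32 p31 ent_ok32
  have p33 : PoolOK cm 121 := PoolOK.extends cEnt33 p32 ent_ok33
  have p34 : PoolOK cm 122 := PoolOK.extends cEnt34 p33 ent_ok34
  have p35 : PoolOK cm 123 := PoolOK.extends cEnt35 p34 ent_ok35
  have p36 : PoolOK cm 124 := PoolOK.extends cEnt36 p35 ent_ok36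
  have p37 : PoolOK cm 125 := PoolOK.extends cEnt37 p36 ent_ok37
  have p38 : PoolOK cm 127 := PoolOK.extends cEnt38 p37 ent_ok38
  have p39 : PoolOK cm 129 := PoolOK.extends cEnt39 p38 ent_ok39
  have p40 : PoolOK cm 135 := PoolOK.extends cEnt40 p39 ent_ok40
  have p41 : PoolOK cm 140 := PoolOK.extends cEnt41 p40 ent_ok41
  have p42 : PoolOK cm 143 := PoolOK.extends cEnt42 p41 ent_ok42
  have p43 : PoolOK cm 144 := PoolOK.extends cEnt43 p42 ent_ok43
  have p44 : PoolOK cm 146 := PoolOK.extends cEnt44 p43 ent_ok44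
  have p45 : PoolOK cm 150 := PoolOK.extends cEnt45 p44 ent_ok45
  have p46 : PoolOK cm 156 := PoolOK.extends cEnt46 p45 ent_ok46
  have p47 : PoolOK cm 160 := PoolOK.extends cEnt47 p46 ent_ok47
  have p48 : PoolOK cm 162 := PoolOK.extends cEnt48 p47 ent_ok48
  have p49 : PoolOK cm 166 := PoolOK.extends cEnt49 p48 ent_ok49
  have p50 : PoolOK cm 169 := PoolOK.extends cEnt50 p49 ent_ok50
  have p51 : PoolOK cm 172 := PoolOK.extends cEnt51 p50 ent_ok51
  have p52 : PoolOK cm 176 := PoolOK.extends cEnt52 p51 ent_ok52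
  have p53 : PoolOK cm 179 := PoolOK.extends cEnt53 p52 ent_ok53
  have p54 : PoolOK cm 180 := PoolOK.extends cEnt54 p53 ent_ok54
  have p55 : PoolOK cm 181 := PoolOK.extends cEnt55 p54 ent_ok55
  have p56 : PoolOK cm 183 := PoolOK.extends cEnt56 p55 ent_ok56
  have p57 : PoolOK cm 188 := PoolOK.extends cEnt57 p56 ent_ok57
  have p58 : PoolOK cm 193 := PoolOK.extends cEnt58 p57 ent_ok58
  have p59 : PoolOK cm 198 := PoolOK.extends cEnt59 p58 ent_ok59
  have p60 : PoolOK cm 199 := PoolOK.extends cEnt60 p59 ent_ok60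
  have p61 : PoolOK cm 200 := PoolOK.extends cEnt61 p60 ent_ok61
  have p62 : PoolOK cm 202 := PoolOK.extends cEnt62 p61 ent_ok62
  have p63 : PoolOK cm 205 := PoolOK.extends cEnt63 p62 ent_ok63
  have p64 : PoolOK cm 208 := PoolOK.extends cEnt64 p63 ent_ok64
  have p65 : PoolOK cm 213 := PoolOK.extends cEnt65 p64 ent_ok65
  have p66 : PoolOK cm 218 := PoolOK.extends cEnt66 p65 ent_ok66
  have p67 : PoolOK cm 221 := PoolOK.extends cEnt67 p66 ent_ok67
  have p68 : PoolOK cm 224 := PoolOK.extends cEnt68 p67 ent_ok68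
  have p69 : PoolOK cm 227 := PoolOK.extends cEnt69 p68 ent_ok69
  have p70 : PoolOK cm 229 := PoolOK.extends cEnt70 p69 ent_ok70
  have p71 : PoolOK cm 232 := PoolOK.extends cEnt71 p70 ent_ok71
  have p72 : PoolOK cm 234 := PoolOK.extends cEnt72 p71 ent_ok72
  have p73 : PoolOK cm 237 := PoolOK.extends cEnt73 p72 ent_ok73
  have p74 : PoolOK cm 239 := PoolOK.extends cEnt74 p73 ent_ok74
  have p75 : PoolOK cm 242 := PoolOK.extends cEnt75 p74 ent_ok75
  have p76 : PoolOK cm 245 := PoolOK.extends cEnt76 p75 ent_ok76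
  have p77 : PoolOK cm 248 := PoolOK.extends cEnt77 p76 ent_ok77
  have p78 : PoolOK cm 252 := PoolOK.extends cEnt78 p77 ent_ok78
  have p79 : PoolOK cm 254 := PoolOK.extends cEnt79 p78 ent_ok79
  have p80 : PoolOK cm 256 := PoolOK.extends cEnt80 p79 ent_ok80
  have p81 : PoolOK cm 257 := PoolOK.extends cEnt81 p80 ent_ok81
  have p82 : PoolOK cm 258 := PoolOK.extends cEnt82 p81 ent_ok82
  have p83 : PoolOK cm 259 := PoolOK.extends cEnt83 p82 ent_ok83
  have p84 : PoolOK cm 261 := PoolOK.extends cEnt84 p83 ent_ok84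
  have p85 : PoolOK cm 264 := PoolOK.extends cEnt85 p84 ent_ok85
  have p86 : PoolOK cm 268 := PoolOK.extends cEnt86 p85 ent_ok86
  have p87 : PoolOK cm 272 := PoolOK.extends cEnt87 p86 ent_ok87
  have p88 : PoolOK cm 276 := PoolOK.extends cEnt88 p87 ent_ok88
  have p89 : PoolOK cm 280 := PoolOK.extends cEnt89 p88 ent_ok89
  have p90 : PoolOK cm 284 := PoolOK.extends cEnt90 p89 ent_ok90
  have p91 : PoolOK cm 290 := PoolOK.extends cEnt91 p90 ent_ok91
  have p92 : PoolOK cm 299 := PoolOK.extends cEnt92 p91 ent_ok92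
  have p93 : PoolOK cm 304 := PoolOK.extends cEnt93 p92 ent_ok93
  have p94 : PoolOK cm 309 := PoolOK.extends cEnt94 p93 ent_ok94
  have p95 : PoolOK cm 314 := PoolOK.extends cEnt95 p94 ent_ok95
  have p96 : PoolOK cm 318 := PoolOK.extends cEnt96 p95 ent_ok96
  have p97 : PoolOK cm 323 := PoolOK.extends cEnt97 p96 ent_ok97
  have p98 : PoolOK cm 328 := PoolOK.extends cEnt98 p97 ent_ok98
  have p99 : PoolOK cm 333 := PoolOK.extends cEnt99 p98 ent_ok99
  have p100 : PoolOK cm 340 := PoolOK.extends cEnt100 p99 ent_ok100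
  have p101 : PoolOK cm 345 := PoolOK.extends cEnt101 p100 ent_ok101
  have p102 : PoolOK cm 351 := PoolOK.extends cEnt102 p101 ent_ok102
  have p103 : PoolOK cm 355 := PoolOK.extends cEnt103 p102 ent_ok103
  have p104 : PoolOK cm 361 := PoolOK.extends cEnt104 p103 ent_ok104
  have p105 : PoolOK cm 364 := PoolOK.extends cEnt105 p104 ent_ok105
  have p106 : PoolOK cm 367 := PoolOK.extends cEnt106 p105 ent_ok106
  have p107 : PoolOK cm 373 := PoolOK.extends cEnt107 p106 ent_ok107
  have p108 : PoolOK cm 375 := PoolOK.extends cEnt108 p107 ent_ok108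
  have p109 : PoolOK cm 376 := PoolOK.extends cEnt109 p108 ent_ok109
  have p110 : PoolOK cm 377 := PoolOK.extends cEnt110 p109 ent_ok110
  have p111 : PoolOK cm 378 := PoolOK.extends cEnt111 p110 ent_ok111
  have p112 : PoolOK cm 379 := PoolOK.extends cEnt112 p111 ent_ok112
  have p113 : PoolOK cm 380 := PoolOK.extends cEnt113 p112 ent_ok113
  have p114 : PoolOK cm 381 := PoolOK.extends cEnt114 p113 ent_ok114
  have p115 : PoolOK cm 385 := PoolOK.extends cEnt115 p114 ent_ok115
  have p116 : PoolOK cm 394 := PoolOK.extends cEnt116 p115 ent_ok116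
  have p117 : PoolOK cm 403 := PoolOK.extends cEnt117 p116 ent_ok117
  have p118 : PoolOK cm 410 := PoolOK.extends cEnt118 p117 ent_ok118
  have p119 : PoolOK cm 413 := PoolOK.extends cEnt119 p118 ent_ok119
  have p120 : PoolOK cm 416 := PoolOK.extends cEnt120 p119 ent_ok120
  have p121 : PoolOK cm 423 := PoolOK.extends cEnt121 p120 ent_ok121
  have p122 : PoolOK cm 432 := PoolOK.extends cEnt122 p121 ent_ok122
  have p123 : PoolOK cm 444 := PoolOK.extends cEnt123 p122 ent_ok123
  have p124 : PoolOK cm 455 := PoolOK.extends cEnt124 p123 ent_ok124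
  have p125 : PoolOK cm 458 := PoolOK.extends cEnt125 p124 ent_ok125
  have p126 : PoolOK cm 460 := PoolOK.extends cEnt126 p125 ent_ok126
  have p127 : PoolOK cm 461 := PoolOK.extends cEnt127 p126 ent_ok127
  have p128 : PoolOK cm 462 := PoolOK.extends cEnt128 p127 ent_ok128
  have p129 : PoolOK cm 463 := PoolOK.extends cEnt129 p128 ent_ok129
  have p130 : PoolOK cm 465 := PoolOK.extends cEnt130 p129 ent_ok130
  have p131 : PoolOK cm 467 := PoolOK.extends cEnt131 p130 ent_ok131
  have p132 : PoolOK cm 469 := PoolOK.extends cEnt132 p131 ent_ok132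
  have p133 : PoolOK cm 472 := PoolOK.extends cEnt133 p132 ent_ok133
  have p134 : PoolOK cm 477 := PoolOK.extends cEnt134 p133 ent_ok134
  have p135 : PoolOK cm 480 := PoolOK.extends cEnt135 p134 ent_ok135
  have p136 : PoolOK cm 481 := PoolOK.extends cEnt136 p135 ent_ok136
  have p137 : PoolOK cm 485 := PoolOK.extends cEnt137 p136 ent_ok137
  have p138 : PoolOK cm 490 := PoolOK.extends cEnt138 p137 ent_ok138
  exact p138

theorem pow_one_of {e : ℕ × ℕ} (hx : e.1 < 2 * cN) (h : powOne e = true) : el cm e.1 ^ e.2 = 1 := by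
  simp only [powOne] at h
  exact (leq_eq h ▸ (pool.el_ok hx).npow e.2 : MOK (el cm e.1 ^ e.2) idMat).eq MOK.one

theorem pow_ne_of {e : ℕ × ℕ} (hx : e.1 < 2 * cN) (h : powMoves e = true) : el cm e.1 ^ e.2 ≠ 1 := by
  intro h1
  simp only [powMoves, Bool.not_eq_true'] at h
  refine Nat.ne_of_beq_eq_false h ?_
  rw [vfold_eq pool _ _ (fun j hj => List.eq_of_mem_replicate hj ▸ hx) (by unfold ordV; norm_num),
    show wv cm (List.replicate e.2 e.1) = el cm e.1 ^ e.2 by simp [wv], h1, img_one (by unfold ordV; norm_num)]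

theorem el_pow {x k y : ℕ} (hx : x < 2 * cN) (hy : y < 2 * cN) (h : powOK cm x k y = true) :
    el cm y = el cm x ^ k :=
  (pool.el_ok hy).eq (leq_eq h ▸ (pool.el_ok hx).npow k)

theorem order_of_checks {x n : ℕ} (ps : List ℕ) (hn : 0 < n) (h1 : el cm x ^ n = 1)
    (hps : ∀ p < n + 1, p.Prime → p ∣ n → p ∈ ps) (h2 : ∀ p ∈ ps, el cm x ^ (n / p) ≠ 1) :
    orderOf (el cm x) = n :=
  orderOf_eq_of_pow_and_pow_div_prime hn h1 fun p hp hd =>
    h2 p (hps p (Nat.lt_succ_of_le (Nat.le_of_dvd hn hd)) hp hd)

theorem pow_of_chain {x k y m : ℕ} (hx : x < 2 * cN) (hy : y < 2 * cN) (hp : powOK cm x k y = true)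
    (ho : orderOf (el cm y) = m) : el cm x ^ (k * m) = 1 := by
  rw [pow_mul, ← el_pow hx hy hp, ← ho, pow_orderOf_eq_one]

theorem order_coprime {x x' j n : ℕ} (hx : x < 2 * cN) (hx' : x' < 2 * cN) (hp : powOK cm x j x' = true)
    (ho : orderOf (el cm x) = n) (hc : n.Coprime j) : orderOf (el cm x') = n := by
  subst ho
  rw [el_pow hx hx' hp, hc.orderOf_pow]

theorem cent_coprime {x x' j n c : ℕ} (hx : x < 2 * cN) (hx' : x' < 2 * cN) (hp : powOK cm x j x' = true)
    (ho : orderOf (el cm x) = n) (hc : n.Coprime j)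
    (hb : Nat.card ↥(centralizer ({el cm x} : Set Spor.J4)) ≤ c) :
    Nat.card ↥(centralizer ({el cm x'} : Set Spor.J4)) ≤ c := by
  haveI := finite_J4
  subst ho
  obtain ⟨m, hm⟩ := exists_pow_eq_self_of_coprime hc.symm
  refine (Subgroup.card_le_of_le ?_).trans hb
  have h1 := centralizer_le_pow (el cm x ^ j) m
  rwa [hm, ← el_pow hx hx' hp] at h1

theorem le_of_chain {x y k b cx len : ℕ} {gens us : List ℕ} {ws : List (List ℕ)} (c : Chain cm cN x y k gens us ws)
    (hl : ws.length = len) (hb : Nat.card ↥(centralizer ({el cm y} : Set Spor.J4)) ≤ b) (hbc : b < len * (cx + 1)) :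
    Nat.card ↥(centralizer ({el cm x} : Set Spor.J4)) ≤ cx :=
  c.le pool hb (hl.symm ▸ hbc)

theorem galois_ne {x x' n k j : ℕ} (F : Facts Spor.J4) (hx : x < 2 * cN) (hx' : x' < 2 * cN)
    (hp : powOK cm x j x' = true) (ho : orderOf (el cm x) = n) (hk0 : k ≠ 0) (hk : n / n.gcd k = 7)
    (hj : j ^ 3 % 7 ≠ 1) : ¬ IsConj (el cm x) (el cm x') := by
  intro hc
  rw [el_pow hx hx' hp] at hc
  obtain ⟨c, hc⟩ := isConj_iff.mp hc
  refine hj (F.sevenN (el cm x ^ k) c (by rw [orderOf_pow' _ hk0, ho, hk]) j ?_)
  rw [← conj_pow, hc, ← pow_mul, ← pow_mul, mul_comm]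

theorem big_ne {x x' p e j : ℕ} (F : Facts Spor.J4) (hx : x < 2 * cN) (hx' : x' < 2 * cN)
    (hp : powOK cm x j x' = true) (ho : orderOf (el cm x) = p)
    (hpe : (p, e) ∈ [(23, 22), (29, 28), (31, 10), (37, 12), (43, 14)]) (hj : j ^ e % p ≠ 1) :
    ¬ IsConj (el cm x) (el cm x') := by
  intro hc
  rw [el_pow hx hx' hp] at hc
  obtain ⟨c, hc⟩ := isConj_iff.mp hc
  exact hj ((F.big p e _ hpe ho).2 c j hc)

theorem trace_ne {x x' : ℕ} (hx : x < 2 * cN) (hx' : x' < 2 * cN) (h : trPar (cm x) = 1 ∧ trPar (cm x') = 0) :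
    ¬ IsConj (el cm x) (el cm x') := by
  intro hc
  have := matG_trace_conj hc
  rw [matG_trace (pool.el_ok hx), matG_trace (pool.el_ok hx'), h.1, h.2] at this
  exact one_ne_zero this

theorem ord10 : orderOf (el cm 10) = 2 :=
  order_of_checks [2] (by decide) (pow_one_of (e := (10, 2)) (by decide) (List.all_eq_true.mp ord_one0 (10, 2) (by decide))) (by decide) (by
    simp only [List.forall_mem_cons]
    exact ⟨pow_ne_of (e := (10, 1)) (by decide) (List.all_eq_true.mp ord_move0 (10, 1) (by decide)), fun _ h => absurd h List.not_mem_nil⟩)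

theorem ord0 : orderOf (el cm 0) = 2 :=
  order_of_checks [2] (by decide) (pow_one_of (e := (0, 2)) (by decide) (List.all_eq_true.mp ord_one0 (0, 2) (by decide))) (by decide) (by
    simp only [List.forall_mem_cons]
    exact ⟨pow_ne_of (e := (0, 1)) (by decide) (List.all_eq_true.mp ord_move0 (0, 1) (by decide)), fun _ h => absurd h List.not_mem_nil⟩)

theorem ord90 : orderOf (el cm 90) = 3 :=
  order_of_checks [3] (by decide) (pow_one_of (e := (90, 3)) (by decide) (List.all_eq_true.mp ord_one0 (90, 3) (by decide))) (by decide) (by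
    simp only [List.forall_mem_cons]
    exact ⟨pow_ne_of (e := (90, 1)) (by decide) (List.all_eq_true.mp ord_move0 (90, 1) (by decide)), fun _ h => absurd h List.not_mem_nil⟩)

theorem ord414 : orderOf (el cm 414) = 4 :=
  order_of_checks [2] (by decide) (pow_of_chain (x := 414) (k := 2) (y := 10) (by decide) (by decide) chain4A.hp ord10) (by decide) (by
    simp only [List.forall_mem_cons]
    exact ⟨pow_ne_of (e := (414, 2)) (by decide) (List.all_eq_true.mp ord_move0 (414, 2) (by decide)), fun _ h => absurd h List.not_mem_nil⟩)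

theorem ord418 : orderOf (el cm 418) = 4 :=
  order_of_checks [2] (by decide) (pow_of_chain (x := 418) (k := 2) (y := 10) (by decide) (by decide) levelB_ok.2.1 ord10) (by decide) (by
    simp only [List.forall_mem_cons]
    exact ⟨pow_ne_of (e := (418, 2)) (by decide) (List.all_eq_true.mp ord_move0 (418, 2) (by decide)), fun _ h => absurd h List.not_mem_nil⟩)

theorem ord422 : orderOf (el cm 422) = 4 :=
  order_of_checks [2] (by decide) (pow_of_chain (x := 422) (k := 2) (y := 0) (by decide) (by decide) levelC_ok.2.1 ord0) (by decide) (by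
    simp only [List.forall_mem_cons]
    exact ⟨pow_ne_of (e := (422, 2)) (by decide) (List.all_eq_true.mp ord_move0 (422, 2) (by decide)), fun _ h => absurd h List.not_mem_nil⟩)

theorem ord86 : orderOf (el cm 86) = 5 :=
  order_of_checks [5] (by decide) (pow_one_of (e := (86, 5)) (by decide) (List.all_eq_true.mp ord_one0 (86, 5) (by decide))) (by decide) (by
    simp only [List.forall_mem_cons]
    exact ⟨pow_ne_of (e := (86, 1)) (by decide) (List.all_eq_true.mp ord_move0 (86, 1) (by decide)), fun _ h => absurd h List.not_mem_nil⟩)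

theorem ord434 : orderOf (el cm 434) = 6 :=
  order_of_checks [2, 3] (by decide) (pow_one_of (e := (434, 6)) (by decide) (List.all_eq_true.mp ord_one0 (434, 6) (by decide))) (by decide) (by
    simp only [List.forall_mem_cons]
    exact ⟨pow_ne_of (e := (434, 3)) (by decide) (List.all_eq_true.mp ord_move0 (434, 3) (by decide)),
      pow_ne_of (e := (434, 2)) (by decide) (List.all_eq_true.mp ord_move0 (434, 2) (by decide)), fun _ h => absurd h List.not_mem_nil⟩)

theorem ord426 : orderOf (el cm 426) = 6 :=
  order_of_checks [2, 3] (by decide) (pow_one_of (e := (426, 6)) (by decide) (List.all_eq_true.mp ord_one0 (426, 6) (by decide))) (by decide) (by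
    simp only [List.forall_mem_cons]
    exact ⟨pow_ne_of (e := (426, 3)) (by decide) (List.all_eq_true.mp ord_move0 (426, 3) (by decide)),
      pow_ne_of (e := (426, 2)) (by decide) (List.all_eq_true.mp ord_move0 (426, 2) (by decide)), fun _ h => absurd h List.not_mem_nil⟩)

theorem ord430 : orderOf (el cm 430) = 6 :=
  order_of_checks [2, 3] (by decide) (pow_one_of (e := (430, 6)) (by decide) (List.all_eq_true.mp ord_one0 (430, 6) (by decide))) (by decide) (by
    simp only [List.forall_mem_cons]
    exact ⟨pow_ne_of (e := (430, 3)) (by decide) (List.all_eq_true.mp ord_move0 (430, 3) (by decide)),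
      pow_ne_of (e := (430, 2)) (by decide) (List.all_eq_true.mp ord_move0 (430, 2) (by decide)), fun _ h => absurd h List.not_mem_nil⟩)

theorem ord220 : orderOf (el cm 220) = 7 :=
  order_of_checks [7] (by decide) (pow_one_of (e := (220, 7)) (by decide) (List.all_eq_true.mp ord_one0 (220, 7) (by decide))) (by decide) (by
    simp only [List.forall_mem_cons]
    exact ⟨pow_ne_of (e := (220, 1)) (by decide) (List.all_eq_true.mp ord_move0 (220, 1) (by decide)), fun _ h => absurd h List.not_mem_nil⟩)

theorem ord950 : orderOf (el cm 950) = 7 :=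
  order_coprime (j := 3) (by decide) (by decide) (List.all_eq_true.mp ord_powers0 (220, 3, 950) (by decide)) ord220 (by decide)

theorem ord704 : orderOf (el cm 704) = 8 :=
  order_of_checks [2] (by decide) (pow_of_chain (x := 704) (k := 2) (y := 414) (by decide) (by decide) chain8A.hp ord414) (by decide) (by
    simp only [List.forall_mem_cons]
    exact ⟨pow_ne_of (e := (704, 4)) (by decide) (List.all_eq_true.mp ord_move0 (704, 4) (by decide)), fun _ h => absurd h List.not_mem_nil⟩)

theorem ord712 : orderOf (el cm 712) = 8 :=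
  order_of_checks [2] (by decide) (pow_of_chain (x := 712) (k := 2) (y := 418) (by decide) (by decide) chain8B.hp ord418) (by decide) (by
    simp only [List.forall_mem_cons]
    exact ⟨pow_ne_of (e := (712, 4)) (by decide) (List.all_eq_true.mp ord_move0 (712, 4) (by decide)), fun _ h => absurd h List.not_mem_nil⟩)

theorem ord708 : orderOf (el cm 708) = 8 :=
  order_of_checks [2] (by decide) (pow_of_chain (x := 708) (k := 2) (y := 418) (by decide) (by decide) chain8C.hp ord418) (by decide) (by
    simp only [List.forall_mem_cons]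
    exact ⟨pow_ne_of (e := (708, 4)) (by decide) (List.all_eq_true.mp ord_move0 (708, 4) (by decide)), fun _ h => absurd h List.not_mem_nil⟩)

theorem ord438 : orderOf (el cm 438) = 10 :=
  order_of_checks [2, 5] (by decide) (pow_one_of (e := (438, 10)) (by decide) (List.all_eq_true.mp ord_one1 (438, 10) (by decide))) (by decide) (by
    simp only [List.forall_mem_cons]
    exact ⟨pow_ne_of (e := (438, 5)) (by decide) (List.all_eq_true.mp ord_move0 (438, 5) (by decide)),
      pow_ne_of (e := (438, 2)) (by decide) (List.all_eq_true.mp ord_move0 (438, 2) (by decide)), fun _ h => absurd h List.not_mem_nil⟩)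

theorem ord442 : orderOf (el cm 442) = 10 :=
  order_of_checks [2, 5] (by decide) (pow_one_of (e := (442, 10)) (by decide) (List.all_eq_true.mp ord_one1 (442, 10) (by decide))) (by decide) (by
    simp only [List.forall_mem_cons]
    exact ⟨pow_ne_of (e := (442, 5)) (by decide) (List.all_eq_true.mp ord_move0 (442, 5) (by decide)),
      pow_ne_of (e := (442, 2)) (by decide) (List.all_eq_true.mp ord_move0 (442, 2) (by decide)), fun _ h => absurd h List.not_mem_nil⟩)

theorem ord40 : orderOf (el cm 40) = 11 :=
  order_of_checks [11] (by decide) (pow_one_of (e := (40, 11)) (by decide) (List.all_eq_true.mp ord_one1 (40, 11) (by decide))) (by decide) (by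
    simp only [List.forall_mem_cons]
    exact ⟨pow_ne_of (e := (40, 1)) (by decide) (List.all_eq_true.mp ord_move0 (40, 1) (by decide)), fun _ h => absurd h List.not_mem_nil⟩)

theorem ord38 : orderOf (el cm 38) = 11 :=
  order_of_checks [11] (by decide) (pow_one_of (e := (38, 11)) (by decide) (List.all_eq_true.mp ord_one2 (38, 11) (by decide))) (by decide) (by
    simp only [List.forall_mem_cons]
    exact ⟨pow_ne_of (e := (38, 1)) (by decide) (List.all_eq_true.mp ord_move0 (38, 1) (by decide)), fun _ h => absurd h List.not_mem_nil⟩)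

theorem ord716 : orderOf (el cm 716) = 12 :=
  order_of_checks [2, 3] (by decide) (pow_of_chain (x := 716) (k := 2) (y := 426) (by decide) (by decide) chain12A.hp ord426) (by decide) (by
    simp only [List.forall_mem_cons]
    exact ⟨pow_ne_of (e := (716, 6)) (by decide) (List.all_eq_true.mp ord_move0 (716, 6) (by decide)),
      pow_ne_of (e := (716, 4)) (by decide) (List.all_eq_true.mp ord_move0 (716, 4) (by decide)), fun _ h => absurd h List.not_mem_nil⟩)

theorem ord824 : orderOf (el cm 824) = 12 :=
  order_of_checks [2, 3] (by decide) (pow_of_chain (x := 824) (k := 2) (y := 426) (by decide) (by decide) chain12B.hp ord426) (by decide) (by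
    simp only [List.forall_mem_cons]
    exact ⟨pow_ne_of (e := (824, 6)) (by decide) (List.all_eq_true.mp ord_move0 (824, 6) (by decide)),
      pow_ne_of (e := (824, 4)) (by decide) (List.all_eq_true.mp ord_move0 (824, 4) (by decide)), fun _ h => absurd h List.not_mem_nil⟩)

theorem ord720 : orderOf (el cm 720) = 12 :=
  order_of_checks [2, 3] (by decide) (pow_of_chain (x := 720) (k := 2) (y := 430) (by decide) (by decide) chain12C.hp ord430) (by decide) (by
    simp only [List.forall_mem_cons]
    exact ⟨pow_ne_of (e := (720, 6)) (by decide) (List.all_eq_true.mp ord_move0 (720, 6) (by decide)),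
      pow_ne_of (e := (720, 4)) (by decide) (List.all_eq_true.mp ord_move0 (720, 4) (by decide)), fun _ h => absurd h List.not_mem_nil⟩)

theorem ord450 : orderOf (el cm 450) = 14 :=
  order_of_checks [2, 7] (by decide) (pow_one_of (e := (450, 14)) (by decide) (List.all_eq_true.mp ord_one2 (450, 14) (by decide))) (by decide) (by
    simp only [List.forall_mem_cons]
    exact ⟨pow_ne_of (e := (450, 7)) (by decide) (List.all_eq_true.mp ord_move0 (450, 7) (by decide)),
      pow_ne_of (e := (450, 2)) (by decide) (List.all_eq_true.mp ord_move0 (450, 2) (by decide)), fun _ h => absurd h List.not_mem_nil⟩)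

theorem ord952 : orderOf (el cm 952) = 14 :=
  order_coprime (j := 3) (by decide) (by decide) (List.all_eq_true.mp ord_powers0 (450, 3, 952) (by decide)) ord450 (by decide)

theorem ord454 : orderOf (el cm 454) = 14 :=
  order_of_checks [2, 7] (by decide) (pow_one_of (e := (454, 14)) (by decide) (List.all_eq_true.mp ord_one2 (454, 14) (by decide))) (by decide) (by
    simp only [List.forall_mem_cons]
    exact ⟨pow_ne_of (e := (454, 7)) (by decide) (List.all_eq_true.mp ord_move0 (454, 7) (by decide)),
      pow_ne_of (e := (454, 2)) (by decide) (List.all_eq_true.mp ord_move0 (454, 2) (by decide)), fun _ h => absurd h List.not_mem_nil⟩)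

theorem ord954 : orderOf (el cm 954) = 14 :=
  order_coprime (j := 3) (by decide) (by decide) (List.all_eq_true.mp ord_powers0 (454, 3, 954) (by decide)) ord454 (by decide)

theorem ord446 : orderOf (el cm 446) = 15 :=
  order_of_checks [3, 5] (by decide) (pow_one_of (e := (446, 15)) (by decide) (List.all_eq_true.mp ord_one3 (446, 15) (by decide))) (by decide) (by
    simp only [List.forall_mem_cons]
    exact ⟨pow_ne_of (e := (446, 5)) (by decide) (List.all_eq_true.mp ord_move0 (446, 5) (by decide)),
      pow_ne_of (e := (446, 3)) (by decide) (List.all_eq_true.mp ord_move0 (446, 3) (by decide)), fun _ h => absurd h List.not_mem_nil⟩)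

theorem ord766 : orderOf (el cm 766) = 16 :=
  order_of_checks [2] (by decide) (pow_of_chain (x := 766) (k := 2) (y := 712) (by decide) (by decide) chain16.hp ord712) (by decide) (by
    simp only [List.forall_mem_cons]
    exact ⟨pow_ne_of (e := (766, 8)) (by decide) (List.all_eq_true.mp ord_move0 (766, 8) (by decide)), fun _ h => absurd h List.not_mem_nil⟩)

theorem ord724 : orderOf (el cm 724) = 20 :=
  order_of_checks [2, 5] (by decide) (pow_of_chain (x := 724) (k := 2) (y := 438) (by decide) (by decide) chain20A.hp ord438) (by decide) (by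
    simp only [List.forall_mem_cons]
    exact ⟨pow_ne_of (e := (724, 10)) (by decide) (List.all_eq_true.mp ord_move0 (724, 10) (by decide)),
      pow_ne_of (e := (724, 4)) (by decide) (List.all_eq_true.mp ord_move0 (724, 4) (by decide)), fun _ h => absurd h List.not_mem_nil⟩)

theorem ord828 : orderOf (el cm 828) = 20 :=
  order_of_checks [2, 5] (by decide) (pow_of_chain (x := 828) (k := 2) (y := 438) (by decide) (by decide) chain20B.hp ord438) (by decide) (by
    simp only [List.forall_mem_cons]
    exact ⟨pow_ne_of (e := (828, 10)) (by decide) (List.all_eq_true.mp ord_move0 (828, 10) (by decide)),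
      pow_ne_of (e := (828, 4)) (by decide) (List.all_eq_true.mp ord_move0 (828, 4) (by decide)), fun _ h => absurd h List.not_mem_nil⟩)

theorem ord458 : orderOf (el cm 458) = 21 :=
  order_of_checks [3, 7] (by decide) (pow_one_of (e := (458, 21)) (by decide) (List.all_eq_true.mp ord_one3 (458, 21) (by decide))) (by decide) (by
    simp only [List.forall_mem_cons]
    exact ⟨pow_ne_of (e := (458, 7)) (by decide) (List.all_eq_true.mp ord_move1 (458, 7) (by decide)),
      pow_ne_of (e := (458, 3)) (by decide) (List.all_eq_true.mp ord_move1 (458, 3) (by decide)), fun _ h => absurd h List.not_mem_nil⟩)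

theorem ord956 : orderOf (el cm 956) = 21 :=
  order_coprime (j := 10) (by decide) (by decide) (List.all_eq_true.mp ord_powers0 (458, 10, 956) (by decide)) ord458 (by decide)

theorem ord466 : orderOf (el cm 466) = 22 :=
  order_of_checks [2, 11] (by decide) (pow_one_of (e := (466, 22)) (by decide) (List.all_eq_true.mp ord_one4 (466, 22) (by decide))) (by decide) (by
    simp only [List.forall_mem_cons]
    exact ⟨pow_ne_of (e := (466, 11)) (by decide) (List.all_eq_true.mp ord_move1 (466, 11) (by decide)),
      pow_ne_of (e := (466, 2)) (by decide) (List.all_eq_true.mp ord_move1 (466, 2) (by decide)), fun _ h => absurd h List.not_mem_nil⟩)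

theorem ord470 : orderOf (el cm 470) = 22 :=
  order_of_checks [2, 11] (by decide) (pow_one_of (e := (470, 22)) (by decide) (List.all_eq_true.mp ord_one5 (470, 22) (by decide))) (by decide) (by
    simp only [List.forall_mem_cons]
    exact ⟨pow_ne_of (e := (470, 11)) (by decide) (List.all_eq_true.mp ord_move1 (470, 11) (by decide)),
      pow_ne_of (e := (470, 2)) (by decide) (List.all_eq_true.mp ord_move1 (470, 2) (by decide)), fun _ h => absurd h List.not_mem_nil⟩)

theorem ord942 : orderOf (el cm 942) = 23 :=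
  order_of_checks [23] (by decide) (pow_one_of (e := (942, 23)) (by decide) (List.all_eq_true.mp ord_one6 (942, 23) (by decide))) (by decide) (by
    simp only [List.forall_mem_cons]
    exact ⟨pow_ne_of (e := (942, 1)) (by decide) (List.all_eq_true.mp ord_move1 (942, 1) (by decide)), fun _ h => absurd h List.not_mem_nil⟩)

theorem ord790 : orderOf (el cm 790) = 24 :=
  order_of_checks [2, 3] (by decide) (pow_of_chain (x := 790) (k := 2) (y := 716) (by decide) (by decide) chain24A.hp ord716) (by decide) (by
    simp only [List.forall_mem_cons]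
    exact ⟨pow_ne_of (e := (790, 12)) (by decide) (List.all_eq_true.mp ord_move1 (790, 12) (by decide)),
      pow_ne_of (e := (790, 8)) (by decide) (List.all_eq_true.mp ord_move1 (790, 8) (by decide)), fun _ h => absurd h List.not_mem_nil⟩)

theorem ord832 : orderOf (el cm 832) = 24 :=
  order_of_checks [2, 3] (by decide) (pow_of_chain (x := 832) (k := 2) (y := 716) (by decide) (by decide) chain24B.hp ord716) (by decide) (by
    simp only [List.forall_mem_cons]
    exact ⟨pow_ne_of (e := (832, 12)) (by decide) (List.all_eq_true.mp ord_move1 (832, 12) (by decide)),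
      pow_ne_of (e := (832, 8)) (by decide) (List.all_eq_true.mp ord_move1 (832, 8) (by decide)), fun _ h => absurd h List.not_mem_nil⟩)

theorem ord728 : orderOf (el cm 728) = 28 :=
  order_of_checks [2, 7] (by decide) (pow_of_chain (x := 728) (k := 2) (y := 454) (by decide) (by decide) chain28.hp ord454) (by decide) (by
    simp only [List.forall_mem_cons]
    exact ⟨pow_ne_of (e := (728, 14)) (by decide) (List.all_eq_true.mp ord_move1 (728, 14) (by decide)),
      pow_ne_of (e := (728, 4)) (by decide) (List.all_eq_true.mp ord_move1 (728, 4) (by decide)), fun _ h => absurd h List.not_mem_nil⟩)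

theorem ord958 : orderOf (el cm 958) = 28 :=
  order_coprime (j := 17) (by decide) (by decide) (List.all_eq_true.mp ord_powers0 (728, 17, 958) (by decide)) ord728 (by decide)

theorem ord948 : orderOf (el cm 948) = 29 :=
  order_of_checks [29] (by decide) (pow_one_of (e := (948, 29)) (by decide) (List.all_eq_true.mp ord_one7 (948, 29) (by decide))) (by decide) (by
    simp only [List.forall_mem_cons]
    exact ⟨pow_ne_of (e := (948, 1)) (by decide) (List.all_eq_true.mp ord_move1 (948, 1) (by decide)), fun _ h => absurd h List.not_mem_nil⟩)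

theorem ord732 : orderOf (el cm 732) = 30 :=
  order_of_checks [2, 3, 5] (by decide) (pow_of_chain (x := 732) (k := 2) (y := 446) (by decide) (by decide) chain30.hp ord446) (by decide) (by
    simp only [List.forall_mem_cons]
    exact ⟨pow_ne_of (e := (732, 15)) (by decide) (List.all_eq_true.mp ord_move1 (732, 15) (by decide)),
      pow_ne_of (e := (732, 10)) (by decide) (List.all_eq_true.mp ord_move1 (732, 10) (by decide)),
      pow_ne_of (e := (732, 6)) (by decide) (List.all_eq_true.mp ord_move1 (732, 6) (by decide)), fun _ h => absurd h List.not_mem_nil⟩)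

theorem ord944 : orderOf (el cm 944) = 31 :=
  order_of_checks [31] (by decide) (pow_one_of (e := (944, 31)) (by decide) (List.all_eq_true.mp ord_one8 (944, 31) (by decide))) (by decide) (by
    simp only [List.forall_mem_cons]
    exact ⟨pow_ne_of (e := (944, 1)) (by decide) (List.all_eq_true.mp ord_move1 (944, 1) (by decide)), fun _ h => absurd h List.not_mem_nil⟩)

theorem ord964 : orderOf (el cm 964) = 31 :=
  order_coprime (j := 3) (by decide) (by decide) (List.all_eq_true.mp ord_powers2 (944, 3, 964) (by decide)) ord944 (by decide)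

theorem ord966 : orderOf (el cm 966) = 31 :=
  order_coprime (j := 5) (by decide) (by decide) (List.all_eq_true.mp ord_powers2 (944, 5, 966) (by decide)) ord944 (by decide)

theorem ord474 : orderOf (el cm 474) = 33 :=
  order_of_checks [3, 11] (by decide) (pow_one_of (e := (474, 33)) (by decide) (List.all_eq_true.mp ord_one9 (474, 33) (by decide))) (by decide) (by
    simp only [List.forall_mem_cons]
    exact ⟨pow_ne_of (e := (474, 11)) (by decide) (List.all_eq_true.mp ord_move1 (474, 11) (by decide)),
      pow_ne_of (e := (474, 3)) (by decide) (List.all_eq_true.mp ord_move1 (474, 3) (by decide)), fun _ h => absurd h List.not_mem_nil⟩)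

theorem ord478 : orderOf (el cm 478) = 33 :=
  order_of_checks [3, 11] (by decide) (pow_one_of (e := (478, 33)) (by decide) (List.all_eq_true.mp ord_one10 (478, 33) (by decide))) (by decide) (by
    simp only [List.forall_mem_cons]
    exact ⟨pow_ne_of (e := (478, 11)) (by decide) (List.all_eq_true.mp ord_move2 (478, 11) (by decide)),
      pow_ne_of (e := (478, 3)) (by decide) (List.all_eq_true.mp ord_move2 (478, 3) (by decide)), fun _ h => absurd h List.not_mem_nil⟩)

theorem ord462 : orderOf (el cm 462) = 35 :=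
  order_of_checks [5, 7] (by decide) (pow_one_of (e := (462, 35)) (by decide) (List.all_eq_true.mp ord_one11 (462, 35) (by decide))) (by decide) (by
    simp only [List.forall_mem_cons]
    exact ⟨pow_ne_of (e := (462, 7)) (by decide) (List.all_eq_true.mp ord_move2 (462, 7) (by decide)),
      pow_ne_of (e := (462, 5)) (by decide) (List.all_eq_true.mp ord_move2 (462, 5) (by decide)), fun _ h => absurd h List.not_mem_nil⟩)

theorem ord960 : orderOf (el cm 960) = 35 :=
  order_coprime (j := 31) (by decide) (by decide) (List.all_eq_true.mp ord_powers1 (462, 31, 960) (by decide)) ord462 (by decide)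

theorem ord940 : orderOf (el cm 940) = 37 :=
  order_of_checks [37] (by decide) (pow_one_of (e := (940, 37)) (by decide) (List.all_eq_true.mp ord_one12 (940, 37) (by decide))) (by decide) (by
    simp only [List.forall_mem_cons]
    exact ⟨pow_ne_of (e := (940, 1)) (by decide) (List.all_eq_true.mp ord_move2 (940, 1) (by decide)), fun _ h => absurd h List.not_mem_nil⟩)

theorem ord968 : orderOf (el cm 968) = 37 :=
  order_coprime (j := 2) (by decide) (by decide) (List.all_eq_true.mp ord_powers3 (940, 2, 968) (by decide)) ord940 (by decide)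

theorem ord970 : orderOf (el cm 970) = 37 :=
  order_coprime (j := 3) (by decide) (by decide) (List.all_eq_true.mp ord_powers3 (940, 3, 970) (by decide)) ord940 (by decide)

theorem ord820 : orderOf (el cm 820) = 40 :=
  order_of_checks [2, 5] (by decide) (pow_of_chain (x := 820) (k := 2) (y := 724) (by decide) (by decide) chain40A.hp ord724) (by decide) (by
    simp only [List.forall_mem_cons]
    exact ⟨pow_ne_of (e := (820, 20)) (by decide) (List.all_eq_true.mp ord_move2 (820, 20) (by decide)),
      pow_ne_of (e := (820, 8)) (by decide) (List.all_eq_true.mp ord_move2 (820, 8) (by decide)), fun _ h => absurd h List.not_mem_nil⟩)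

theorem ord914 : orderOf (el cm 914) = 40 :=
  order_of_checks [2, 5] (by decide) (pow_of_chain (x := 914) (k := 2) (y := 828) (by decide) (by decide) chain40B.hp ord828) (by decide) (by
    simp only [List.forall_mem_cons]
    exact ⟨pow_ne_of (e := (914, 20)) (by decide) (List.all_eq_true.mp ord_move2 (914, 20) (by decide)),
      pow_ne_of (e := (914, 8)) (by decide) (List.all_eq_true.mp ord_move2 (914, 8) (by decide)), fun _ h => absurd h List.not_mem_nil⟩)

theorem ord736 : orderOf (el cm 736) = 42 :=
  order_of_checks [2, 3, 7] (by decide) (pow_of_chain (x := 736) (k := 2) (y := 458) (by decide) (by decide) chain42.hp ord458) (by decide) (by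
    simp only [List.forall_mem_cons]
    exact ⟨pow_ne_of (e := (736, 21)) (by decide) (List.all_eq_true.mp ord_move2 (736, 21) (by decide)),
      pow_ne_of (e := (736, 14)) (by decide) (List.all_eq_true.mp ord_move2 (736, 14) (by decide)),
      pow_ne_of (e := (736, 6)) (by decide) (List.all_eq_true.mp ord_move2 (736, 6) (by decide)), fun _ h => absurd h List.not_mem_nil⟩)

theorem ord962 : orderOf (el cm 962) = 42 :=
  order_coprime (j := 31) (by decide) (by decide) (List.all_eq_true.mp ord_powers2 (736, 31, 962) (by decide)) ord736 (by decide)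

theorem ord946 : orderOf (el cm 946) = 43 :=
  order_of_checks [43] (by decide) (pow_one_of (e := (946, 43)) (by decide) (List.all_eq_true.mp ord_one13 (946, 43) (by decide))) (by decide) (by
    simp only [List.forall_mem_cons]
    exact ⟨pow_ne_of (e := (946, 1)) (by decide) (List.all_eq_true.mp ord_move2 (946, 1) (by decide)), fun _ h => absurd h List.not_mem_nil⟩)

theorem ord972 : orderOf (el cm 972) = 43 :=
  order_coprime (j := 3) (by decide) (by decide) (List.all_eq_true.mp ord_powers3 (946, 3, 972) (by decide)) ord946 (by decide)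

theorem ord974 : orderOf (el cm 974) = 43 :=
  order_coprime (j := 7) (by decide) (by decide) (List.all_eq_true.mp ord_powers4 (946, 7, 974) (by decide)) ord946 (by decide)

theorem ord740 : orderOf (el cm 740) = 44 :=
  order_of_checks [2, 11] (by decide) (pow_of_chain (x := 740) (k := 2) (y := 466) (by decide) (by decide) chain44.hp ord466) (by decide) (by
    simp only [List.forall_mem_cons]
    exact ⟨pow_ne_of (e := (740, 22)) (by decide) (List.all_eq_true.mp ord_move2 (740, 22) (by decide)),
      pow_ne_of (e := (740, 4)) (by decide) (List.all_eq_true.mp ord_move3 (740, 4) (by decide)), fun _ h => absurd h List.not_mem_nil⟩)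

theorem ord748 : orderOf (el cm 748) = 66 :=
  order_of_checks [2, 3, 11] (by decide) (pow_of_chain (x := 748) (k := 3) (y := 466) (by decide) (by decide) chain66A.hp ord466) (by decide) (by
    simp only [List.forall_mem_cons]
    exact ⟨pow_ne_of (e := (748, 33)) (by decide) (List.all_eq_true.mp ord_move3 (748, 33) (by decide)),
      pow_ne_of (e := (748, 22)) (by decide) (List.all_eq_true.mp ord_move3 (748, 22) (by decide)),
      pow_ne_of (e := (748, 6)) (by decide) (List.all_eq_true.mp ord_move3 (748, 6) (by decide)), fun _ h => absurd h List.not_mem_nil⟩)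

theorem ord744 : orderOf (el cm 744) = 66 :=
  order_of_checks [2, 3, 11] (by decide) (pow_of_chain (x := 744) (k := 3) (y := 466) (by decide) (by decide) chain66B.hp ord466) (by decide) (by
    simp only [List.forall_mem_cons]
    exact ⟨pow_ne_of (e := (744, 33)) (by decide) (List.all_eq_true.mp ord_move3 (744, 33) (by decide)),
      pow_ne_of (e := (744, 22)) (by decide) (List.all_eq_true.mp ord_move3 (744, 22) (by decide)),
      pow_ne_of (e := (744, 6)) (by decide) (List.all_eq_true.mp ord_move3 (744, 6) (by decide)), fun _ h => absurd h List.not_mem_nil⟩)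

variable (F : Facts Spor.J4)

include F

theorem cb10 : Nat.card ↥(centralizer ({el cm 10} : Set Spor.J4)) ≤ 21799895040 :=
  (invol pool F).1.le

theorem cb0 : Nat.card ↥(centralizer ({el cm 0} : Set Spor.J4)) ≤ 1816657920 :=
  (invol pool F).2.2.1

theorem cb90 : Nat.card ↥(centralizer ({el cm 90} : Set Spor.J4)) ≤ 2661120 :=
  ((invol pool F).2.2.2.2 _ ord90).1

theorem cb414 : Nat.card ↥(centralizer ({el cm 414} : Set Spor.J4)) ≤ 5406720 :=
  le_of_chain chain4A okC4A_small.2.2.2.2.2 (cb10 F) (by decide)

theorem cb418 : Nat.card ↥(centralizer ({el cm 418} : Set Spor.J4)) ≤ 98304 := by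
  obtain ⟨hB, hP, hx, hg, hC⟩ := spaceB_ok
  obtain ⟨hu, hp, hc, hl, hlev, hk, hlen⟩ := levelB_ok
  simp only [List.all_eq_true, Nat.blt_eq] at hB hg
  simp only [List.all_eq_true, Bool.and_eq_true] at hC
  have S : Space cm cN basB pinvB 10 actB 418 gensSB := ⟨hB, hP, by decide, hx, fun g hgm => hg g hgm, hC⟩
  have hT : ∀ i < 1155, nodeOK treeB actB gensSB 10 (actB 418) 1155 i = true ∧
      (Nat.beq i 0 = true ∨ (treeB.get (i - 1)).1 < (treeB.get i).1) := by
    intro i hi
    have h := List.all_eq_true.mp treeB_ok i (List.mem_range'_1.mpr ⟨Nat.zero_le _, by omega⟩)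
    simpa only [Bool.and_eq_true, Bool.or_eq_true, Nat.blt_eq] using h
  have h := S.bound pool (y := 10) (by decide) hp hc (fun i hi => (hT i hi).1)
    (fun i hi => (hT (i + 1) hi).2.resolve_left fun e => absurd (Nat.eq_of_beq_eq_true e) i.succ_ne_zero) hu hl hlev hk
  rw [hlen] at h
  have := h.trans (cb10 F)
  omega

theorem cb422 : Nat.card ↥(centralizer ({el cm 422} : Set Spor.J4)) ≤ 43008 := by
  obtain ⟨hB, hP, hx, hg, hC⟩ := spaceC_ok
  obtain ⟨hu, hp, hc, hl, hlev, hk, hlen⟩ := levelC_ok
  simp only [List.all_eq_true, Nat.blt_eq] at hB hg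
  simp only [List.all_eq_true, Bool.and_eq_true] at hC
  have S : Space cm cN basC pinvC 12 actC 422 gensSC := ⟨hB, hP, by decide, hx, fun g hgm => hg g hgm, hC⟩
  have hq : ∀ q < 96, treeOK treeC actC gensSC 12 (actC 422) 42240 (440 * q) 440 = true := fun q hq =>
    match q, hq with
    | 0, _ => treeC_ok0
    | 1, _ => treeC_ok1
    | 2, _ => treeC_ok2
    | 3, _ => treeC_ok3
    | 4, _ => treeC_ok4
    | 5, _ => treeC_ok5
    | 6, _ => treeC_ok6
    | 7, _ => treeC_ok7
    | 8, _ => treeC_ok8
    | 9, _ => treeC_ok9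
    | 10, _ => treeC_ok10
    | 11, _ => treeC_ok11
    | 12, _ => treeC_ok12
    | 13, _ => treeC_ok13
    | 14, _ => treeC_ok14
    | 15, _ => treeC_ok15
    | 16, _ => treeC_ok16
    | 17, _ => treeC_ok17
    | 18, _ => treeC_ok18
    | 19, _ => treeC_ok19
    | 20, _ => treeC_ok20
    | 21, _ => treeC_ok21
    | 22, _ => treeC_ok22
    | 23, _ => treeC_ok23
    | 24, _ => treeC_ok24
    | 25, _ => treeC_ok25
    | 26, _ => treeC_ok26
    | 27, _ => treeC_ok27
    | 28, _ => treeC_ok28
    | 29, _ => treeC_ok29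
    | 30, _ => treeC_ok30
    | 31, _ => treeC_ok31
    | 32, _ => treeC_ok32
    | 33, _ => treeC_ok33
    | 34, _ => treeC_ok34
    | 35, _ => treeC_ok35
    | 36, _ => treeC_ok36
    | 37, _ => treeC_ok37
    | 38, _ => treeC_ok38
    | 39, _ => treeC_ok39
    | 40, _ => treeC_ok40
    | 41, _ => treeC_ok41
    | 42, _ => treeC_ok42
    | 43, _ => treeC_ok43
    | 44, _ => treeC_ok44
    | 45, _ => treeC_ok45
    | 46, _ => treeC_ok46
    | 47, _ => treeC_ok47
    | 48, _ => treeC_ok48
    | 49, _ => treeC_ok49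
    | 50, _ => treeC_ok50
    | 51, _ => treeC_ok51
    | 52, _ => treeC_ok52
    | 53, _ => treeC_ok53
    | 54, _ => treeC_ok54
    | 55, _ => treeC_ok55
    | 56, _ => treeC_ok56
    | 57, _ => treeC_ok57
    | 58, _ => treeC_ok58
    | 59, _ => treeC_ok59
    | 60, _ => treeC_ok60
    | 61, _ => treeC_ok61
    | 62, _ => treeC_ok62
    | 63, _ => treeC_ok63
    | 64, _ => treeC_ok64
    | 65, _ => treeC_ok65
    | 66, _ => treeC_ok66
    | 67, _ => treeC_ok67
    | 68, _ => treeC_ok68
    | 69, _ => treeC_ok69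
    | 70, _ => treeC_ok70
    | 71, _ => treeC_ok71
    | 72, _ => treeC_ok72
    | 73, _ => treeC_ok73
    | 74, _ => treeC_ok74
    | 75, _ => treeC_ok75
    | 76, _ => treeC_ok76
    | 77, _ => treeC_ok77
    | 78, _ => treeC_ok78
    | 79, _ => treeC_ok79
    | 80, _ => treeC_ok80
    | 81, _ => treeC_ok81
    | 82, _ => treeC_ok82
    | 83, _ => treeC_ok83
    | 84, _ => treeC_ok84
    | 85, _ => treeC_ok85
    | 86, _ => treeC_ok86
    | 87, _ => treeC_ok87
    | 88, _ => treeC_ok88
    | 89, _ => treeC_ok89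
    | 90, _ => treeC_ok90
    | 91, _ => treeC_ok91
    | 92, _ => treeC_ok92
    | 93, _ => treeC_ok93
    | 94, _ => treeC_ok94
    | 95, _ => treeC_ok95
    | q + 96, hq => absurd hq (by omega)
  have hT : ∀ i < 42240, nodeOK treeC actC gensSC 12 (actC 422) 42240 i = true ∧
      (Nat.beq i 0 = true ∨ (treeC.get (i - 1)).1 < (treeC.get i).1) := by
    intro i hi
    have h := List.all_eq_true.mp (hq (i / 440) (by omega)) i (List.mem_range'_1.mpr ⟨by omega, by omega⟩)
    simpa only [Bool.and_eq_true, Bool.or_eq_true, Nat.blt_eq] using h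
  have h := S.bound pool (y := 0) (by decide) hp hc (fun i hi => (hT i hi).1)
    (fun i hi => (hT (i + 1) hi).2.resolve_left fun e => absurd (Nat.eq_of_beq_eq_true e) i.succ_ne_zero) hu hl hlev hk
  rw [hlen] at h
  have := h.trans (cb0 F)
  omega

theorem cb86 : Nat.card ↥(centralizer ({el cm 86} : Set Spor.J4)) ≤ 6720 :=
  (F.five _ ord86).le

theorem cb434 : Nat.card ↥(centralizer ({el cm 434} : Set Spor.J4)) ≤ 2661120 :=
  le_of_chain chain6A okC6A_small.2.2.2.2.2 (cb90 F) (by decide)

theorem cb426 : Nat.card ↥(centralizer ({el cm 426} : Set Spor.J4)) ≤ 2304 :=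
  le_of_chain chain6B okC6B_small.2.2.2.2.2 (cb90 F) (by decide)

theorem cb430 : Nat.card ↥(centralizer ({el cm 430} : Set Spor.J4)) ≤ 2304 :=
  le_of_chain chain6C okC6C_small.2.2.2.2.2 (cb90 F) (by decide)

theorem cb220 : Nat.card ↥(centralizer ({el cm 220} : Set Spor.J4)) ≤ 840 :=
  (F.seven _ ord220).le

theorem cb950 : Nat.card ↥(centralizer ({el cm 950} : Set Spor.J4)) ≤ 840 :=
  cent_coprime (j := 3) (by decide) (by decide) (List.all_eq_true.mp ord_powers0 (220, 3, 950) (by decide)) ord220 (by decide) (cb220 F)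

theorem cb704 : Nat.card ↥(centralizer ({el cm 704} : Set Spor.J4)) ≤ 1280 :=
  le_of_chain chain8A okC8A_small.2.2.2.2.2 (cb414 F) (by decide)

theorem cb712 : Nat.card ↥(centralizer ({el cm 712} : Set Spor.J4)) ≤ 512 :=
  le_of_chain chain8B okC8B_small.2.2.2.2.2 (cb418 F) (by decide)

theorem cb708 : Nat.card ↥(centralizer ({el cm 708} : Set Spor.J4)) ≤ 768 :=
  le_of_chain chain8C okC8C_small.2.2.2.2.2 (cb418 F) (by decide)

theorem cb438 : Nat.card ↥(centralizer ({el cm 438} : Set Spor.J4)) ≤ 960 :=
  le_of_chain chain10A okC10A_small.2.2.2.2.2 (cb86 F) (by decide)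

theorem cb442 : Nat.card ↥(centralizer ({el cm 442} : Set Spor.J4)) ≤ 80 :=
  le_of_chain chain10B okC10B_small.2.2.2.2.2 (cb86 F) (by decide)

theorem cb40 : Nat.card ↥(centralizer ({el cm 40} : Set Spor.J4)) ≤ 31944 :=
  Nat.le_of_dvd (by norm_num) (cent_Z11 pool F)

theorem cb38 : Nat.card ↥(centralizer ({el cm 38} : Set Spor.J4)) ≤ 242 :=
  cent_X11 pool F

theorem cb716 : Nat.card ↥(centralizer ({el cm 716} : Set Spor.J4)) ≤ 192 :=
  le_of_chain chain12A okC12A_small.2.2.2.2.2 (cb426 F) (by decide)

theorem cb824 : Nat.card ↥(centralizer ({el cm 824} : Set Spor.J4)) ≤ 192 :=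
  le_of_chain chain12B okC12B_small.2.2.2.2.2 (cb426 F) (by decide)

theorem cb720 : Nat.card ↥(centralizer ({el cm 720} : Set Spor.J4)) ≤ 48 :=
  le_of_chain chain12C okC12C_small.2.2.2.2.2 (cb430 F) (by decide)

theorem cb450 : Nat.card ↥(centralizer ({el cm 450} : Set Spor.J4)) ≤ 84 :=
  le_of_chain chain14A okC14A_small.2.2.2.2.2 (cb220 F) (by decide)

theorem cb952 : Nat.card ↥(centralizer ({el cm 952} : Set Spor.J4)) ≤ 84 :=
  cent_coprime (j := 3) (by decide) (by decide) (List.all_eq_true.mp ord_powers0 (450, 3, 952) (by decide)) ord450 (by decide) (cb450 F)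

theorem cb454 : Nat.card ↥(centralizer ({el cm 454} : Set Spor.J4)) ≤ 56 :=
  le_of_chain chain14C okC14C_small.2.2.2.2.2 (cb220 F) (by decide)

theorem cb954 : Nat.card ↥(centralizer ({el cm 954} : Set Spor.J4)) ≤ 56 :=
  cent_coprime (j := 3) (by decide) (by decide) (List.all_eq_true.mp ord_powers0 (454, 3, 954) (by decide)) ord454 (by decide) (cb454 F)

theorem cb446 : Nat.card ↥(centralizer ({el cm 446} : Set Spor.J4)) ≤ 30 :=
  le_of_chain chain15 okC15_small.2.2.2.2.2 (cb86 F) (by decide)

theorem cb766 : Nat.card ↥(centralizer ({el cm 766} : Set Spor.J4)) ≤ 32 :=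
  le_of_chain chain16 okC16_small.2.2.2.2.2 (cb712 F) (by decide)

theorem cb724 : Nat.card ↥(centralizer ({el cm 724} : Set Spor.J4)) ≤ 160 :=
  le_of_chain chain20A okC20A_small.2.2.2.2.2 (cb438 F) (by decide)

theorem cb828 : Nat.card ↥(centralizer ({el cm 828} : Set Spor.J4)) ≤ 160 :=
  le_of_chain chain20B okC20B_small.2.2.2.2.2 (cb438 F) (by decide)

theorem cb458 : Nat.card ↥(centralizer ({el cm 458} : Set Spor.J4)) ≤ 42 :=
  le_of_chain chain21 okC21_small.2.2.2.2.2 (cb220 F) (by decide)

theorem cb956 : Nat.card ↥(centralizer ({el cm 956} : Set Spor.J4)) ≤ 42 :=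
  cent_coprime (j := 10) (by decide) (by decide) (List.all_eq_true.mp ord_powers0 (458, 10, 956) (by decide)) ord458 (by decide) (cb458 F)

theorem cb466 : Nat.card ↥(centralizer ({el cm 466} : Set Spor.J4)) ≤ 264 :=
  le_of_chain chain22A okC22A_small.2.2.2.2.2 (cb40 F) (by decide)

theorem cb470 : Nat.card ↥(centralizer ({el cm 470} : Set Spor.J4)) ≤ 22 :=
  le_of_chain chain22B okC22B_small.2.2.2.2.2 (cb38 F) (by decide)

theorem cb942 : Nat.card ↥(centralizer ({el cm 942} : Set Spor.J4)) ≤ 23 :=
  (F.big 23 22 _ (by decide) ord942).1.le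

theorem cb790 : Nat.card ↥(centralizer ({el cm 790} : Set Spor.J4)) ≤ 48 :=
  le_of_chain chain24A okC24A_small.2.2.2.2.2 (cb716 F) (by decide)

theorem cb832 : Nat.card ↥(centralizer ({el cm 832} : Set Spor.J4)) ≤ 48 :=
  le_of_chain chain24B okC24B_small.2.2.2.2.2 (cb716 F) (by decide)

theorem cb728 : Nat.card ↥(centralizer ({el cm 728} : Set Spor.J4)) ≤ 28 :=
  le_of_chain chain28 okC28_small.2.2.2.2.2 (cb454 F) (by decide)

theorem cb958 : Nat.card ↥(centralizer ({el cm 958} : Set Spor.J4)) ≤ 28 :=
  cent_coprime (j := 17) (by decide) (by decide) (List.all_eq_true.mp ord_powers0 (728, 17, 958) (by decide)) ord728 (by decide) (cb728 F)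

theorem cb948 : Nat.card ↥(centralizer ({el cm 948} : Set Spor.J4)) ≤ 29 :=
  (F.big 29 28 _ (by decide) ord948).1.le

theorem cb732 : Nat.card ↥(centralizer ({el cm 732} : Set Spor.J4)) ≤ 30 :=
  le_of_chain chain30 okC30_small.2.2.2.2.2 (cb446 F) (by decide)

theorem cb944 : Nat.card ↥(centralizer ({el cm 944} : Set Spor.J4)) ≤ 31 :=
  (F.big 31 10 _ (by decide) ord944).1.le

theorem cb964 : Nat.card ↥(centralizer ({el cm 964} : Set Spor.J4)) ≤ 31 :=
  (F.big 31 10 _ (by decide) ord964).1.le

theorem cb966 : Nat.card ↥(centralizer ({el cm 966} : Set Spor.J4)) ≤ 31 :=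
  (F.big 31 10 _ (by decide) ord966).1.le

theorem cb474 : Nat.card ↥(centralizer ({el cm 474} : Set Spor.J4)) ≤ 66 :=
  le_of_chain chain33A okC33A_small.2.2.2.2.2 (cb40 F) (by decide)

theorem cb478 : Nat.card ↥(centralizer ({el cm 478} : Set Spor.J4)) ≤ 66 :=
  le_of_chain chain33B okC33B_small.2.2.2.2.2 (cb40 F) (by decide)

theorem cb462 : Nat.card ↥(centralizer ({el cm 462} : Set Spor.J4)) ≤ 35 :=
  le_of_chain chain35 okC35_small.2.2.2.2.2 (cb220 F) (by decide)

theorem cb960 : Nat.card ↥(centralizer ({el cm 960} : Set Spor.J4)) ≤ 35 :=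
  cent_coprime (j := 31) (by decide) (by decide) (List.all_eq_true.mp ord_powers1 (462, 31, 960) (by decide)) ord462 (by decide) (cb462 F)

theorem cb940 : Nat.card ↥(centralizer ({el cm 940} : Set Spor.J4)) ≤ 37 :=
  (F.big 37 12 _ (by decide) ord940).1.le

theorem cb968 : Nat.card ↥(centralizer ({el cm 968} : Set Spor.J4)) ≤ 37 :=
  (F.big 37 12 _ (by decide) ord968).1.le

theorem cb970 : Nat.card ↥(centralizer ({el cm 970} : Set Spor.J4)) ≤ 37 :=
  (F.big 37 12 _ (by decide) ord970).1.le

theorem cb820 : Nat.card ↥(centralizer ({el cm 820} : Set Spor.J4)) ≤ 40 :=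
  le_of_chain chain40A okC40A_small.2.2.2.2.2 (cb724 F) (by decide)

theorem cb914 : Nat.card ↥(centralizer ({el cm 914} : Set Spor.J4)) ≤ 40 :=
  le_of_chain chain40B okC40B_small.2.2.2.2.2 (cb828 F) (by decide)

theorem cb736 : Nat.card ↥(centralizer ({el cm 736} : Set Spor.J4)) ≤ 42 :=
  le_of_chain chain42 okC42_small.2.2.2.2.2 (cb458 F) (by decide)

theorem cb962 : Nat.card ↥(centralizer ({el cm 962} : Set Spor.J4)) ≤ 42 :=
  cent_coprime (j := 31) (by decide) (by decide) (List.all_eq_true.mp ord_powers2 (736, 31, 962) (by decide)) ord736 (by decide) (cb736 F)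

theorem cb946 : Nat.card ↥(centralizer ({el cm 946} : Set Spor.J4)) ≤ 43 :=
  (F.big 43 14 _ (by decide) ord946).1.le

theorem cb972 : Nat.card ↥(centralizer ({el cm 972} : Set Spor.J4)) ≤ 43 :=
  (F.big 43 14 _ (by decide) ord972).1.le

theorem cb974 : Nat.card ↥(centralizer ({el cm 974} : Set Spor.J4)) ≤ 43 :=
  (F.big 43 14 _ (by decide) ord974).1.le

theorem cb740 : Nat.card ↥(centralizer ({el cm 740} : Set Spor.J4)) ≤ 44 :=
  le_of_chain chain44 okC44_small.2.2.2.2.2 (cb466 F) (by decide)

theorem cb748 : Nat.card ↥(centralizer ({el cm 748} : Set Spor.J4)) ≤ 66 :=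
  le_of_chain chain66A okC66A_small.2.2.2.2.2 (cb466 F) (by decide)

theorem cb744 : Nat.card ↥(centralizer ({el cm 744} : Set Spor.J4)) ≤ 66 :=
  le_of_chain chain66B okC66B_small.2.2.2.2.2 (cb466 F) (by decide)

theorem ncl_724_828 : ¬ IsConj (el cm 724) (el cm 828) := by
  obtain ⟨hg, hu, hc, hl, hlen⟩ := low20A_small
  have hlow := lower pool (x := 724) (by decide) (fun g hgm => Nat.le_of_ble_eq_true (List.all_eq_true.mp hg g hgm))
    hu hc hl low20A_keys
  rw [hlen] at hlow
  refine Chain.not_conj pool chain20A (by decide) chain20B.hp out20A (cb438 F) ?_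
  rw [okC20A_small.2.2.2.2.2]
  omega

theorem ncl_790_832 : ¬ IsConj (el cm 790) (el cm 832) := by
  obtain ⟨hg, hu, hc, hl, hlen⟩ := low24A_small
  have hlow := lower pool (x := 790) (by decide) (fun g hgm => Nat.le_of_ble_eq_true (List.all_eq_true.mp hg g hgm))
    hu hc hl low24A_keys
  rw [hlen] at hlow
  refine Chain.not_conj pool chain24A (by decide) chain24B.hp out24A (cb716 F) ?_
  rw [okC24A_small.2.2.2.2.2]
  omega

theorem ncl_820_914 : ¬ IsConj (el cm 820) (el cm 914) := fun hc => by
  refine ncl_724_828 F ?_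
  rw [el_pow (x := 820) (by decide) (by decide) chain40A.hp, el_pow (x := 914) (by decide) (by decide) chain40B.hp]
  obtain ⟨c, hc⟩ := isConj_iff.mp hc
  exact isConj_iff.mpr ⟨c, by rw [← conj_pow, hc]⟩

end Cfsg.Lib.JankoFour.ClassNumber

namespace Cfsg.Lib.JankoFour.ClassNumber

open Cfsg Cfsg.Lib.J4Cert Subgroup

/-- The representatives: number, order, order of the centraliser. -/
def reps : List (ℕ × ℕ × ℕ) :=
  [(10, 2, 21799895040), (0, 2, 1816657920), (90, 3, 2661120), (414, 4, 5406720), (418, 4, 98304), (422, 4, 43008),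
    (86, 5, 6720), (434, 6, 2661120), (426, 6, 2304), (430, 6, 2304), (220, 7, 840), (950, 7, 840),
    (704, 8, 1280), (712, 8, 512), (708, 8, 768), (438, 10, 960), (442, 10, 80), (40, 11, 31944),
    (38, 11, 242), (716, 12, 192), (824, 12, 192), (720, 12, 48), (450, 14, 84), (952, 14, 84),
    (454, 14, 56), (954, 14, 56), (446, 15, 30), (766, 16, 32), (724, 20, 160), (828, 20, 160),
    (458, 21, 42), (956, 21, 42), (466, 22, 264), (470, 22, 22), (942, 23, 23), (790, 24, 48),
    (832, 24, 48), (728, 28, 28), (958, 28, 28), (948, 29, 29), (732, 30, 30), (944, 31, 31),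
    (964, 31, 31), (966, 31, 31), (474, 33, 66), (478, 33, 66), (462, 35, 35), (960, 35, 35),
    (940, 37, 37), (968, 37, 37), (970, 37, 37), (820, 40, 40), (914, 40, 40), (736, 42, 42),
    (962, 42, 42), (946, 43, 43), (972, 43, 43), (974, 43, 43), (740, 44, 44), (748, 66, 66),
    (744, 66, 66)]

/-- The pairs of representatives of equal orders. -/
def samePairs : List (ℕ × ℕ) :=
  [(0, 10), (418, 414), (422, 414), (422, 418), (434, 426), (430, 426), (430, 434), (712, 704), (708, 704), (708, 712), (442, 438), (716, 824), (720, 716), (720, 824), (454, 450), (454, 952), (954, 450), (954, 952), (466, 470), (220, 950), (450, 952), (454, 954), (458, 956), (728, 958), (462, 960), (736, 962), (944, 964), (944, 966), (964, 966), (940, 968), (940, 970), (968, 970), (946, 972), (946, 974), (972, 974), (40, 38), (478, 474), (744, 748), (724, 828), (790, 832), (820, 914)]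

theorem reps_order : ∀ e ∈ reps, orderOf (el cm e.1) = e.2.1 := by
  simp only [reps, List.forall_mem_cons]
  exact ⟨ord10, ord0, ord90, ord414, ord418, ord422, ord86, ord434, ord426, ord430, ord220, ord950, ord704, ord712, ord708, ord438, ord442, ord40, ord38, ord716, ord824, ord720, ord450, ord952, ord454, ord954, ord446, ord766, ord724, ord828, ord458, ord956, ord466, ord470, ord942, ord790, ord832, ord728, ord958, ord948, ord732, ord944, ord964, ord966, ord474, ord478, ord462, ord960, ord940, ord968, ord970, ord820, ord914, ord736, ord962, ord946, ord972, ord974, ord740, ord748, ord744, fun _ h => absurd h List.not_mem_nil⟩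

theorem reps_bound (F : Facts Spor.J4) : ∀ e ∈ reps, Nat.card ↥(centralizer ({el cm e.1} : Set Spor.J4)) ≤ e.2.2 := by
  simp only [reps, List.forall_mem_cons]
  exact ⟨cb10 F, cb0 F, cb90 F, cb414 F, cb418 F, cb422 F, cb86 F, cb434 F, cb426 F, cb430 F, cb220 F, cb950 F, cb704 F, cb712 F, cb708 F, cb438 F, cb442 F, cb40 F, cb38 F, cb716 F, cb824 F, cb720 F, cb450 F, cb952 F, cb454 F, cb954 F, cb446 F, cb766 F, cb724 F, cb828 F, cb458 F, cb956 F, cb466 F, cb470 F, cb942 F, cb790 F, cb832 F, cb728 F, cb958 F, cb948 F, cb732 F, cb944 F, cb964 F, cb966 F, cb474 F, cb478 F, cb462 F, cb960 F, cb940 F, cb968 F, cb970 F, cb820 F, cb914 F, cb736 F, cb962 F, cb946 F, cb972 F, cb974 F, cb740 F, cb748 F, cb744 F, fun _ h => absurd h List.not_mem_nil⟩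

theorem pairs_ne (F : Facts Spor.J4) : ∀ e ∈ samePairs, ¬ IsConj (el cm e.1) (el cm e.2) := by
  simp only [samePairs, List.forall_mem_cons]
  exact ⟨nc_0_10 pool (by decide),
    nc_418_414 pool (by decide),
    nc_422_414 pool (by decide),
    nc_422_418 pool (by decide),
    nc_434_426 pool (by decide),
    nc_430_426 pool (by decide),
    nc_430_434 pool (by decide),
    nc_712_704 pool (by decide),
    nc_708_704 pool (by decide),
    nc_708_712 pool (by decide),
    nc_442_438 pool (by decide),
    nc_716_824 pool (by decide),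
    nc_720_716 pool (by decide),
    nc_720_824 pool (by decide),
    nc_454_450 pool (by decide),
    nc_454_952 pool (by decide),
    nc_954_450 pool (by decide),
    nc_954_952 pool (by decide),
    nc_466_470 pool (by decide),
    galois_ne (k := 1) (j := 3) F (by decide) (by decide) (List.all_eq_true.mp ord_powers0 (220, 3, 950) (by decide)) ord220 (by decide) (by decide) (by decide),
    galois_ne (k := 8) (j := 3) F (by decide) (by decide) (List.all_eq_true.mp ord_powers0 (450, 3, 952) (by decide)) ord450 (by decide) (by decide) (by decide),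
    galois_ne (k := 8) (j := 3) F (by decide) (by decide) (List.all_eq_true.mp ord_powers0 (454, 3, 954) (by decide)) ord454 (by decide) (by decide) (by decide),
    galois_ne (k := 15) (j := 10) F (by decide) (by decide) (List.all_eq_true.mp ord_powers0 (458, 10, 956) (by decide)) ord458 (by decide) (by decide) (by decide),
    galois_ne (k := 16) (j := 17) F (by decide) (by decide) (List.all_eq_true.mp ord_powers0 (728, 17, 958) (by decide)) ord728 (by decide) (by decide) (by decide),
    galois_ne (k := 15) (j := 31) F (by decide) (by decide) (List.all_eq_true.mp ord_powers1 (462, 31, 960) (by decide)) ord462 (by decide) (by decide) (by decide),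
    galois_ne (k := 30) (j := 31) F (by decide) (by decide) (List.all_eq_true.mp ord_powers2 (736, 31, 962) (by decide)) ord736 (by decide) (by decide) (by decide),
    big_ne (e := 10) (j := 3) F (by decide) (by decide) (List.all_eq_true.mp ord_powers2 (944, 3, 964) (by decide)) ord944 (by decide) (by decide),
    big_ne (e := 10) (j := 5) F (by decide) (by decide) (List.all_eq_true.mp ord_powers2 (944, 5, 966) (by decide)) ord944 (by decide) (by decide),
    big_ne (e := 10) (j := 12) F (by decide) (by decide) (List.all_eq_true.mp ord_powers3 (964, 12, 966) (by decide)) ord964 (by decide) (by decide),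
    big_ne (e := 12) (j := 2) F (by decide) (by decide) (List.all_eq_true.mp ord_powers3 (940, 2, 968) (by decide)) ord940 (by decide) (by decide),
    big_ne (e := 12) (j := 3) F (by decide) (by decide) (List.all_eq_true.mp ord_powers3 (940, 3, 970) (by decide)) ord940 (by decide) (by decide),
    big_ne (e := 12) (j := 20) F (by decide) (by decide) (List.all_eq_true.mp ord_powers3 (968, 20, 970) (by decide)) ord968 (by decide) (by decide),
    big_ne (e := 14) (j := 3) F (by decide) (by decide) (List.all_eq_true.mp ord_powers3 (946, 3, 972) (by decide)) ord946 (by decide) (by decide),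
    big_ne (e := 14) (j := 7) F (by decide) (by decide) (List.all_eq_true.mp ord_powers4 (946, 7, 974) (by decide)) ord946 (by decide) (by decide),
    big_ne (e := 14) (j := 31) F (by decide) (by decide) (List.all_eq_true.mp ord_powers4 (972, 31, 974) (by decide)) ord972 (by decide) (by decide),
    trace_ne (by decide) (by decide) tr_x,
    trace_ne (by decide) (by decide) tr_list.1,
    trace_ne (by decide) (by decide) tr_list.2,
    ncl_724_828 F,
    ncl_790_832 F,
    ncl_820_914 F, fun _ h => absurd h List.not_mem_nil⟩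

theorem table_ok : reps.length = 61 ∧ (reps.all fun e => Nat.ble 2 e.2.1) = true ∧
    (∀ i : Fin 61, ∀ j : Fin 61, (reps.getD i (0, 0, 0)).2.1 = (reps.getD j (0, 0, 0)).2.1 → i = j ∨
      ((reps.getD i (0, 0, 0)).1, (reps.getD j (0, 0, 0)).1) ∈ samePairs ∨
      ((reps.getD j (0, 0, 0)).1, (reps.getD i (0, 0, 0)).1) ∈ samePairs) ∧
    86775571046077562880 ≤ ∑ i : Fin 62,
      86775571046077562880 / (Fin.cons 86775571046077562880 (fun i : Fin 61 => (reps.getD i (0, 0, 0)).2.2) : Fin 62 → ℕ) i := by
  decide +kernel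

/-- The presented group has 62 classes. -/
theorem card_conjClasses_J4 (F : Facts Spor.J4) : Nat.card (ConjClasses Spor.J4) = 62 := by
  haveI := finite_J4
  obtain ⟨hlen, hone, hsame, hsum⟩ := table_ok
  have hm : ∀ i : Fin 61, reps.getD i (0, 0, 0) ∈ reps := fun i => by
    rw [List.getD_eq_getElem _ _ (hlen.symm ▸ i.2)]
    exact List.getElem_mem _
  let x : Fin 62 → Spor.J4 := Fin.cons 1 fun i : Fin 61 => el cm (reps.getD i (0, 0, 0)).1
  let c : Fin 62 → ℕ := Fin.cons 86775571046077562880 fun i : Fin 61 => (reps.getD i (0, 0, 0)).2.2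
  have hne1 : ∀ i : Fin 61, el cm (reps.getD i (0, 0, 0)).1 ≠ 1 := fun i e => by
    have h := reps_order _ (hm i)
    rw [e, orderOf_one] at h
    have := Nat.le_of_ble_eq_true (List.all_eq_true.mp hone _ (hm i))
    omega
  refine card_conjClasses_eq x c (fun i => ?_) (fun i j => ?_) (card_J4.1 ▸ hsum)
  · induction i using Fin.cases with
    | zero =>
      show _ ≤ 86775571046077562880
      exact (Nat.le_of_dvd Nat.card_pos (card_subgroup_dvd_card _)).trans card_J4.1.le
    | succ i =>
      simp only [x, c, Fin.cons_succ]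
      exact reps_bound F _ (hm i)
  · intro hc
    induction i using Fin.cases with
    | zero =>
      induction j using Fin.cases with
      | zero => rfl
      | succ j =>
        simp only [x, Fin.cons_zero, Fin.cons_succ] at hc
        exact absurd (isConj_one_right.mp hc) (hne1 j)
    | succ i =>
      induction j using Fin.cases with
      | zero =>
        simp only [x, Fin.cons_zero, Fin.cons_succ] at hc
        exact absurd (isConj_one_left.mp hc) (hne1 i)
      | succ j =>
        simp only [x, Fin.cons_succ] at hc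
        have ho : (reps.getD i (0, 0, 0)).2.1 = (reps.getD j (0, 0, 0)).2.1 := by
          rw [← reps_order _ (hm i), ← reps_order _ (hm j)]
          obtain ⟨g, hg⟩ := isConj_iff.mp hc
          rw [← hg]
          exact (MulEquiv.orderOf_eq (MulAut.conj g) _).symm
        rcases hsame i j ho with e | e | e
        · rw [e]
        · exact absurd hc (pairs_ne F _ e)
        · exact absurd hc.symm (pairs_ne F _ e)

end Cfsg.Lib.JankoFour.ClassNumber
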