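import Cfsg.Agent.J4Eleven.Centralizers
import Cfsg.Agent.JankoFour.CentralT
import Cfsg.Agent.JankoFour.Involutions
import Cfsg.Agent.S5564
import Cfsg.Agent.S5567
import Cfsg.Agent.S5569
import Cfsg.Agent.S5573

/-!
Centraliser facts of groups of Janko-four type in a form that passes to isomorphic groups.
-/

set_option autoImplicit false
set_option linter.style.haveILetI false

namespace Cfsg.Lib.JankoFour.ClassNumber

open Cfsg Subgroup

universe u v

/-- The centraliser facts used in counting the classes. -/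
structure Facts (J : Type*) [Group J] : Prop where
  inv : ∃ z₀ : J, orderOf z₀ = 2 ∧ Nat.card ↥(centralizer ({z₀} : Set J)) = 21799895040 ∧
    (∀ s : J, orderOf s = 2 → ¬ IsConj z₀ s → Nat.card ↥(centralizer ({s} : Set J)) ≤ 1816657920 ∧
      ∀ x : J, orderOf x = 11 → Commute x s →
        Nat.card ↥(centralizer ({s} : Set J) ⊓ centralizer ({x} : Set J)) ∣ 2 * 887040) ∧
    (∀ a : J, orderOf a = 3 → Nat.card ↥(centralizer ({a} : Set J)) ≤ 2661120 ∧
      ∃ w, IsConj z₀ w ∧ centralizer ({a} : Set J) ≤ centralizer ({w} : Set J)) ∧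
    ∀ s t : J, orderOf s = 2 → orderOf t = 2 → ¬ IsConj z₀ s → ¬ IsConj z₀ t → IsConj s t
  five : ∀ a : J, orderOf a = 5 → Nat.card ↥(centralizer ({a} : Set J)) = 6720
  seven : ∀ a : J, orderOf a = 7 → Nat.card ↥(centralizer ({a} : Set J)) = 840
  sevenN : ∀ a g : J, orderOf a = 7 → ∀ k : ℕ, g * a * g⁻¹ = a ^ k → k ^ 3 % 7 = 1
  eleven : ∀ (q : ℕ) (a : J), q.Prime → q ≠ 11 → orderOf a = q → ¬ 121 ∣ Nat.card ↥(centralizer ({a} : Set J))
  big : ∀ (p e : ℕ) (a : J), (p, e) ∈ [(23, 22), (29, 28), (31, 10), (37, 12), (43, 14)] → orderOf a = p →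
    Nat.card ↥(centralizer ({a} : Set J)) = p ∧ ∀ g : J, ∀ k : ℕ, g * a * g⁻¹ = a ^ k → k ^ e % p = 1

variable {G : Type u} [Group G] [Finite G]

theorem cent_zpowers (a : G) : centralizer ((zpowers a : Subgroup G) : Set G) = centralizer ({a} : Set G) := by
  refine le_antisymm (centralizer_le (Set.singleton_subset_iff.mpr (mem_zpowers a))) fun g hg => ?_
  rw [mem_centralizer_iff]
  intro y hy
  obtain ⟨i, rfl⟩ := mem_zpowers_iff.mp hy
  exact ((show Commute a g from (mem_centralizer_singleton_iff.mp hg).symm).zpow_left i).eq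

/-- An element conjugated to a power of itself satisfies the congruence of the automiser. -/
theorem pow_congr_of_index {a g : G} {p e : ℕ} (hp : p.Prime) (ha : orderOf a = p) {k : ℕ}
    (hk : g * a * g⁻¹ = a ^ k)
    (hidx : Nat.card ↥(normalizer ((zpowers a : Subgroup G) : Set G)) =
      Nat.card ↥(centralizer ((zpowers a : Subgroup G) : Set G)) * e) : k ^ e % p = 1 := by
  set Q := zpowers a with hQ
  have hgN : g ∈ normalizer (Q : Set G) := by
    have hle : Q.map (MulAut.conj g).toMonoidHom ≤ Q := by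
      rw [hQ, MonoidHom.map_zpowers, zpowers_le]
      show g * a * g⁻¹ ∈ zpowers a
      rw [hk]
      exact pow_mem (mem_zpowers a) k
    have he := eq_of_le_of_card_ge hle
      (le_of_eq (card_map_of_injective (f := (MulAut.conj g).toMonoidHom) (MulAut.conj g).injective).symm)
    rw [mem_normalizer_iff]
    intro x
    refine ⟨fun hx => hle ⟨x, hx, rfl⟩, fun hx => ?_⟩
    obtain ⟨y, hy, e'⟩ : g * x * g⁻¹ ∈ Q.map (MulAut.conj g).toMonoidHom := he.symm ▸ hx
    rwa [← (MulAut.conj g).injective (show MulAut.conj g y = MulAut.conj g x from e')]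
  let f := Q.normalizerMonoidHom
  have hker : Nat.card f.ker = Nat.card ↥(centralizer (Q : Set G)) := by
    rw [show f.ker = (centralizer (Q : Set G)).subgroupOf (normalizer (Q : Set G)) from Q.normalizerMonoidHom_ker]
    exact Nat.card_congr (subgroupOfEquivOfLe (LocalCount.centralizer_le_norm _)).toEquiv
  have hi : f.ker.index = e := by
    have h := f.ker.card_mul_index
    rw [hker, hidx] at h
    exact Nat.eq_of_mul_eq_mul_left Nat.card_pos h
  have hge : g ^ e ∈ centralizer (Q : Set G) := by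
    have h : (⟨g, hgN⟩ : ↥(normalizer (Q : Set G))) ^ e ∈ f.ker :=
      hi ▸ pow_index_mem f.ker _
    rw [show f.ker = (centralizer (Q : Set G)).subgroupOf (normalizer (Q : Set G)) from Q.normalizerMonoidHom_ker,
      mem_subgroupOf] at h
    simpa using h
  have hpow : ∀ n : ℕ, g ^ n * a * (g ^ n)⁻¹ = a ^ (k ^ n) := by
    intro n
    induction n with
    | zero => simp
    | succ n ih =>
      rw [pow_succ', show g * g ^ n * a * (g * g ^ n)⁻¹ = g * (g ^ n * a * (g ^ n)⁻¹) * g⁻¹ by group, ih,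
        ← conj_pow, hk, ← pow_mul, pow_succ']
  have he : g ^ e * a * (g ^ e)⁻¹ = a := by
    rw [cent_zpowers, mem_centralizer_singleton_iff] at hge
    rw [hge, mul_inv_cancel_right]
  have h1 : a ^ (k ^ e) = a ^ 1 := by rw [← hpow, he, pow_one]
  rw [pow_eq_pow_iff_modEq, ha] at h1
  rw [h1, Nat.mod_eq_of_lt hp.one_lt]

theorem facts_of [IsSimpleGroup G] (hG : ¬ IsMulCommutative G) (hJ : Cfsg.IsOfJankoFourType G)
    (e : G ≃* Spor.J4) : Facts G := by
  classical
  have hcard : Nat.card G = 86775571046077562880 :=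
    (Nat.card_congr e.toEquiv).trans Cfsg.Lib.J4Cert.card_J4.1
  obtain ⟨z, hz⟩ := hJ
  have hz' := hz
  obtain ⟨P, hP⟩ := hz'
  obtain ⟨C⟩ := Cfsg.Lib.JankoFour.exists_ctx hP
  have hcH : Nat.card ↥(centralizer ({z} : Set G)) = 21799895040 := by rw [C.cardH]
  refine ⟨⟨z, C.hz, hcH, fun s hs hns => ?_, fun a ha => ?_, fun s t hs ht hns hnt => ?_⟩, fun a ha => ?_, fun a ha => ?_, fun a g ha k hk => ?_,
    fun q a hq hq11 ha => Cfsg.Lib.J4Eleven.cent_eleven hG ⟨z, hz⟩ e hq hq11 ha, fun p r a hp ha => ?_⟩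
  · obtain ⟨V, K, hVC, hKC, hCN, hV, hVcard, hKV, hsup, ⟨f⟩⟩ := Cfsg.Agent.S5569.result hG z hz s hs hns
    haveI : (V.subgroupOf (centralizer ({s} : Set G))).Normal :=
      (normal_subgroupOf_iff_le_normalizer hVC).mpr hCN
    set D := centralizer ({s} : Set G) with hD
    have hK : Nat.card ↥K = 887040 := by
      rw [Nat.card_congr f.toEquiv, Cfsg.Lib.JankoFour.card_aut_M22.1]
    let π := (QuotientGroup.mk' (V.subgroupOf D)).comp (Subgroup.inclusion hKC)
    have hπ : Function.Surjective π := by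
      intro x
      obtain ⟨⟨c, hc⟩, rfl⟩ := QuotientGroup.mk'_surjective _ x
      have hc' : c ∈ ((K ⊔ V : Subgroup G) : Set G) := by rw [hsup]; exact hc
      rw [coe_mul_of_left_le_normalizer_right K V (hKC.trans hCN)] at hc'
      obtain ⟨k, hk, w, hw, rfl⟩ := Set.mem_mul.mp hc'
      refine ⟨⟨k, hk⟩, QuotientGroup.eq.mpr ?_⟩
      rw [mem_subgroupOf]
      show k⁻¹ * (k * w) ∈ V
      rwa [inv_mul_cancel_left]
    have hq : Nat.card (↥D ⧸ V.subgroupOf D) ∣ 887040 := hK ▸ Subgroup.card_dvd_of_surjective π hπ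
    have hDc : Nat.card ↥D ≤ 1816657920 := by
      rw [card_eq_card_quotient_mul_card_subgroup (V.subgroupOf D),
        Nat.card_congr (subgroupOfEquivOfLe hVC).toEquiv, hVcard]
      exact (Nat.mul_le_mul_right _ (Nat.le_of_dvd (by norm_num) hq)).trans (by norm_num)
    refine ⟨hDc, fun x hx hxs => ?_⟩
    set W := D ⊓ centralizer ({x} : Set G) with hW
    have hxD : x ∈ D := mem_centralizer_singleton_iff.mpr hxs.eq
    haveI : Fact (Nat.Prime 11) := ⟨by norm_num⟩
    have hfix : Nat.card ↥(V ⊓ centralizer ({x} : Set G)) = 2 := by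
      obtain ⟨j, hj, hjc⟩ := (Nat.dvd_prime_pow Nat.prime_two).mp
        (hVcard ▸ card_dvd_of_le (inf_le_left : V ⊓ centralizer ({x} : Set G) ≤ V))
      have hmod : Nat.card ↥V ≡ Nat.card ↥(V ⊓ centralizer ({x} : Set G)) [MOD 11] := by
        have hact : ∀ (g : ↥(zpowers x)) (v : ↥V), (g : G) * v * (g : G)⁻¹ ∈ V := fun g v =>
          (mem_normalizer_iff.mp (hCN (zpowers_le.mpr hxD g.2)) v).mp v.2
        letI act : MulAction ↥(zpowers x) ↥V :=
          { smul := fun g v => ⟨(g : G) * v * (g : G)⁻¹, hact g v⟩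
            one_smul := fun v => Subtype.ext (show ((1 : ↥(zpowers x)) : G) * v * ((1 : ↥(zpowers x)) : G)⁻¹ = v by simp)
            mul_smul := fun g g' v => Subtype.ext (show ((g * g' : ↥(zpowers x)) : G) * v * ((g * g' : ↥(zpowers x)) : G)⁻¹ =
              (g : G) * ((g' : G) * v * (g' : G)⁻¹) * (g : G)⁻¹ by simp [mul_assoc]) }
        have h := (IsPGroup.of_card (p := 11) (n := 1) (by rw [Nat.card_zpowers, hx, pow_one]) :
          IsPGroup 11 ↥(zpowers x)).card_modEq_card_fixedPoints ↥V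
        suffices e' : Nat.card ↥(MulAction.fixedPoints ↥(zpowers x) ↥V) = Nat.card ↥(V ⊓ centralizer ({x} : Set G)) by
          rwa [e'] at h
        refine Nat.card_congr
          { toFun := fun v => ⟨v.1.1, v.1.2, ?_⟩
            invFun := fun v => ⟨⟨v.1, v.2.1⟩, ?_⟩
            left_inv := fun _ => rfl
            right_inv := fun _ => rfl }
        · show (v.1.1 : G) ∈ centralizer ({x} : Set G)
          rw [mem_centralizer_singleton_iff]
          have := congrArg Subtype.val (v.2 ⟨x, mem_zpowers x⟩)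
          exact (mul_inv_eq_iff_eq_mul.mp this).symm
        · intro g
          obtain ⟨i, hi⟩ := mem_zpowers_iff.mp g.2
          refine Subtype.ext ?_
          show (g : G) * v.1 * (g : G)⁻¹ = v.1
          rw [← hi, mul_inv_eq_iff_eq_mul]
          exact ((show Commute x v.1 from (mem_centralizer_singleton_iff.mp v.2.2).symm).zpow_left i).eq
      rw [hVcard, hjc] at hmod
      rw [hjc]
      interval_cases j
      all_goals first | rfl | (exact absurd hmod (by decide)) | skip
      exfalso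
      have hVle : V ≤ centralizer ({x} : Set G) := by
        rw [← inf_eq_left]
        exact eq_of_le_of_card_ge inf_le_left (by rw [hjc, hVcard])
      have hxV : x ∈ V := (Cfsg.Agent.S5567.result hG ⟨z, hz⟩ V hV hVcard).1
        (mem_centralizer_iff.mpr fun v hv => mem_centralizer_singleton_iff.mp (hVle hv))
      have h11 : 11 ∣ 2 ^ 11 := by
        have h := orderOf_dvd_natCard (⟨x, hxV⟩ : ↥V)
        rwa [Subgroup.orderOf_mk, hx, hVcard] at h
      norm_num at h11
    have h2 := (V.subgroupOf W).card_mul_index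
    have hVW : Nat.card ↥(V.subgroupOf W) = 2 := by
      rw [← inf_subgroupOf_right, Nat.card_congr (subgroupOfEquivOfLe inf_le_right).toEquiv, ← hfix]
      congr 1
      rw [hW, ← inf_assoc, inf_eq_left.mpr hVC]
    rw [hVW] at h2
    rw [← h2]
    refine Nat.mul_dvd_mul_left 2 (dvd_trans ?_ hq)
    have hker : ((QuotientGroup.mk' (V.subgroupOf D)).comp (Subgroup.inclusion (inf_le_left : W ≤ D))).ker =
        V.subgroupOf W := by
      rw [← MonoidHom.comap_ker, QuotientGroup.ker_mk']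
      rfl
    rw [← hker, Subgroup.index_ker]
    exact card_subgroup_dvd_card _
  · have hconj := Cfsg.Agent.S5564.result hG ⟨z, hz⟩ a C.p ha C.ord
    obtain ⟨φ, hφs, hk, -⟩ : ∃ φ : ↥(centralizer ({z} : Set G) ⊓ centralizer (P : Set G)) →* Spor.M22,
        Function.Surjective φ ∧ Nat.card ↥φ.ker = 6 ∧ True := by
      obtain ⟨φ, h1, -, h2, -⟩ := C.exists_hom_K
      exact ⟨φ, h1, h2, trivial⟩
    have hKp : centralizer ({z} : Set G) ⊓ centralizer (P : Set G) = centralizer ({C.p} : Set G) := by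
      rw [inf_eq_right.mpr (C.centralizer_P_le hG)]
      ext x
      rw [C.mem_CP, mem_centralizer_singleton_iff]
      rfl
    have hcp : Nat.card ↥(centralizer ({C.p} : Set G)) ≤ 2661120 := by
      rw [← hKp, card_eq_card_quotient_mul_card_subgroup φ.ker, hk,
        Nat.card_congr (QuotientGroup.quotientKerEquivOfSurjective φ hφs).toEquiv]
      have h2 := Cfsg.Lib.JankoFour.card_aut_M22.2
      have h1 := (Cfsg.Inn Spor.M22).card_mul_index
      rw [h2, Cfsg.Lib.JankoFour.card_aut_M22.1] at h1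
      have h3 : Nat.card ↥Spor.M22 = Nat.card ↥(Cfsg.Inn Spor.M22) :=
        Nat.card_congr (MonoidHom.ofInjective Cfsg.Lib.JankoFour.conjM22_injective).toEquiv
      omega
    obtain ⟨g, hg⟩ := isConj_iff.mp hconj.symm
    refine ⟨(Cfsg.Lib.JankoFour.BigPrimes.card_cent_conj hconj).trans_le hcp, g * z * g⁻¹,
      isConj_iff.mpr ⟨g, rfl⟩, fun x hx => ?_⟩
    have hx' : g⁻¹ * x * g ∈ centralizer ({C.p} : Set G) := by
      rw [mem_centralizer_singleton_iff] at hx ⊢
      rw [← hg] at hx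
      calc g⁻¹ * x * g * C.p = g⁻¹ * (x * (g * C.p * g⁻¹)) * g := by group
        _ = g⁻¹ * (g * C.p * g⁻¹ * x) * g := by rw [hx]
        _ = C.p * (g⁻¹ * x * g) := by group
    rw [← hKp] at hx'
    have h := mem_centralizer_singleton_iff.mp hx'.1
    rw [mem_centralizer_singleton_iff]
    calc x * (g * z * g⁻¹) = g * (g⁻¹ * x * g * z) * g⁻¹ := by group
      _ = g * (z * (g⁻¹ * x * g)) * g⁻¹ := by rw [h]
      _ = g * z * g⁻¹ * x := by group
  · have hT : ∀ u : G, orderOf u = 2 → ¬ IsConj z u → ∃ v ∈ (C.sextet hG).T, IsConj u v := by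
      intro u hu hnu
      obtain ⟨v, hv, huv⟩ := C.to_V hG (g := u) (by rw [← pow_two, ← hu, pow_orderOf_eq_one])
      refine ⟨v, ⟨hv, ?_, fun h => hnu (h.trans huv.symm)⟩, huv⟩
      rintro rfl
      rw [isConj_one_left.mp huv, orderOf_one] at hu
      norm_num at hu
    obtain ⟨v, hv, hsv⟩ := hT s hs hns
    obtain ⟨w, hw, htw⟩ := hT t ht hnt
    obtain ⟨m, -, hm⟩ := (C.sextet hG).transitive hv hw
    exact hsv.trans ((isConj_iff.mpr ⟨m, hm⟩).trans htw.symm)
  · haveI : Fact (Nat.Prime 5) := ⟨by norm_num⟩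
    obtain ⟨b, hb, hbo, e5⟩ := Cfsg.Lib.JankoFour.BigPrimes.conj_into (r := 5) (by rw [hcard]; decide +kernel)
      (centralizer ({z} : Set G)) (by rw [C.cardH]; norm_num) ha
    obtain ⟨F⟩ := C.exists_five
    obtain ⟨h, -, hh⟩ := Cfsg.Lib.JankoFour.conj_of_prime_card (Subgroup.zpowers_le.mpr F.sH) (zpowers_le.mpr hb)
      (Cfsg.Lib.JankoFour.Ctx.Five.card_s F) (by rw [Nat.card_zpowers, hbo]) (C.fac_five (IsConj.refl z))
    rw [e5, ← cent_zpowers, ← hh, Cfsg.Lib.JankoFour.LocalCount.map_centralizer_conj,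
      card_map_of_injective (f := (MulAut.conj h).toMonoidHom) (MulAut.conj h).injective]
    exact F.centralizer_card hG
  · haveI : Fact (Nat.Prime 7) := ⟨by norm_num⟩
    obtain ⟨b, hb, hbo, e7⟩ := Cfsg.Lib.JankoFour.BigPrimes.conj_into (r := 7) (by rw [hcard]; decide +kernel)
      (centralizer ({z} : Set G)) (by rw [C.cardH]; norm_num) ha
    have h7 := (Cfsg.Agent.S5573.result hG z hz (zpowers b) (by rw [Nat.card_zpowers, hbo]) (zpowers_le.mpr hb)).2.2
    have h3 := h7.1
    rw [h7.2] at h3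
    rw [e7, ← cent_zpowers]
    omega
  · haveI : Fact (Nat.Prime 7) := ⟨by norm_num⟩
    obtain ⟨b, hb, hbo, e7⟩ := Cfsg.Lib.JankoFour.BigPrimes.conj_into (r := 7) (by rw [hcard]; decide +kernel)
      (centralizer ({z} : Set G)) (by rw [C.cardH]; norm_num) ha
    refine pow_congr_of_index (by norm_num) ha hk ?_
    have h7 := (Cfsg.Agent.S5573.result hG z hz (zpowers b) (by rw [Nat.card_zpowers, hbo]) (zpowers_le.mpr hb)).2.2
    have hSa : ∀ c : G, orderOf c = 7 → ∃ S : Sylow 7 G, (S : Subgroup G) = zpowers c := by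
      intro c hc
      refine ⟨Sylow.ofCard (zpowers c) ?_, rfl⟩
      rw [Nat.card_zpowers, hc, hcard, show (86775571046077562880 : ℕ).factorization 7 = 1 from ?_, pow_one]
      rw [← Nat.multiplicity_eq_factorization (by norm_num) (by norm_num)]
      exact multiplicity_eq_of_dvd_of_not_dvd (by decide +kernel) (by decide +kernel)
    obtain ⟨A, hA⟩ := hSa a ha
    obtain ⟨B, hB⟩ := hSa b hbo
    obtain ⟨t, ht⟩ := MulAction.exists_smul_eq G B A
    have hmap : zpowers a = (zpowers b).map (MulAut.conj t).toMonoidHom := by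
      rw [← hA, ← hB, ← ht, Sylow.coe_subgroup_smul]
      rfl
    rw [hmap, ← Subgroup.map_equiv_normalizer_eq, card_map_of_injective (MulAut.conj t).injective,
      Cfsg.Lib.JankoFour.LocalCount.map_centralizer_conj, card_map_of_injective (MulAut.conj t).injective, h7.1,
      mul_comm]
  · have hpp : p.Prime := by
      simp only [List.mem_cons, Prod.mk.injEq, List.not_mem_nil, or_false] at hp
      rcases hp with ⟨rfl, -⟩ | ⟨rfl, -⟩ | ⟨rfl, -⟩ | ⟨rfl, -⟩ | ⟨rfl, -⟩ <;> norm_num
    haveI : Fact p.Prime := ⟨hpp⟩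
    obtain ⟨S, hS⟩ := (IsPGroup.of_card (p := p) (n := 1) (by rw [Nat.card_zpowers, ha, pow_one]) :
      IsPGroup p (zpowers a)).exists_le_sylow
    have hS' : Nat.card ↥(S : Subgroup G) = p ∧ centralizer ((S : Subgroup G) : Set G) = S ∧
        Nat.card ↥(normalizer ((S : Subgroup G) : Set G)) = p * r := by
      obtain ⟨h23, h29, h31, h37, h43⟩ := Cfsg.Lib.JankoFour.BigPrimes.of_iso hG ⟨z, hz⟩ e
      simp only [List.mem_cons, Prod.mk.injEq, List.not_mem_nil, or_false] at hp
      rcases hp with ⟨rfl, rfl⟩ | ⟨rfl, rfl⟩ | ⟨rfl, rfl⟩ | ⟨rfl, rfl⟩ | ⟨rfl, rfl⟩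
      exacts [⟨Cfsg.Lib.JankoFour.BigPrimes.sylow_card hcard (by decide) S, (h23 S).1, (h23 S).2⟩,
        ⟨Cfsg.Lib.JankoFour.BigPrimes.sylow_card hcard (by decide) S, (h29 S).1, (h29 S).2⟩,
        ⟨Cfsg.Lib.JankoFour.BigPrimes.sylow_card hcard (by decide) S, (h31 S).1, (h31 S).2⟩,
        ⟨Cfsg.Lib.JankoFour.BigPrimes.sylow_card hcard (by decide) S, (h37 S).1, (h37 S).2⟩,
        ⟨Cfsg.Lib.JankoFour.BigPrimes.sylow_card hcard (by decide) S, (h43 S).1, (h43 S).2⟩]
    obtain ⟨hSc, hSC, hSN⟩ := hS'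
    have hSa : (S : Subgroup G) = zpowers a :=
      (eq_of_le_of_card_ge hS (by rw [hSc, Nat.card_zpowers, ha])).symm
    rw [hSa] at hSC hSN
    have hc : Nat.card ↥(centralizer ((zpowers a : Subgroup G) : Set G)) = p := by
      rw [hSC, Nat.card_zpowers, ha]
    refine ⟨by rw [← cent_zpowers, hc], fun g k hk => pow_congr_of_index hpp ha hk ?_⟩
    rw [hc, hSN]

omit [Finite G] in
theorem card_cent_equiv {J : Type v} [Group J] (e : G ≃* J) (a : G) :
    Nat.card ↥(centralizer ({e a} : Set J)) = Nat.card ↥(centralizer ({a} : Set G)) := by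
  refine (Nat.card_congr ?_).symm
  refine ((e.toEquiv).subtypeEquiv fun x => ?_)
  rw [mem_centralizer_singleton_iff, mem_centralizer_singleton_iff]
  constructor
  · intro h
    show e x * e a = e a * e x
    rw [← map_mul, ← map_mul, h]
  · intro h
    exact e.injective (by rw [map_mul, map_mul]; exact h)

omit [Finite G] in
theorem Facts.map {J : Type v} [Group J] (e : G ≃* J) (F : Facts G) : Facts J := by
  have hc : ∀ a : J, Nat.card ↥(centralizer ({a} : Set J)) = Nat.card ↥(centralizer ({e.symm a} : Set G)) :=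
    fun a => by rw [← card_cent_equiv e (e.symm a), e.apply_symm_apply]
  have ho : ∀ a : J, orderOf (e.symm a) = orderOf a := fun a => MulEquiv.orderOf_eq _ a
  obtain ⟨z, hz, hzc, hs, h3, ht⟩ := F.inv
  refine ⟨⟨e z, by rw [MulEquiv.orderOf_eq, hz], by rw [card_cent_equiv, hzc], fun s ho2 hns => ?_, fun a ha => ?_,
      fun s t hs2 ht2 hns hnt => ?_⟩,
    fun a ha => by rw [hc]; exact F.five _ (by rw [ho, ha]), fun a ha => by rw [hc]; exact F.seven _ (by rw [ho, ha]),
    fun a g ha k hk => F.sevenN (e.symm a) (e.symm g) (by rw [ho, ha]) k ?_,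
    fun q a hq hq11 ha => by rw [hc]; exact F.eleven q _ hq hq11 (by rw [ho, ha]),
    fun p r a hp ha => ⟨by rw [hc]; exact (F.big p r _ hp (by rw [ho, ha])).1, fun g k hk =>
      (F.big p r (e.symm a) hp (by rw [ho, ha])).2 (e.symm g) k ?_⟩⟩
  · have hns' : ¬ IsConj z (e.symm s) := fun h => hns (by
      have := e.toMonoidHom.map_isConj h
      simpa using this)
    obtain ⟨h1, h2⟩ := hs (e.symm s) (by rw [ho, ho2]) hns'
    refine ⟨by rw [hc]; exact h1, fun x hx hxs => ?_⟩
    refine dvd_trans (dvd_of_eq (Nat.card_congr ?_)) (h2 (e.symm x) (by rw [ho, hx]) (hxs.map e.symm.toMonoidHom))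
    refine e.symm.toEquiv.subtypeEquiv fun y => ?_
    simp only [mem_inf, mem_centralizer_singleton_iff]
    show _ ↔ e.symm y * e.symm s = e.symm s * e.symm y ∧ e.symm y * e.symm x = e.symm x * e.symm y
    simp only [← map_mul, e.symm.injective.eq_iff]
  · obtain ⟨h1, w, hw, hle⟩ := h3 (e.symm a) (by rw [ho, ha])
    refine ⟨by rw [hc]; exact h1, e w, e.toMonoidHom.map_isConj hw, fun y hy => ?_⟩
    have := hle (show e.symm y ∈ _ by
      rw [mem_centralizer_singleton_iff, ← map_mul, ← map_mul, mem_centralizer_singleton_iff.mp hy])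
    rw [mem_centralizer_singleton_iff] at this ⊢
    have h' := congrArg e this
    simpa using h'
  · have hn : ∀ u : J, ¬ IsConj (e z) u → ¬ IsConj z (e.symm u) := fun u hu h => hu (by
      simpa using e.toMonoidHom.map_isConj h)
    simpa using e.toMonoidHom.map_isConj
      (ht (e.symm s) (e.symm t) (by rw [ho, hs2]) (by rw [ho, ht2]) (hn s hns) (hn t hnt))
  · rw [← map_inv, ← map_mul, ← map_mul, hk, map_pow]
  · rw [← map_inv, ← map_mul, ← map_mul, hk, map_pow]

end Cfsg.Lib.JankoFour.ClassNumber
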