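import Cfsg.Agent.JankoFour.ClassNumber.Seeds
import Cfsg.Agent.JankoFour.ClassNumber.Facts
import Cfsg.Agent.J4Cert.CentMain

/-!
The centraliser of the central involution and the elements of order 11 in it.
-/

set_option autoImplicit false
set_option maxRecDepth 20000
set_option linter.style.haveILetI false

namespace Cfsg.Lib.JankoFour.ClassNumber

open Cfsg Cfsg.Lib.J4Cert Subgroup
open Cfsg.Lib.CosetTable
open scoped Pointwise

variable {B : EBasis} (D : CData B)

theorem C0_lower : 24576 * 887040 ≤ Nat.card ↥D.C0 := by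
  haveI := finite_J4
  rw [← D.π.ker.card_mul_index, Subgroup.index_ker, MonoidHom.range_eq_top.mpr D.π_surj, card_top, hexAut.1]
  exact Nat.mul_le_mul_right _ (Nat.le_of_dvd Nat.card_pos D.dvd_ker)

theorem C0_eq (hb : Nat.card ↥(cent B) ≤ 21799895040) :
    D.C0 = cent B ∧ Nat.card ↥D.π.ker = 24576 := by
  haveI := finite_J4
  have h1 := C0_lower D
  have h2 : Nat.card ↥D.C0 ≤ Nat.card ↥(cent B) := Subgroup.card_le_of_le D.C0_le_cent
  refine ⟨eq_of_le_of_card_ge D.C0_le_cent (by omega), ?_⟩
  have h3 := D.π.ker.card_mul_index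
  rw [Subgroup.index_ker, MonoidHom.range_eq_top.mpr D.π_surj, card_top, hexAut.1] at h3
  have h4 := Nat.le_of_dvd Nat.card_pos D.dvd_ker
  omega

/-- The images of the points under the permutation of an element of order 11. -/
def sigL : List ℕ := [14, 17, 0, 8, 20, 4, 16, 12, 13, 21, 3, 6, 11, 2, 9, 10, 1, 5, 15, 7, 19, 18]

/-- The cycle of the first point. -/
def cycA : List ℕ := [0, 14, 9, 21, 18, 15, 10, 3, 8, 13, 2]
/-- The other cycle. -/
def cycB : List ℕ := [1, 17, 5, 4, 20, 19, 7, 12, 11, 6, 16]

/-- A map commuting with the permutation, from the images of two points. -/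
def commF (a b : ℕ) (i : ℕ) : ℕ :=
  let k := cycA.findIdx (Nat.beq i)
  bif Nat.blt k 11 then (List.range k).foldl (fun u _ => sigL.getD u 0) a
  else (List.range (cycB.findIdx (Nat.beq i))).foldl (fun u _ => sigL.getD u 0) b

/-- A map permuting the hexads comes from a power. -/
def commOnly (a b : ℕ) : Bool :=
  (cHex.any fun h => !hasN cHex (pmask ((List.range 22).map (commF a b)) h)) ||
    (List.range 11).any fun k => (List.range 22).all fun i =>
      Nat.beq (commF a b i) ((List.range k).foldl (fun u _ => sigL.getD u 0) i)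

theorem commOnly_ok : ((List.range 22).all fun a => (List.range 22).all fun b => commOnly a b) = true := by
  decide +kernel

theorem cyc_ok : ∀ i : Fin 22, (cycA.findIdx (Nat.beq i) < 11 ∧
      (List.range (cycA.findIdx (Nat.beq i))).foldl (fun u _ => sigL.getD u 0) 0 = i.val) ∨
    (¬ cycA.findIdx (Nat.beq i) < 11 ∧
      (List.range (cycB.findIdx (Nat.beq i))).foldl (fun u _ => sigL.getD u 0) 1 = i.val) := by decide +kernel

/-- The permutation. -/
def sig : Equiv.Perm (Fin 22) := ((cP 1 * cP 3 * cP 1 * cP 1 * cP 2 * cP 2) ^ 6)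

theorem sig_apply : ∀ i : Fin 22, (sig i : ℕ) = sigL.getD i 0 := by decide +kernel

theorem sig_pow_apply : ∀ (k : ℕ) (i : Fin 22),
    ((sig ^ k) i : ℕ) = (List.range k).foldl (fun u _ => sigL.getD u 0) i.val
  | 0, i => by simp
  | k + 1, i => by
    rw [pow_succ', Equiv.Perm.mul_apply, sig_apply, sig_pow_apply k i, List.range_succ, List.foldl_append]
    rfl

theorem comm_sig {p : Equiv.Perm (Fin 22)} (hp : p ∈ setSystemAut hexB) (hc : p * sig = sig * p) :
    p ∈ zpowers sig := by
  set a := (p 0 : ℕ) with ha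
  set b := (p 1 : ℕ) with hb
  have hcomm : ∀ k : ℕ, ∀ i, p ((sig ^ k) i) = (sig ^ k) (p i) := fun k i => by
    rw [← Equiv.Perm.mul_apply, (Commute.pow_right (show Commute p sig from hc) k).eq, Equiv.Perm.mul_apply]
  have hF : ∀ i : Fin 22, (p i : ℕ) = commF a b i := by
    intro i
    rcases cyc_ok i with ⟨hk, e⟩ | ⟨hk, e⟩
    · have e' : i = (sig ^ cycA.findIdx (Nat.beq i)) 0 :=
        Fin.ext (by rw [sig_pow_apply]; exact e.symm)
      conv_lhs => rw [e', hcomm, sig_pow_apply, ← ha]
      simp only [commF, (Nat.blt_eq).mpr hk, cond_true]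
    · have e' : i = (sig ^ cycB.findIdx (Nat.beq i)) 1 :=
        Fin.ext (by rw [sig_pow_apply]; exact e.symm)
      conv_lhs => rw [e', hcomm, sig_pow_apply, ← hb]
      have : Nat.blt (cycA.findIdx (Nat.beq i)) 11 = false := by
        rw [← Bool.not_eq_true]
        exact fun h => hk (Nat.blt_eq.mp h)
      simp only [commF, this, cond_false]
  have h := commOnly_ok
  simp only [List.all_eq_true, List.mem_range] at h
  have h' := h a (p 0).2 b (p 1).2
  simp only [commOnly, Bool.or_eq_true, List.any_eq_true, List.all_eq_true, List.mem_range,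
    Bool.not_eq_true'] at h'
  rcases h' with ⟨bl, hbl, hn⟩ | ⟨k, -, hk⟩
  · exfalso
    have hmem : p • hexSet bl ∈ hexB := by
      rw [← MulAction.mem_stabilizer_iff.mp hp]
      exact Set.smul_mem_smul_set ⟨bl, hbl, rfl⟩
    obtain ⟨c, hc', he⟩ := hmem
    set q := (List.range 22).map (commF a b) with hq
    have hqi : ∀ i, ∀ hi : i < 22, q.getD i 0 = (p ⟨i, hi⟩ : ℕ) := fun i hi => by
      rw [hq, List.getD_eq_getElem _ _ (by simp [hi]), List.getElem_map, List.getElem_range, hF ⟨i, hi⟩]
    have e : pmask q bl = c := by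
      have hc22 : ∀ x ∈ cHex, x < 2 ^ 22 := by decide +kernel
      refine Nat.eq_of_testBit_eq fun x => Bool.eq_iff_iff.mpr ?_
      rw [pmask, pmask_testBit]
      simp only [Nat.zero_testBit, Bool.false_eq_true, false_or, List.mem_range]
      constructor
      · rintro ⟨i, hi, hbi, rfl⟩
        have : p ⟨i, hi⟩ ∈ p • hexSet bl := Finset.smul_mem_smul_finset (by simp [hexSet, hbi])
        rw [he] at this
        rw [hqi i hi]
        simpa [hexSet] using this
      · intro hx
        have hx22 : x < 22 := by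
          by_contra hge
          have h0 := Nat.testBit_lt_two_pow (i := x) (lt_of_lt_of_le (hc22 c hc')
            (Nat.pow_le_pow_right (by norm_num) (not_lt.mp hge)))
          rw [h0] at hx
          exact Bool.false_ne_true hx
        have : (⟨x, hx22⟩ : Fin 22) ∈ p • hexSet bl := by rw [he]; simp [hexSet, hx]
        rw [Finset.smul_finset_def, Finset.mem_image] at this
        obtain ⟨i, hi, e'⟩ := this
        refine ⟨i, i.2, by simpa [hexSet] using hi, ?_⟩
        rw [hqi i i.2]
        exact congrArg Fin.val e'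
    rw [e] at hn
    have : hasN cHex c = true := by
      have : ∀ x ∈ cHex, hasN cHex x = true := by decide +kernel
      exact this c hc'
    rw [this] at hn
    exact Bool.noConfusion hn
  · refine mem_zpowers_iff.mpr ⟨(k : ℤ), ?_⟩
    rw [zpow_natCast]
    refine Equiv.ext fun i => Fin.ext ?_
    rw [sig_pow_apply, hF i]
    exact (Nat.eq_of_beq_eq_true (hk i i.2)).symm

theorem sig_order : orderOf sig = 11 := by
  haveI : Fact (Nat.Prime 11) := ⟨by norm_num⟩
  have h : (∀ i : Fin 22, (List.range 11).foldl (fun u _ => sigL.getD u 0) i.val = i.val) ∧ sigL.getD 0 0 ≠ 0 := by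
    decide +kernel
  refine orderOf_eq_prime (Equiv.ext fun i => Fin.ext ?_) fun e => h.2 ?_
  · rw [sig_pow_apply, h.1]; rfl
  · have := sig_apply 0
    rw [e] at this
    exact this.symm

end Cfsg.Lib.JankoFour.ClassNumber
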