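import Cfsg.Agent.J4Cert.Mat
import Cfsg.Agent.J4Cert.SylDef
import Cfsg.Agent.J4Cert.CentDef

/-!
Finite checks behind the class count: products of stored matrices, conjugates distinguished by images of vectors,
and conjugates distinguished by their action on a small invariant space.
-/

set_option autoImplicit false
set_option maxRecDepth 8000

namespace Cfsg.Lib.JankoFour.ClassNumber

open Cfsg.Lib.J4Cert
open Cfsg.Lib.J4Rep (va mmul idMat)

variable (M : ℕ → List ℕ)

/-- The index of the inverse. -/
def iv (j : ℕ) : ℕ := bif Nat.beq (j % 2) 0 then j + 1 else j - 1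

/-- The reversed inverse word. -/
def ivW (w : List ℕ) : List ℕ := (w.map iv).reverse

/-- The matrix of a word. -/
def prodM (w : List ℕ) : List ℕ := w.foldl (fun A j => mB A (M j)) idMat

/-- A vector moved along a word. -/
def vfold (v : ℕ) (w : List ℕ) : ℕ := w.foldl (fun u j => vt (tabs4 (M j)) u) v

/-- The images of vectors under the conjugate of an element by a word. -/
def cKey (us : List ℕ) (x : ℕ) (w : List ℕ) : ℕ := packW (us.map fun u => vfold M u (w ++ x :: ivW w))

/-- The images of vectors under a word. -/
def wKey (us : List ℕ) (w : List ℕ) : ℕ := packW (us.map fun u => vfold M u w)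

/-- A list that increases strictly. -/
def incr : List ℕ → Bool
  | a :: b :: l => Nat.blt a b && incr (b :: l)
  | _ => true

/-- A stored element is a power of a product of earlier ones, and its partner of the inverses. -/
def entryOK (k : ℕ) (e : List ℕ × ℕ) : Bool :=
  e.1.all (fun j => Nat.blt j (2 * k)) && leq (M (2 * k)) (mPow (prodM M e.1) e.2) &&
    leq (M (2 * k + 1)) (mPow (prodM M (ivW e.1)) e.2)

/-- The entries from an index on. -/
def entriesOK : ℕ → List (List ℕ × ℕ) → Bool
  | _, [] => true
  | k, e :: l => entryOK M k e && entriesOK (k + 1) l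

/-- Stored elements commute with an element. -/
def commList (y : ℕ) (gens : List ℕ) : Bool :=
  gens.all fun g => leq (mB (M g) (M y)) (mB (M y) (M g))

/-- A power is a stored element. -/
def powOK (x k y : ℕ) : Bool := leq (mPow (M x) k) (M y)

/-- The words use the listed letters only. -/
def lettersOK (gens : List ℕ) (ws : List (List ℕ)) : Bool :=
  ws.all fun w => w.all fun j => gens.any fun g => Nat.beq g j || Nat.beq (iv g) j

/-- Conjugates along the words have increasing keys. -/
def conjOK (us : List ℕ) (x : ℕ) (ws : List (List ℕ)) : Bool := incr (ws.map (cKey M us x))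

/-- The words have increasing keys. -/
def wordsOK (us : List ℕ) (ws : List (List ℕ)) : Bool := incr (ws.map (wKey M us))

/-- An element is none of the listed conjugates. -/
def outside (us : List ℕ) (x x' : ℕ) (ws : List (List ℕ)) : Bool :=
  let k := cKey M us x' []
  ws.all fun w => !Nat.beq (cKey M us x w) k

/-- The identity of a small space. -/
def idD (d : ℕ) : List ℕ := (List.range d).map fun i => 2 ^ i

/-- A list is a left inverse of a basis. -/
def leftInv (d : ℕ) (B P : List ℕ) : Bool := leq (mmul B P) (idD d)

/-- Rows are the coordinates of the images of a basis. -/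
def actsAs (B : List ℕ) (d : ℕ) (A C : List ℕ) : Bool :=
  Nat.beq C.length d && C.all (fun r => Nat.blt r (2 ^ d)) && leq (mmul C B) (mmul B A)

/-- Rows of a packed small matrix. -/
def unpackD (d : ℕ) : ℕ → ℕ → List ℕ
  | 0, _ => []
  | n + 1, s => Nat.land s (2 ^ d - 1) :: unpackD d n (Nat.shiftRight s d)

/-- The small matrix of a word. -/
def prodC (C : ℕ → List ℕ) (d : ℕ) (w : List ℕ) : List ℕ := w.foldl (fun A j => mmul A (C j)) (idD d)

/-- A node of a tree of conjugates in a small space: state, parent, letter, depth. -/
abbrev Node : Type := ℕ × ℕ × ℕ × ℕ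

/-- A node is the root or comes from a shallower one by one letter. -/
def nodeOK (T : Tr Node) (C : ℕ → List ℕ) (gens : List ℕ) (d : ℕ) (Cx : List ℕ) (n : ℕ) (i : ℕ) : Bool :=
  match T.get i with
  | (s, p, j, dep) =>
    Nat.blt s (2 ^ (d * d)) && bif Nat.beq dep 0 then leq (unpackD d d s) Cx
    else
      match T.get p with
      | (sp, _, _, dp) => Nat.blt p n && Nat.blt dp dep && (gens.any fun g => Nat.beq g j || Nat.beq (iv g) j) &&
          leq (unpackD d d s) (mmul (mmul (C j) (unpackD d d sp)) (C (iv j)))

/-- The nodes in a range are well founded and increasing. -/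
def treeOK (T : Tr Node) (C : ℕ → List ℕ) (gens : List ℕ) (d : ℕ) (Cx : List ℕ) (n lo len : ℕ) : Bool :=
  (List.range' lo len).all fun i => nodeOK T C gens d Cx n i &&
    (Nat.beq i 0 || Nat.blt (T.get (i - 1)).1 (T.get i).1)

/-- Second-level conjugates act as the element does. -/
def levelTwoOK (C : ℕ → List ℕ) (d x : ℕ) (hs : List (List ℕ)) : Bool :=
  hs.all fun w => leq (prodC C d (w ++ x :: ivW w)) (C x)

/-- The trace of a matrix over the field with two elements, as a parity. -/
def trB (A : List ℕ) : Bool :=
  A.zipIdx.foldl (fun s e => xor s (Nat.testBit e.1 e.2)) false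

end Cfsg.Lib.JankoFour.ClassNumber

namespace Cfsg.Lib.JankoFour.ClassNumber

open Cfsg.Lib.J4Cert
open Cfsg.Lib.J4Rep (va mmul idMat)

/-- The difference from the identity, raised to a power. -/
def dM (A : List ℕ) : ℕ → List ℕ
  | 0 => idMat
  | e + 1 => mB (List.zipWith Nat.xor A idMat) (dM A e)

/-- Rows with falling leading bits. -/
def echelon : ℕ → List ℕ → List ℕ → Bool
  | b, h :: hs, w :: ws => Nat.blt h b && Nat.ble (2 ^ h) w && Nat.blt w (2 ^ (h + 1)) && echelon h hs ws
  | _, [], [] => true
  | _, _, _ => false

/-- The image has dimension at least the number of listed vectors. -/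
def lowRk (A : List ℕ) (e : ℕ) (us hs : List ℕ) : Bool :=
  us.all (fun u => Nat.blt u (2 ^ 112)) && echelon 112 hs (mmul us (dM A e))

/-- The image has dimension at most the length of the basis. -/
def upRk (A : List ℕ) (e r : ℕ) (C B : List ℕ) : Bool :=
  Nat.beq B.length r && C.all (fun c => Nat.blt c (2 ^ r)) && leq (mmul C B) (dM A e)

end Cfsg.Lib.JankoFour.ClassNumber
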