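import Mathlib

/-!
Counting conjugacy classes from representatives with bounded centralisers, and bounding centralisers from exhibited
conjugates or exhibited commuting elements.
-/

set_option autoImplicit false

namespace Cfsg.Lib.JankoFour.ClassNumber

open Subgroup

variable {G : Type*} [Group G] [Finite G]

omit [Finite G] in
theorem carrier_mul_centralizer (x : G) :
    Nat.card ↥(ConjClasses.mk x).carrier * Nat.card ↥(centralizer ({x} : Set G)) = Nat.card G := by
  have e := Nat.card_congr (MulAction.orbitEquivQuotientStabilizer (ConjAct G) x)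
  rw [ConjAct.orbit_eq_carrier_conjClasses] at e
  rw [e, Subgroup.nat_card_centralizer_nat_card_stabilizer x, ← card_eq_card_quotient_mul_card_subgroup]
  exact Nat.card_congr ConjAct.ofConjAct.toEquiv

/-- Representatives of pairwise different classes whose classes fill the group are all classes. -/
theorem card_conjClasses_eq {k : ℕ} (x : Fin k → G) (c : Fin k → ℕ)
    (hc : ∀ i, Nat.card ↥(centralizer ({x i} : Set G)) ≤ c i)
    (hne : ∀ i j, IsConj (x i) (x j) → i = j)
    (hsum : Nat.card G ≤ ∑ i, Nat.card G / c i) : Nat.card (ConjClasses G) = k := by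
  classical
  haveI := Fintype.ofFinite G
  have hinj : Function.Injective fun i => ConjClasses.mk (x i) :=
    fun i j h => hne i j (ConjClasses.mk_eq_mk_iff_isConj.mp h)
  refine (Nat.card_eq_fintype_card.trans ?_).trans (Fintype.card_fin k)
  refine le_antisymm ?_ (Fintype.card_le_of_injective _ hinj)
  by_contra hlt
  obtain ⟨C, hC⟩ : ∃ C, C ∉ Finset.univ.image fun i => ConjClasses.mk (x i) := by
    by_contra h
    push Not at h
    refine hlt ?_
    rw [← Finset.card_univ, ← Finset.card_univ (α := Fin k)]
    exact (Finset.card_le_card fun C _ => h C).trans Finset.card_image_le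
  have heq : ∀ i, Nat.card G / c i ≤ (ConjClasses.mk (x i)).carrier.toFinset.card := fun i => by
    rw [← Nat.card_eq_card_toFinset]
    have hpos : 0 < c i := lt_of_lt_of_le Nat.card_pos (hc i)
    refine Nat.div_le_of_le_mul ?_
    rw [← carrier_mul_centralizer (x i), mul_comm (c i)]
    exact Nat.mul_le_mul_left _ (hc i)
  have hpos : 0 < C.carrier.toFinset.card := by
    obtain ⟨a, rfl⟩ := ConjClasses.exists_rep C
    exact Finset.card_pos.mpr ⟨a, Set.mem_toFinset.mpr ConjClasses.mem_carrier_mk⟩
  have htot := sum_conjClasses_card_eq_card G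
  have h2 : ∑ D ∈ Finset.univ.image (fun i => ConjClasses.mk (x i)), D.carrier.toFinset.card + C.carrier.toFinset.card ≤
      ∑ D : ConjClasses G, D.carrier.toFinset.card := by
    refine le_trans (le_of_eq ?_) (Finset.sum_le_univ_sum_of_nonneg (s := insert C (Finset.univ.image fun i =>
      ConjClasses.mk (x i))) (fun D => Nat.zero_le _))
    rw [Finset.sum_insert hC, add_comm]
  rw [Finset.sum_image fun a _ b _ h => hinj h, htot] at h2
  have h3 := Finset.sum_le_sum fun i (_ : i ∈ (Finset.univ : Finset (Fin k))) => heq i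
  rw [Nat.card_eq_fintype_card] at hsum h3
  omega

/-- Distinct conjugates by elements of a subgroup bound a centraliser. -/
theorem mul_card_le {n : ℕ} {x : G} {D : Subgroup G} (hx : centralizer ({x} : Set G) ≤ D) (g : Fin n → G)
    (hg : ∀ i, g i ∈ D) (hinj : Function.Injective fun i => g i * x * (g i)⁻¹) :
    n * Nat.card ↥(centralizer ({x} : Set G)) ≤ Nat.card ↥D := by
  have h := Nat.card_le_card_of_injective
    (fun p : Fin n × ↥(centralizer ({x} : Set G)) => (⟨g p.1 * p.2, mul_mem (hg p.1) (hx p.2.2)⟩ : ↥D)) ?_
  · rwa [Nat.card_prod, Nat.card_fin] at h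
  rintro ⟨i, a, ha⟩ ⟨j, b, hb⟩ h
  have h' : g i * a = g j * b := congrArg Subtype.val h
  have e : ∀ {c : G} (d : G), c ∈ centralizer ({x} : Set G) → d * x * d⁻¹ = d * c * x * (d * c)⁻¹ := fun {c} d hc => by
    rw [show d * c * x = d * (x * c) by rw [mul_assoc, (mem_centralizer_singleton_iff.mp hc)]]
    group
  have hij : i = j := hinj (by
    show g i * x * (g i)⁻¹ = g j * x * (g j)⁻¹
    rw [e (g i) ha, h', ← e (g j) hb])
  subst hij
  simp only [Prod.mk.injEq, Subtype.mk.injEq, true_and]
  exact mul_left_cancel h'

/-- Two levels of distinct conjugates. -/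
theorem mul_mul_card_le {n m : ℕ} {x : G} {D : Subgroup G} (hx : centralizer ({x} : Set G) ≤ D) (g : Fin n → G)
    (h : Fin m → G) (hg : ∀ i, g i ∈ D) (hh : ∀ j, h j ∈ D) {W : Type*} (F : G → W)
    (hF : ∀ i j, F (g i * (h j * x * (h j)⁻¹) * (g i)⁻¹) = F (g i * x * (g i)⁻¹))
    (hginj : Function.Injective fun i => F (g i * x * (g i)⁻¹))
    (hhinj : Function.Injective fun j => h j * x * (h j)⁻¹) :
    n * m * Nat.card ↥(centralizer ({x} : Set G)) ≤ Nat.card ↥D := by
  have key : Function.Injective fun p : Fin n × Fin m => g p.1 * (h p.2 * x * (h p.2)⁻¹) * (g p.1)⁻¹ := by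
    rintro ⟨i, j⟩ ⟨i', j'⟩ e
    simp only at e
    have hii : i = i' := hginj ((hF i j).symm.trans ((congrArg F e).trans (hF i' j')))
    subst hii
    rw [hhinj (mul_left_cancel (mul_right_cancel e))]
  refine mul_card_le hx (fun k => g (finProdFinEquiv.symm k).1 * h (finProdFinEquiv.symm k).2)
    (fun k => mul_mem (hg _) (hh _)) fun a b e => finProdFinEquiv.symm.injective (key ?_)
  simp only at e ⊢
  have r : ∀ p q : G, p * q * x * (p * q)⁻¹ = p * (q * x * q⁻¹) * p⁻¹ := fun p q => by group
  rwa [r, r] at e

/-- The whole class inside a centraliser is exhibited when the bound is attained. -/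
theorem exists_index {n : ℕ} {x : G} {D : Subgroup G} (hx : centralizer ({x} : Set G) ≤ D) (g : Fin n → G)
    (hg : ∀ i, g i ∈ D) (hinj : Function.Injective fun i => g i * x * (g i)⁻¹)
    (hcard : Nat.card ↥D ≤ n * Nat.card ↥(centralizer ({x} : Set G))) {d : G} (hd : d ∈ D) :
    ∃ i, d * x * d⁻¹ = g i * x * (g i)⁻¹ := by
  by_contra hno
  push Not at hno
  have h := mul_card_le hx (Fin.cons d g) (fun i => Fin.cases hd hg i) (fun a b e => ?_)
  · have := Nat.card_pos (α := ↥(centralizer ({x} : Set G)))
    nlinarith
  induction a using Fin.cases with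
  | zero =>
    induction b using Fin.cases with
    | zero => rfl
    | succ b => exact absurd (by simpa using e) (hno b)
  | succ a =>
    induction b using Fin.cases with
    | zero => exact absurd (by simpa using e.symm) (hno a)
    | succ b => exact congrArg Fin.succ (hinj (by simpa using e))

/-- Distinct commuting elements bound a centraliser from below. -/
theorem le_card_centralizer {n : ℕ} {x : G} (g : Fin n → G) (hg : ∀ i, g i * x = x * g i)
    (hinj : Function.Injective g) : n ≤ Nat.card ↥(centralizer ({x} : Set G)) := by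
  have h := Nat.card_le_card_of_injective
    (fun i => (⟨g i, mem_centralizer_singleton_iff.mpr (hg i)⟩ : ↥(centralizer ({x} : Set G))))
    fun a b e => hinj (congrArg Subtype.val e)
  rwa [Nat.card_fin] at h

omit [Finite G] in
theorem centralizer_le_pow (x : G) (k : ℕ) : centralizer ({x} : Set G) ≤ centralizer ({x ^ k} : Set G) := by
  intro g hg
  exact mem_centralizer_singleton_iff.mpr
    (((show Commute g x from mem_centralizer_singleton_iff.mp hg)).pow_right k).eq

/-- Isomorphic groups have the same classes. -/
noncomputable def conjClassesEquiv {A B : Type*} [Group A] [Group B] (e : A ≃* B) : ConjClasses A ≃ ConjClasses B :=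
  Equiv.ofBijective (ConjClasses.map e.toMonoidHom) ⟨fun a b h => by
    obtain ⟨a, rfl⟩ := ConjClasses.exists_rep a
    obtain ⟨b, rfl⟩ := ConjClasses.exists_rep b
    have h' : IsConj (e a) (e b) := ConjClasses.mk_eq_mk_iff_isConj.mp h
    exact ConjClasses.mk_eq_mk_iff_isConj.mpr (by simpa using e.symm.toMonoidHom.map_isConj h'),
    ConjClasses.map_surjective e.surjective⟩

end Cfsg.Lib.JankoFour.ClassNumber
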