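import Cfsg.Agent.JankoFour.ClassNumber.Check
import Cfsg.Agent.JankoFour.ClassNumber.Data.Table
import Cfsg.Agent.JankoFour.ClassNumber.Data.Chains
import Cfsg.Agent.J4Eleven.Checks

/-!
Checks on the stored elements of order 11.
-/

set_option autoImplicit false
set_option maxRecDepth 20000
set_option Elab.async false

namespace Cfsg.Lib.JankoFour.ClassNumber

open Cfsg.Lib.J4Cert
open Cfsg.Lib.J4Rep (idMat)

/-- An element of prime order, from its matrix. -/
def primeOK (j p : ℕ) : Bool := leq (mPow (cm j) p) idMat && !leq (cm j) idMat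

/-- The traces of the first powers. -/
def trPowOK (j : ℕ) (t : Bool) : Bool :=
  (List.range' 1 10).all fun i => decide (J4Eleven.trPar (mPow (cm j) i) = bif t then 1 else 0)

theorem prime_ok : ([(0, 2), (38, 11), (40, 11), (976, 11), (978, 11)].all fun e => primeOK e.1 e.2) = true := by
  decide +kernel

theorem r_ok : leq (cm 976) (mPow (prodM cm [7, 9, 7, 7, 8, 8]) 6) = true ∧ commList cm 10 [976] = true ∧
    commList cm 0 [978] = true ∧ commList cm 38 [40] = true := by decide +kernel

theorem tr_r : trPowOK 976 true = true := by decide +kernel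

theorem tr_rb : trPowOK 978 false = true := by decide +kernel

theorem tr_x : J4Eleven.trPar (cm 40) = 1 ∧ J4Eleven.trPar (cm 38) = 0 := by decide +kernel

theorem erq_small : usErQ.all (fun u => Nat.blt u (2 ^ 112)) = true ∧ lettersOK gensErQ wsErQ = true ∧
    gensErQ.all (fun g => Nat.ble 12 g && Nat.blt g 36 && Nat.beq (g % 2) 0) = true ∧ wsErQ.length = 1024 := by
  decide +kernel

theorem erq_ok : conjOK cm usErQ 976 wsErQ = true := by decide +kernel

end Cfsg.Lib.JankoFour.ClassNumber
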