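import Cfsg.Agent.JankoFour.ClassNumber.Rank
import Cfsg.Agent.JankoFour.ClassNumber.Data.Table
import Cfsg.Agent.JankoFour.ClassNumber.Data.Ranks

/-!
The dimensions that tell classes apart.
-/

set_option autoImplicit false
set_option maxRecDepth 20000
set_option Elab.async false

namespace Cfsg.Lib.JankoFour.ClassNumber

open Cfsg.Lib.J4Cert

theorem rk_lo0_1_1 : lowRk (mPow (cm 0) 1) 1 rkU0_1_1 rkH0_1_1 = true := by decide +kernel

theorem rk_up10_1_1 : upRk (mPow (cm 10) 1) 1 50 rkC10_1_1 rkB10_1_1 = true := by decide +kernel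

theorem rk_up414_1_3 : upRk (mPow (cm 414) 1) 3 20 rkC414_1_3 rkB414_1_3 = true := by decide +kernel

theorem rk_lo418_1_3 : lowRk (mPow (cm 418) 1) 3 rkU418_1_3 rkH418_1_3 = true := by decide +kernel

theorem rk_up418_1_3 : upRk (mPow (cm 418) 1) 3 24 rkC418_1_3 rkB418_1_3 = true := by decide +kernel

theorem rk_lo422_1_3 : lowRk (mPow (cm 422) 1) 3 rkU422_1_3 rkH422_1_3 = true := by decide +kernel

theorem rk_up426_1_1 : upRk (mPow (cm 426) 1) 1 90 rkC426_1_1 rkB426_1_1 = true := by decide +kernel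

theorem rk_lo430_1_1 : lowRk (mPow (cm 430) 1) 1 rkU430_1_1 rkH430_1_1 = true := by decide +kernel

theorem rk_lo430_3_1 : lowRk (mPow (cm 430) 3) 1 rkU430_3_1 rkH430_3_1 = true := by decide +kernel

theorem rk_lo434_1_1 : lowRk (mPow (cm 434) 1) 1 rkU434_1_1 rkH434_1_1 = true := by decide +kernel

theorem rk_up434_3_1 : upRk (mPow (cm 434) 3) 1 50 rkC434_3_1 rkB434_3_1 = true := by decide +kernel

theorem rk_up438_1_1 : upRk (mPow (cm 438) 1) 1 98 rkC438_1_1 rkB438_1_1 = true := by decide +kernel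

theorem rk_lo442_1_1 : lowRk (mPow (cm 442) 1) 1 rkU442_1_1 rkH442_1_1 = true := by decide +kernel

theorem rk_up450_7_1 : upRk (mPow (cm 450) 7) 1 50 rkC450_7_1 rkB450_7_1 = true := by decide +kernel

theorem rk_lo454_7_1 : lowRk (mPow (cm 454) 7) 1 rkU454_7_1 rkH454_7_1 = true := by decide +kernel

theorem rk_lo466_1_1 : lowRk (mPow (cm 466) 1) 1 rkU466_1_1 rkH466_1_1 = true := by decide +kernel

theorem rk_up470_1_1 : upRk (mPow (cm 470) 1) 1 106 rkC470_1_1 rkB470_1_1 = true := by decide +kernel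

theorem rk_up704_1_5 : upRk (mPow (cm 704) 1) 5 35 rkC704_1_5 rkB704_1_5 = true := by decide +kernel

theorem rk_lo708_1_5 : lowRk (mPow (cm 708) 1) 5 rkU708_1_5 rkH708_1_5 = true := by decide +kernel

theorem rk_lo712_1_5 : lowRk (mPow (cm 712) 1) 5 rkU712_1_5 rkH712_1_5 = true := by decide +kernel

theorem rk_up712_1_5 : upRk (mPow (cm 712) 1) 5 36 rkC712_1_5 rkB712_1_5 = true := by decide +kernel

theorem rk_up716_1_1 : upRk (mPow (cm 716) 1) 1 100 rkC716_1_1 rkB716_1_1 = true := by decide +kernel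

theorem rk_lo716_3_3 : lowRk (mPow (cm 716) 3) 3 rkU716_3_3 rkH716_3_3 = true := by decide +kernel

theorem rk_lo720_1_1 : lowRk (mPow (cm 720) 1) 1 rkU720_1_1 rkH720_1_1 = true := by decide +kernel

theorem rk_up824_1_1 : upRk (mPow (cm 824) 1) 1 100 rkC824_1_1 rkB824_1_1 = true := by decide +kernel

theorem rk_up824_3_3 : upRk (mPow (cm 824) 3) 3 20 rkC824_3_3 rkB824_3_3 = true := by decide +kernel

theorem rk_up952_7_1 : upRk (mPow (cm 952) 7) 1 50 rkC952_7_1 rkB952_7_1 = true := by decide +kernel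

theorem rk_lo954_7_1 : lowRk (mPow (cm 954) 7) 1 rkU954_7_1 rkH954_7_1 = true := by decide +kernel

theorem not_conj_pow {n : ℕ} (h : PoolOK cm n) {x y k e r : ℕ} (hx : x < 2 * n) (hy : y < 2 * n) {us hs C B : List ℕ}
    (hlow : lowRk (mPow (cm x) k) e us hs = true) (hup : upRk (mPow (cm y) k) e r C B = true)
    (hr : r < us.length) : ¬ IsConj (el cm x) (el cm y) := fun hc => by
  refine not_conj_rk ((h.el_ok hx).npow k) ((h.el_ok hy).npow k) hlow hup hr ?_
  obtain ⟨c, hc⟩ := isConj_iff.mp hc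
  exact isConj_iff.mpr ⟨c, by rw [← conj_pow, hc]⟩

theorem nc_0_10 {n : ℕ} (h : PoolOK cm n) (hn : 10 < 2 * n) : ¬ IsConj (el cm 0) (el cm 10) :=
  not_conj_pow h (by omega) (by omega) rk_lo0_1_1 rk_up10_1_1 (by decide)

theorem nc_418_414 {n : ℕ} (h : PoolOK cm n) (hn : 418 < 2 * n) : ¬ IsConj (el cm 418) (el cm 414) :=
  not_conj_pow h (by omega) (by omega) rk_lo418_1_3 rk_up414_1_3 (by decide)

theorem nc_422_414 {n : ℕ} (h : PoolOK cm n) (hn : 422 < 2 * n) : ¬ IsConj (el cm 422) (el cm 414) :=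
  not_conj_pow h (by omega) (by omega) rk_lo422_1_3 rk_up414_1_3 (by decide)

theorem nc_422_418 {n : ℕ} (h : PoolOK cm n) (hn : 422 < 2 * n) : ¬ IsConj (el cm 422) (el cm 418) :=
  not_conj_pow h (by omega) (by omega) rk_lo422_1_3 rk_up418_1_3 (by decide)

theorem nc_434_426 {n : ℕ} (h : PoolOK cm n) (hn : 434 < 2 * n) : ¬ IsConj (el cm 434) (el cm 426) :=
  not_conj_pow h (by omega) (by omega) rk_lo434_1_1 rk_up426_1_1 (by decide)

theorem nc_430_426 {n : ℕ} (h : PoolOK cm n) (hn : 430 < 2 * n) : ¬ IsConj (el cm 430) (el cm 426) :=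
  not_conj_pow h (by omega) (by omega) rk_lo430_1_1 rk_up426_1_1 (by decide)

theorem nc_430_434 {n : ℕ} (h : PoolOK cm n) (hn : 434 < 2 * n) : ¬ IsConj (el cm 430) (el cm 434) :=
  not_conj_pow h (by omega) (by omega) rk_lo430_3_1 rk_up434_3_1 (by decide)

theorem nc_712_704 {n : ℕ} (h : PoolOK cm n) (hn : 712 < 2 * n) : ¬ IsConj (el cm 712) (el cm 704) :=
  not_conj_pow h (by omega) (by omega) rk_lo712_1_5 rk_up704_1_5 (by decide)

theorem nc_708_704 {n : ℕ} (h : PoolOK cm n) (hn : 708 < 2 * n) : ¬ IsConj (el cm 708) (el cm 704) :=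
  not_conj_pow h (by omega) (by omega) rk_lo708_1_5 rk_up704_1_5 (by decide)

theorem nc_708_712 {n : ℕ} (h : PoolOK cm n) (hn : 712 < 2 * n) : ¬ IsConj (el cm 708) (el cm 712) :=
  not_conj_pow h (by omega) (by omega) rk_lo708_1_5 rk_up712_1_5 (by decide)

theorem nc_442_438 {n : ℕ} (h : PoolOK cm n) (hn : 442 < 2 * n) : ¬ IsConj (el cm 442) (el cm 438) :=
  not_conj_pow h (by omega) (by omega) rk_lo442_1_1 rk_up438_1_1 (by decide)

theorem nc_716_824 {n : ℕ} (h : PoolOK cm n) (hn : 824 < 2 * n) : ¬ IsConj (el cm 716) (el cm 824) :=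
  not_conj_pow h (by omega) (by omega) rk_lo716_3_3 rk_up824_3_3 (by decide)

theorem nc_720_716 {n : ℕ} (h : PoolOK cm n) (hn : 720 < 2 * n) : ¬ IsConj (el cm 720) (el cm 716) :=
  not_conj_pow h (by omega) (by omega) rk_lo720_1_1 rk_up716_1_1 (by decide)

theorem nc_720_824 {n : ℕ} (h : PoolOK cm n) (hn : 824 < 2 * n) : ¬ IsConj (el cm 720) (el cm 824) :=
  not_conj_pow h (by omega) (by omega) rk_lo720_1_1 rk_up824_1_1 (by decide)

theorem nc_454_450 {n : ℕ} (h : PoolOK cm n) (hn : 454 < 2 * n) : ¬ IsConj (el cm 454) (el cm 450) :=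
  not_conj_pow h (by omega) (by omega) rk_lo454_7_1 rk_up450_7_1 (by decide)

theorem nc_454_952 {n : ℕ} (h : PoolOK cm n) (hn : 952 < 2 * n) : ¬ IsConj (el cm 454) (el cm 952) :=
  not_conj_pow h (by omega) (by omega) rk_lo454_7_1 rk_up952_7_1 (by decide)

theorem nc_954_450 {n : ℕ} (h : PoolOK cm n) (hn : 954 < 2 * n) : ¬ IsConj (el cm 954) (el cm 450) :=
  not_conj_pow h (by omega) (by omega) rk_lo954_7_1 rk_up450_7_1 (by decide)

theorem nc_954_952 {n : ℕ} (h : PoolOK cm n) (hn : 954 < 2 * n) : ¬ IsConj (el cm 954) (el cm 952) :=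
  not_conj_pow h (by omega) (by omega) rk_lo954_7_1 rk_up952_7_1 (by decide)

theorem nc_466_470 {n : ℕ} (h : PoolOK cm n) (hn : 470 < 2 * n) : ¬ IsConj (el cm 466) (el cm 470) :=
  not_conj_pow h (by omega) (by omega) rk_lo466_1_1 rk_up470_1_1 (by decide)

end Cfsg.Lib.JankoFour.ClassNumber
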