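import Cfsg.Agent.JankoFour.ClassNumber.Centre
import Cfsg.Agent.JankoFour.ClassNumber.RankChecks
import Cfsg.Agent.JankoFour.ClassNumber.ElevenChecks

/-!
The centralisers of the elements of order 11.
-/

set_option autoImplicit false
set_option maxRecDepth 20000
set_option linter.style.haveILetI false

namespace Cfsg.Lib.JankoFour.ClassNumber

open Cfsg Cfsg.Lib.J4Cert Subgroup
open Cfsg.Lib.J4Rep (idMat)
open Cfsg.Lib.J4Eleven (trPar matG_trace matG_trace_conj)

attribute [local irreducible] mB mPow prodM vt tabs4 cm trPar idMat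

section general

variable {J : Type*} [Group J] [Finite J]

/-- Distinct conjugates inside a subgroup bound the part of the centraliser in it. -/
theorem mul_card_inf_le {n : ℕ} {x : J} (K : Subgroup J) (g : Fin n → J) (hg : ∀ i, g i ∈ K)
    (hinj : Function.Injective fun i => g i * x * (g i)⁻¹) :
    n * Nat.card ↥(K ⊓ centralizer ({x} : Set J)) ≤ Nat.card ↥K := by
  have h := Nat.card_le_card_of_injective
    (fun p : Fin n × ↥(K ⊓ centralizer ({x} : Set J)) => (⟨g p.1 * p.2, mul_mem (hg p.1) p.2.2.1⟩ : ↥K)) ?_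
  · rwa [Nat.card_prod, Nat.card_fin] at h
  rintro ⟨i, a, ha⟩ ⟨j, b, hb⟩ h
  have h' : g i * a = g j * b := congrArg Subtype.val h
  have e : ∀ {c : J} (d : J), c ∈ centralizer ({x} : Set J) → d * x * d⁻¹ = d * c * x * (d * c)⁻¹ := fun {c} d hc => by
    rw [show d * c * x = d * (x * c) by rw [mul_assoc, (mem_centralizer_singleton_iff.mp hc)]]
    group
  obtain rfl : i = j := hinj (by
    show g i * x * (g i)⁻¹ = g j * x * (g j)⁻¹
    rw [e (g i) ha.2, h', ← e (g j) hb.2])
  simp only [Prod.mk.injEq, Subtype.mk.injEq, true_and]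
  exact mul_left_cancel h'

/-- The order of a normal subgroup and of the part fixed by an element of order 11 agree modulo 11. -/
theorem fixed_congr (K : Subgroup J) [K.Normal] {x : J} (hx : orderOf x = 11) :
    Nat.card ↥K ≡ Nat.card ↥(K ⊓ centralizer ({x} : Set J)) [MOD 11] := by
  haveI : Fact (Nat.Prime 11) := ⟨by norm_num⟩
  have hact : ∀ (g : ↥(zpowers x)) (v : ↥K), (g : J) * v * (g : J)⁻¹ ∈ K := fun g v =>
    Normal.conj_mem inferInstance _ v.2 _
  letI act : MulAction ↥(zpowers x) ↥K :=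
    { smul := fun g v => ⟨(g : J) * v * (g : J)⁻¹, hact g v⟩
      one_smul := fun v => Subtype.ext (show ((1 : ↥(zpowers x)) : J) * v * ((1 : ↥(zpowers x)) : J)⁻¹ = v by simp)
      mul_smul := fun g g' v => Subtype.ext (show ((g * g' : ↥(zpowers x)) : J) * v * ((g * g' : ↥(zpowers x)) : J)⁻¹ =
        (g : J) * ((g' : J) * v * (g' : J)⁻¹) * (g : J)⁻¹ by simp [mul_assoc]) }
  have h := (IsPGroup.of_card (p := 11) (n := 1) (by rw [Nat.card_zpowers, hx, pow_one]) :
    IsPGroup 11 ↥(zpowers x)).card_modEq_card_fixedPoints ↥K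
  suffices e' : Nat.card ↥(MulAction.fixedPoints ↥(zpowers x) ↥K) = Nat.card ↥(K ⊓ centralizer ({x} : Set J)) by
    rwa [e'] at h
  refine Nat.card_congr
    { toFun := fun v => ⟨v.1.1, v.1.2, ?_⟩
      invFun := fun v => ⟨⟨v.1, v.2.1⟩, ?_⟩
      left_inv := fun _ => rfl
      right_inv := fun _ => rfl }
  · show (v.1.1 : J) ∈ centralizer ({x} : Set J)
    rw [mem_centralizer_singleton_iff]
    have := congrArg Subtype.val (v.2 ⟨x, mem_zpowers x⟩)
    exact (mul_inv_eq_iff_eq_mul.mp this).symm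
  · intro g
    obtain ⟨i, hi⟩ := mem_zpowers_iff.mp g.2
    refine Subtype.ext ?_
    show (g : J) * v.1 * (g : J)⁻¹ = v.1
    rw [← hi, mul_inv_eq_iff_eq_mul]
    exact ((show Commute x v.1 from (mem_centralizer_singleton_iff.mp v.2.2).symm).zpow_left i).eq

omit [Finite J] in
theorem card_inf_conj (g a b : J) :
    Nat.card ↥(centralizer ({g * a * g⁻¹} : Set J) ⊓ centralizer ({g * b * g⁻¹} : Set J)) =
      Nat.card ↥(centralizer ({a} : Set J) ⊓ centralizer ({b} : Set J)) := by
  refine (Nat.card_congr ((MulAut.conj g).toEquiv.subtypeEquiv fun y => ?_)).symm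
  simp only [mem_inf, mem_centralizer_singleton_iff]
  show _ ↔ MulAut.conj g y * MulAut.conj g a = MulAut.conj g a * MulAut.conj g y ∧
    MulAut.conj g y * MulAut.conj g b = MulAut.conj g b * MulAut.conj g y
  simp only [← map_mul, (MulAut.conj g).injective.eq_iff]

/-- In a subgroup whose order has one factor 11, an element of order 11 goes to a power of any other. -/
theorem conj_power {D : Subgroup J} {x y : J} (hx : x ∈ D) (hy : y ∈ D) (hxo : orderOf x = 11)
    (hyo : orderOf y = 11) (hD : ¬ 121 ∣ Nat.card ↥D) :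
    ∃ g ∈ D, ∃ i : ℕ, 0 < i ∧ i < 11 ∧ g * x * g⁻¹ = y ^ i := by
  haveI : Fact (Nat.Prime 11) := ⟨by norm_num⟩
  have hfac : (Nat.card ↥D).factorization 11 = 1 := by
    have h1 : 11 ∣ Nat.card ↥D := by
      rw [← hxo, ← Subgroup.orderOf_mk x hx]
      exact orderOf_dvd_natCard _
    refine le_antisymm ?_ ((Nat.Prime.dvd_iff_one_le_factorization (by norm_num) Nat.card_pos.ne').mp h1)
    by_contra hlt
    exact hD ((Nat.Prime.pow_dvd_iff_le_factorization (p := 11) (k := 2) (by norm_num) Nat.card_pos.ne').mpr (by omega))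
  obtain ⟨g, hg, hmap⟩ := Cfsg.Lib.JankoFour.conj_of_prime_card (q := 11) (zpowers_le.mpr hx) (zpowers_le.mpr hy)
    (by rw [Nat.card_zpowers, hxo]) (by rw [Nat.card_zpowers, hyo]) hfac
  have hm : g * x * g⁻¹ ∈ zpowers y := hmap ▸ ⟨x, mem_zpowers x, rfl⟩
  obtain ⟨i₀, e₀⟩ := Submonoid.mem_powers_iff _ _ |>.mp (mem_powers_iff_mem_zpowers.mpr hm)
  obtain ⟨i, hi, e⟩ : ∃ i < 11, y ^ i = g * x * g⁻¹ :=
    ⟨i₀ % 11, Nat.mod_lt _ (by norm_num), by rw [← hyo, pow_mod_orderOf]; exact e₀⟩
  refine ⟨g, hg, i, Nat.pos_of_ne_zero ?_, hi, e.symm⟩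
  rintro rfl
  rw [pow_zero] at e
  have : x = 1 := by
    calc x = g⁻¹ * (g * x * g⁻¹) * g := by group
      _ = 1 := by rw [← e]; group
  rw [this, orderOf_one] at hxo
  norm_num at hxo

/-- A prime power dividing the order: a subgroup of that order centralising one of its elements of prime order. -/
theorem exists_central {C : Subgroup J} {p k : ℕ} (hp : p.Prime) (hk : k ≠ 0) (h : p ^ k ∣ Nat.card ↥C) :
    ∃ (T : Subgroup J) (a : J), T ≤ C ∧ a ∈ T ∧ orderOf a = p ∧ T ≤ centralizer ({a} : Set J) ∧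
      Nat.card ↥T = p ^ k := by
  haveI : Fact p.Prime := ⟨hp⟩
  obtain ⟨T₀, hT₀⟩ := Sylow.exists_subgroup_card_pow_prime (G := ↥C) p h
  haveI : Nontrivial ↥T₀ := Finite.one_lt_card_iff_nontrivial.mp (hT₀ ▸ Nat.one_lt_pow hk hp.one_lt)
  have hP : IsPGroup p ↥T₀ := IsPGroup.of_card hT₀
  haveI := hP.center_nontrivial
  obtain ⟨m, hm⟩ := (hP.to_subgroup (center ↥T₀)).exists_card_eq
  have hpc : p ∣ Nat.card ↥(center ↥T₀) := by
    rw [hm]
    refine dvd_pow_self p fun h0 => ?_
    rw [h0, pow_zero] at hm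
    exact (Finite.one_lt_card_iff_nontrivial.mpr inferInstance).ne' hm
  obtain ⟨a, ha⟩ := exists_prime_orderOf_dvd_card' p hpc
  refine ⟨T₀.map C.subtype, ((a : ↥T₀) : ↥C), ?_, ⟨_, (a : ↥T₀).2, rfl⟩, ?_, ?_, ?_⟩
  · rintro _ ⟨t, -, rfl⟩; exact t.2
  · rw [Subgroup.orderOf_coe, Subgroup.orderOf_coe, Subgroup.orderOf_coe, ha]
  · rintro _ ⟨t, ht, rfl⟩
    rw [mem_centralizer_singleton_iff]
    exact congrArg (fun u : ↥T₀ => ((u : ↥C) : J)) (mem_center_iff.mp a.2 ⟨t, ht⟩)
  · rw [card_map_of_injective C.subtype_injective, hT₀]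

end general

variable (h : PoolOK cm cN) (F : Facts Spor.J4)

include h in
theorem el_prime {j p : ℕ} (hp : p.Prime) (hj : j < 2 * cN) (e : primeOK j p = true) : orderOf (el cm j) = p := by
  haveI : Fact p.Prime := ⟨hp⟩
  simp only [primeOK, Bool.and_eq_true, Bool.not_eq_true'] at e
  exact orderOf_eq_prime ((leq_eq e.1 ▸ (h.el_ok hj).npow p : MOK (el cm j ^ p) idMat).eq MOK.one)
    (J4Eleven.ne_one_of (h.el_ok hj) e.2)

include h in
theorem el_orders : orderOf (el cm 0) = 2 ∧ orderOf (el cm 38) = 11 ∧ orderOf (el cm 40) = 11 ∧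
    orderOf (el cm 976) = 11 ∧ orderOf (el cm 978) = 11 := by
  have hk := List.all_eq_true.mp prime_ok
  exact ⟨el_prime h (by norm_num) (by decide) (hk (0, 2) (by decide)),
    el_prime h (by norm_num) (by decide) (hk (38, 11) (by decide)),
    el_prime h (by norm_num) (by decide) (hk (40, 11) (by decide)),
    el_prime h (by norm_num) (by decide) (hk (976, 11) (by decide)),
    el_prime h (by norm_num) (by decide) (hk (978, 11) (by decide))⟩

include h in
theorem el_Z (B : EBasis) : el cm 10 = B.el 1 := by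
  have e := seed_cent.2.2.2.2.1
  exact (h.el_ok (by decide)).eq (leq_eq e ▸ MOK.z B)

include h F in
/-- The two classes of involutions with their bounds. -/
theorem invol : Nat.card ↥(centralizer ({el cm 10} : Set Spor.J4)) = 21799895040 ∧
    (∀ s : Spor.J4, orderOf s = 2 → IsConj (el cm 10) s ∨ IsConj (el cm 0) s) ∧
    Nat.card ↥(centralizer ({el cm 0} : Set Spor.J4)) ≤ 1816657920 ∧
    (∀ s x : Spor.J4, orderOf s = 2 → ¬ IsConj (el cm 10) s → orderOf x = 11 → Commute x s →
      Nat.card ↥(centralizer ({s} : Set Spor.J4) ⊓ centralizer ({x} : Set Spor.J4)) ∣ 2 * 887040) ∧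
    ∀ a : Spor.J4, orderOf a = 3 → Nat.card ↥(centralizer ({a} : Set Spor.J4)) ≤ 2661120 ∧
      ∃ w, IsConj (el cm 10) w ∧ centralizer ({a} : Set Spor.J4) ≤ centralizer ({w} : Set Spor.J4) := by
  haveI := finite_J4
  obtain ⟨z₀, hz, hzc, hs, h3, ht⟩ := F.inv
  obtain ⟨B⟩ := exists_basis
  obtain ⟨D⟩ := exists_CData B
  have hZ : el cm 10 = B.el 1 := el_Z h B
  have hZo : orderOf (el cm 10) = 2 := by
    rw [hZ]
    exact orderOf_eq_prime (by rw [pow_two]; exact B.el_sq 1) (el_one_ne B)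
  have hc : IsConj z₀ (el cm 10) := by
    by_contra hn
    have h1 := (hs _ hZo hn).1
    have h2 := (C0_lower D).trans (Subgroup.card_le_of_le D.C0_le_cent)
    rw [hZ] at h1
    have : Nat.card ↥(cent B) ≤ 1816657920 := h1
    omega
  have hgx : ¬ IsConj z₀ (el cm 0) := fun hh => nc_0_10 h (by decide) (hh.symm.trans hc)
  have hgo := (el_orders h).1
  refine ⟨?_, fun s hs2 => ?_, (hs _ hgo hgx).1, fun s x hs2 hns hx hxs =>
    (hs s hs2 fun hh => hns (hc.symm.trans hh)).2 x hx hxs, fun a ha => ?_⟩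
  · rw [← Cfsg.Lib.JankoFour.BigPrimes.card_cent_conj hc, hzc]
  · by_cases hn : IsConj z₀ s
    · exact Or.inl (hc.symm.trans hn)
    · exact Or.inr (ht _ _ hgo hs2 hgx hn)
  · obtain ⟨h1, w, hw, hle⟩ := h3 a ha
    exact ⟨h1, w, hc.symm.trans hw, hle⟩

include h in
theorem trace_pow {j : ℕ} (hj : j < 2 * cN) {t : Bool} (ht : trPowOK j t = true) {i : ℕ} (h0 : 0 < i) (hi : i < 11) :
    Matrix.trace (matG (el cm j ^ i)) = bif t then 1 else 0 := by
  rw [matG_trace ((h.el_ok hj).npow i)]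
  exact of_decide_eq_true (List.all_eq_true.mp ht i (List.mem_range'_1.mpr ⟨h0, by omega⟩))

include h in
theorem comm_el {a b : ℕ} (ha : a < 2 * cN) (hb : b < 2 * cN) (e : commList cm a [b] = true) :
    el cm b ∈ centralizer ({el cm a} : Set Spor.J4) :=
  comm_mem h ha (gens := [b]) (by simpa using hb) e b List.mem_cons_self

include h F in
/-- The part of the centraliser of the central involution fixing the element of order 11 in it. -/
theorem card_W : Nat.card ↥(centralizer ({el cm 10} : Set Spor.J4) ⊓ centralizer ({el cm 976} : Set Spor.J4)) ∣ 264 := by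
  haveI := finite_J4
  haveI : Fact (Nat.Prime 11) := ⟨by norm_num⟩
  obtain ⟨B⟩ := exists_basis
  obtain ⟨D⟩ := exists_CData B
  have hZ : el cm 10 = B.el 1 := el_Z h B
  have hc := (invol h F).1
  rw [hZ] at hc ⊢
  obtain ⟨hC, hker⟩ := C0_eq D hc.le
  have hrC : el cm 976 ∈ D.C0 := by
    rw [hC]
    have := comm_el h (a := 10) (b := 976) (by decide) (by decide) r_ok.2.1
    rwa [hZ] at this
  set r : ↥D.C0 := ⟨el cm 976, hrC⟩ with hr
  have hro : orderOf r = 11 := by rw [hr, Subgroup.orderOf_mk]; exact (el_orders h).2.2.2.1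
  -- the permutation of `r`
  obtain ⟨-, -, -, -, -, -, hq⟩ := seed_cent
  have hγ : el cm 6 = D.γ 0 ∧ el cm 8 = D.γ 1 := by
    obtain ⟨c0, -, c1, -⟩ := seed_cent
    exact ⟨(h.el_ok (by decide)).eq (leq_eq c0 ▸ (D.mokγ 0 (by norm_num)).1),
      (h.el_ok (by decide)).eq (leq_eq c1 ▸ (D.mokγ 1 (by norm_num)).1)⟩
  have hm : ∀ j < 2, D.Maps (D.γ j) (cP (2 * j)) ∧ D.Maps (D.γ j)⁻¹ (cP (2 * j + 1)) := fun j hj =>
    ⟨D.maps_gen hj, cP_odd hj ▸ (D.maps_gen hj).inv D⟩
  have hrm : D.Maps (el cm 976) sig := by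
    have e : el cm 976 = wv cm [7, 9, 7, 7, 8, 8] ^ 6 :=
      (h.el_ok (by decide)).eq (leq_eq r_ok.1 ▸ (prodM_ok h (by decide)).npow 6)
    have m7 : D.Maps (el cm 7) (cP 1) := by
      rw [show (7 : ℕ) = iv 6 from rfl, h.el_iv (by decide), hγ.1]; exact (hm 0 (by norm_num)).2
    have m9 : D.Maps (el cm 9) (cP 3) := by
      rw [show (9 : ℕ) = iv 8 from rfl, h.el_iv (by decide), hγ.2]; exact (hm 1 (by norm_num)).2
    have m8 : D.Maps (el cm 8) (cP 2) := by
      rw [hγ.2]; exact (hm 1 (by norm_num)).1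
    have hw : D.Maps (wv cm [7, 9, 7, 7, 8, 8]) (cP 1 * cP 3 * cP 1 * cP 1 * cP 2 * cP 2) := by
      simp only [wv, List.map_cons, List.map_nil, List.prod_cons, List.prod_nil, mul_one, mul_assoc]
      exact m7.mul D (m9.mul D (m7.mul D (m7.mul D (m8.mul D m8))))
    rw [e, sig]
    have hp : ∀ n : ℕ, D.Maps (wv cm [7, 9, 7, 7, 8, 8] ^ n) ((cP 1 * cP 3 * cP 1 * cP 1 * cP 2 * cP 2) ^ n) := by
      intro n
      induction n with
      | zero => simpa using D.maps_one
      | succ n ih => rw [pow_succ, pow_succ]; exact ih.mul D hw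
    exact hp 6
  have hπr : D.π0 r = sig := D.π0_eq hrm
  -- the kernel part
  set K := D.π.ker with hK
  set Kc := K ⊓ centralizer ({r} : Set ↥D.C0) with hKc
  have hKd : Nat.card ↥Kc ∣ 24 := by
    have h1 : Nat.card ↥K ≡ Nat.card ↥Kc [MOD 11] := fixed_congr K hro
    have h2 : Nat.card ↥Kc ∣ 24576 := hker ▸ card_dvd_of_le inf_le_left
    obtain ⟨hu, hl, hg, hlen⟩ := erq_small
    simp only [List.all_eq_true, Bool.and_eq_true, Nat.ble_eq, Nat.blt_eq] at hg
    have hgQ : ∀ g ∈ gensErQ, el cm g ∈ D.Q := by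
      intro g hgm
      obtain ⟨⟨h12, h36⟩, heven⟩ := hg g hgm
      have heven' := Nat.eq_of_beq_eq_true heven
      obtain ⟨i, hi, rfl⟩ : ∃ i < 12, g = 12 + 2 * i := ⟨(g - 12) / 2, by omega, by omega⟩
      simp only [List.all_eq_true, List.mem_range, Bool.and_eq_true] at hq
      rw [(h.el_ok (by norm_num [cN]; omega)).eq (leq_eq (hq i hi).1 ▸ (D.qget hi).1)]
      exact D.q_mem hi
    have hg2 : ∀ g ∈ gensErQ, g < 2 * cN := fun g hgm => by
      have := (hg g hgm).1.2
      norm_num [cN]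
      omega
    have hmem : ∀ i : Fin wsErQ.length, wv cm wsErQ[i] ∈ D.Q := fun i =>
      mem_of_letters h hg2 hl hgQ (List.getElem_mem _)
    have hinjJ : Function.Injective fun i : Fin wsErQ.length => cj cm 976 wsErQ[i] := by
      have hnd : (wsErQ.map (cKey cm usErQ 976)).Nodup := (incr_pairwise erq_ok).imp fun hab => Nat.ne_of_lt hab
      intro i j e
      have key : ∀ l : Fin wsErQ.length, (wsErQ.map (cKey cm usErQ 976))[l.val]'(by simp) =
          packW (usErQ.map (img (cj cm 976 wsErQ[l]))) := fun l => by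
        rw [List.getElem_map, cKey_eq h hu (by decide) (letters_lt hg2 hl (List.getElem_mem _))]
        rfl
      exact Fin.ext ((hnd.getElem_inj_iff (hi := by simp) (hj := by simp)).mp
        ((key i).trans ((congrArg (fun g => packW (usErQ.map (img g))) e).trans (key j).symm)))
    have h3 : wsErQ.length * Nat.card ↥Kc ≤ Nat.card ↥K :=
      mul_card_inf_le K (fun i : Fin wsErQ.length => (⟨wv cm wsErQ[i], D.Q_le_C0 (hmem i)⟩ : ↥D.C0))
        (fun i => D.mem_ker.2 (D.π0_eq (D.maps_Q (hmem i))))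
        (fun i j e => hinjJ (congrArg Subtype.val e))
    rw [hlen, hker] at h3
    rw [hker] at h1
    have hle : Nat.card ↥Kc ≤ 24 := by omega
    unfold Nat.ModEq at h1
    interval_cases hn : Nat.card ↥Kc
    all_goals first | decide | (exfalso; revert h1; decide) | (exfalso; revert h2; decide)
  -- the image part
  set Wc := centralizer ({r} : Set ↥D.C0) with hWc
  let φ : ↥Wc →* Equiv.Perm (Fin 22) := D.π0.comp Wc.subtype
  have hφr : φ.range ≤ zpowers sig := by
    rintro _ ⟨g, rfl⟩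
    refine comm_sig (D.range_π0 ▸ ⟨(g : ↥D.C0), rfl⟩) ?_
    show D.π0 g * sig = sig * D.π0 g
    rw [← hπr, ← map_mul, ← map_mul, mem_centralizer_singleton_iff.mp g.2]
  have hφk : Nat.card ↥φ.ker = Nat.card ↥Kc := by
    have e : φ.ker = (Kc).subgroupOf Wc := by
      ext g
      rw [MonoidHom.mem_ker, mem_subgroupOf, hKc, mem_inf, hK, D.mem_ker]
      exact ⟨fun hg => ⟨hg, g.2⟩, fun hg => hg.1⟩
    rw [e, Nat.card_congr (subgroupOfEquivOfLe inf_le_right).toEquiv]
  have hW : Nat.card ↥Wc ∣ 264 := by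
    rw [← φ.ker.card_mul_index, Subgroup.index_ker, hφk, show 264 = 24 * 11 by norm_num]
    exact Nat.mul_dvd_mul hKd (by rw [← sig_order, ← Nat.card_zpowers]; exact card_dvd_of_le hφr)
  refine dvd_trans (dvd_of_eq ?_) hW
  refine (Nat.card_congr
    { toFun := fun g => ⟨g.1.1, by
          show g.1.1 ∈ centralizer ({B.el 1} : Set Spor.J4)
          exact hC.le g.1.2, mem_centralizer_singleton_iff.mpr
          (congrArg Subtype.val (mem_centralizer_singleton_iff.mp g.2))⟩
      invFun := fun g => ⟨⟨g.1, hC.ge g.2.1⟩, mem_centralizer_singleton_iff.mpr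
        (Subtype.ext (mem_centralizer_singleton_iff.mp g.2.2))⟩
      left_inv := fun _ => rfl
      right_inv := fun _ => rfl }).symm

include h F in
/-- An involution commuting with an element of order 11 fixes its trace and bounds the common centraliser. -/
theorem side_facts {s x : Spor.J4} (hx : orderOf x = 11) (hxs : Commute x s) :
    (IsConj (el cm 10) s → Matrix.trace (matG x) = 1 ∧
      Nat.card ↥(centralizer ({s} : Set Spor.J4) ⊓ centralizer ({x} : Set Spor.J4)) ∣ 264) ∧
    (IsConj (el cm 0) s → Matrix.trace (matG x) = 0) := by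
  haveI := finite_J4
  have moved : ∀ {a b : ℕ}, a < 2 * cN → b < 2 * cN → commList cm a [b] = true → orderOf (el cm b) = 11 →
      orderOf (el cm a) = 2 → IsConj (el cm a) s → ∃ (g : Spor.J4) (i : ℕ), 0 < i ∧ i < 11 ∧
        g * s * g⁻¹ = el cm a ∧ g * x * g⁻¹ = el cm b ^ i := by
    intro a b ha hb e hbo hao hc
    obtain ⟨c, rfl⟩ := isConj_iff.mp hc
    have hx' : c⁻¹ * x * c ∈ centralizer ({el cm a} : Set Spor.J4) := by
      rw [mem_centralizer_singleton_iff]
      calc c⁻¹ * x * c * el cm a = c⁻¹ * (x * (c * el cm a * c⁻¹)) * c := by group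
        _ = c⁻¹ * (c * el cm a * c⁻¹ * x) * c := by rw [hxs.eq]
        _ = el cm a * (c⁻¹ * x * c) := by group
    have hx'o : orderOf (c⁻¹ * x * c) = 11 := by
      rw [← hx, show c⁻¹ * x * c = MulAut.conj c⁻¹ x by simp, MulEquiv.orderOf_eq]
    obtain ⟨g, hg, i, h0, hi, e'⟩ := conj_power hx' (comm_el h ha hb e) hx'o hbo
      (F.eleven 2 _ Nat.prime_two (by norm_num) hao)
    refine ⟨g * c⁻¹, i, h0, hi, ?_, ?_⟩
    · calc g * c⁻¹ * (c * el cm a * c⁻¹) * (g * c⁻¹)⁻¹ = g * el cm a * g⁻¹ := by group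
        _ = el cm a * g * g⁻¹ := by rw [mem_centralizer_singleton_iff.mp hg]
        _ = el cm a := by group
    · rw [← e']; group
  have hZo : orderOf (el cm 10) = 2 := by
    obtain ⟨B⟩ := exists_basis
    rw [el_Z h B]
    exact orderOf_eq_prime (by rw [pow_two]; exact B.el_sq 1) (el_one_ne B)
  obtain ⟨-, -, -, hro, hrbo⟩ := el_orders h
  refine ⟨fun hc => ?_, fun hc => ?_⟩
  · obtain ⟨g, i, h0, hi, e1, e2⟩ := moved (a := 10) (b := 976) (by decide) (by decide) r_ok.2.1 hro hZo hc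
    refine ⟨?_, ?_⟩
    · rw [matG_trace_conj (isConj_iff.mpr ⟨g, e2⟩)]
      exact trace_pow h (by decide) tr_r h0 hi
    · rw [← card_inf_conj g, e1, e2]
      refine dvd_trans (dvd_of_eq ?_) (card_W h F)
      suffices e' : centralizer ({el cm 976 ^ i} : Set Spor.J4) = centralizer ({el cm 976} : Set Spor.J4) by rw [e']
      refine le_antisymm (fun y hy => ?_) (centralizer_le_pow _ i)
      have hco : Nat.Coprime i 11 := ((Nat.Prime.coprime_iff_not_dvd (by norm_num)).mpr
        (Nat.not_dvd_of_pos_of_lt h0 hi)).symm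
      obtain ⟨m, hm⟩ := exists_pow_eq_self_of_coprime (hro.symm ▸ hco : Nat.Coprime i (orderOf (el cm 976)))
      have := centralizer_le_pow (el cm 976 ^ i) m hy
      rwa [hm] at this
  · obtain ⟨g, i, h0, hi, -, e2⟩ := moved (a := 0) (b := 978) (by decide) (by decide) r_ok.2.2.1 hrbo
      (el_orders h).1 hc
    rw [matG_trace_conj (isConj_iff.mpr ⟨g, e2⟩)]
    exact trace_pow h (by decide) tr_rb h0 hi

include h in
theorem el_X : el cm 38 = J4Eleven.eX ∧ el cm 40 = J4Eleven.eZ := by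
  have e : leq (cm 38) J4Eleven.mX = true ∧ leq (cm 40) J4Eleven.mZ = true := by decide +kernel
  exact ⟨(h.el_ok (by decide)).eq (leq_eq e.1 ▸ J4Eleven.eX_ok), (h.el_ok (by decide)).eq (leq_eq e.2 ▸ J4Eleven.eZ_ok)⟩

include h in
theorem trace_XZ : Matrix.trace (matG (el cm 38)) = 0 ∧ Matrix.trace (matG (el cm 40)) = 1 := by
  rw [matG_trace (h.el_ok (by decide)), matG_trace (h.el_ok (by decide))]
  exact ⟨tr_x.2, tr_x.1⟩

include F in
/-- An element of order 11 centralises elements of order 2, 3 and 11 only. -/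
theorem primes_cent {x : Spor.J4} (hx : orderOf x = 11) {q : ℕ} (hq : q.Prime)
    (hd : q ∣ Nat.card ↥(centralizer ({x} : Set Spor.J4))) : q = 2 ∨ q = 3 ∨ q = 11 := by
  haveI := finite_J4
  haveI : Fact q.Prime := ⟨hq⟩
  obtain ⟨⟨a, ha⟩, hao⟩ := exists_prime_orderOf_dvd_card' (G := ↥(centralizer ({x} : Set Spor.J4))) q hd
  rw [Subgroup.orderOf_mk] at hao
  have hxa : x ∈ centralizer ({a} : Set Spor.J4) :=
    mem_centralizer_singleton_iff.mpr (mem_centralizer_singleton_iff.mp ha).symm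
  have h11 : 11 ∣ Nat.card ↥(centralizer ({a} : Set Spor.J4)) := by
    rw [← hx, ← Subgroup.orderOf_mk x hxa]
    exact orderOf_dvd_natCard _
  have hq' := J4Eleven.prime_dvd_T hq (J4Cert.card_J4.1 ▸ hao ▸ orderOf_dvd_natCard a)
  simp only [List.mem_cons, List.not_mem_nil, or_false] at hq'
  rcases hq' with h2 | h2 | h2 | h2 | h2 | h2 | h2 | h2 | h2 | h2
  all_goals subst h2
  all_goals first
    | omega
    | (rw [F.five a hao] at h11; norm_num at h11)
    | (rw [F.seven a hao] at h11; norm_num at h11)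
    | (rw [(F.big 23 22 a (by decide) hao).1] at h11; norm_num at h11)
    | (rw [(F.big 29 28 a (by decide) hao).1] at h11; norm_num at h11)
    | (rw [(F.big 31 10 a (by decide) hao).1] at h11; norm_num at h11)
    | (rw [(F.big 37 12 a (by decide) hao).1] at h11; norm_num at h11)
    | (rw [(F.big 43 14 a (by decide) hao).1] at h11; norm_num at h11)

theorem pow_eleven_le {k : ℕ} {S : Subgroup Spor.J4} (hk : 11 ^ k ∣ Nat.card ↥S) : k ≤ 3 := by
  by_contra hlt
  exact J4Eleven.not_pow_four ((pow_dvd_pow 11 (show 4 ≤ k by omega)).trans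
    (hk.trans (card_J4.1 ▸ card_subgroup_dvd_card S)))

include h F in
/-- The centraliser of the element of trace one. -/
theorem cent_Z11 : Nat.card ↥(centralizer ({el cm 40} : Set Spor.J4)) ∣ 31944 := by
  haveI := finite_J4
  have hxo := (el_orders h).2.2.1
  obtain ⟨-, hdich, -, -, h3⟩ := invol h F
  rw [Nat.dvd_iff_prime_pow_dvd_dvd]
  intro p k hp hd
  rcases Nat.eq_zero_or_pos k with rfl | hk
  · simp
  obtain ⟨T, a, hTC, haT, hao, hTa, hTc⟩ := exists_central hp hk.ne' hd
  have hxa : Commute (el cm 40) a := (mem_centralizer_singleton_iff.mp (hTC haT)).symm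
  have key : ∀ s, IsConj (el cm 10) s → T ≤ centralizer ({s} : Set Spor.J4) → Commute (el cm 40) s →
      p ^ k ∣ 31944 := by
    intro s hs hTs hcs
    rw [← hTc]
    exact (card_dvd_of_le (le_inf hTs hTC)).trans (((side_facts h F hxo hcs).1 hs).2.trans (by norm_num))
  rcases primes_cent F hxo hp ((dvd_pow_self p hk.ne').trans hd) with rfl | rfl | rfl
  · rcases hdich a hao with hz | hg
    · exact key a hz hTa hxa
    · have := (side_facts h F hxo hxa).2 hg
      rw [(trace_XZ h).2] at this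
      exact absurd this one_ne_zero
  · obtain ⟨-, w, hw, hle⟩ := h3 a hao
    exact key w hw (hTa.trans hle)
      (mem_centralizer_singleton_iff.mp (hle (mem_centralizer_singleton_iff.mpr hxa.eq)))
  · exact (pow_dvd_pow 11 (pow_eleven_le hd)).trans (by norm_num)

include h F in
/-- Prime powers in the centraliser of the element of trace zero. -/
theorem cent_X11_dvd : Nat.card ↥(centralizer ({el cm 38} : Set Spor.J4)) ∣ 2 ^ 9 * 121 := by
  haveI := finite_J4
  haveI : Fact (Nat.Prime 11) := ⟨by norm_num⟩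
  have hxo := (el_orders h).2.1
  obtain ⟨-, hdich, -, hg2, h3⟩ := invol h F
  rw [Nat.dvd_iff_prime_pow_dvd_dvd]
  intro p k hp hd
  rcases Nat.eq_zero_or_pos k with rfl | hk
  · simp
  obtain ⟨T, a, hTC, haT, hao, hTa, hTc⟩ := exists_central hp hk.ne' hd
  have hxa : Commute (el cm 38) a := (mem_centralizer_singleton_iff.mp (hTC haT)).symm
  have notZ : ∀ s, IsConj (el cm 10) s → Commute (el cm 38) s → False := fun s hs hcs => by
    have := ((side_facts h F hxo hcs).1 hs).1
    rw [(trace_XZ h).1] at this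
    exact zero_ne_one this
  rcases primes_cent F hxo hp ((dvd_pow_self p hk.ne').trans hd) with rfl | rfl | rfl
  · have hns : ¬ IsConj (el cm 10) a := fun hz => notZ a hz hxa
    have h1 : 2 ^ k ∣ 2 * 887040 := hTc ▸ (card_dvd_of_le (le_inf hTa hTC)).trans (hg2 a _ hao hns hxo hxa)
    have : k ≤ 9 := by
      by_contra hlt
      exact absurd ((pow_dvd_pow 2 (show 10 ≤ k by omega)).trans h1) (by norm_num)
    exact (pow_dvd_pow 2 this).trans (dvd_mul_right _ _)
  · obtain ⟨-, w, hw, hle⟩ := h3 a hao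
    exact (notZ w hw (mem_centralizer_singleton_iff.mp (hle (mem_centralizer_singleton_iff.mpr hxa.eq)))).elim
  · have hk3 := pow_eleven_le hd
    rcases (by omega : k ≤ 2 ∨ k = 3) with hk2 | rfl
    · exact (pow_dvd_pow 11 hk2).trans (by norm_num)
    exfalso
    obtain ⟨U, hU⟩ := J4Eleven.exists_sylow
    obtain ⟨S, hS⟩ := (IsPGroup.of_card hTc : IsPGroup 11 ↥T).exists_le_sylow
    obtain ⟨g, hg⟩ := MulAction.exists_smul_eq Spor.J4 S U
    have hTS : T = (S : Subgroup Spor.J4) := eq_of_le_of_card_ge hS (by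
      have e : Nat.card ↥(S : Subgroup Spor.J4) = Nat.card ↥(U : Subgroup Spor.J4) := by
        rw [← hg, Sylow.coe_subgroup_smul]
        exact (Nat.card_congr ((S : Subgroup Spor.J4).equivSMul (MulAut.conj g)).toEquiv)
      rw [e, hU, J4Eleven.hJ4.card_U, hTc]
      norm_num)
    set y := MulAut.conj g (el cm 38) with hy
    have hyU : ∀ u ∈ J4Eleven.hJ4.U, Commute y u := by
      intro u hu
      rw [← hU, ← hg, Sylow.coe_subgroup_smul, ← hTS] at hu
      obtain ⟨t, ht, rfl⟩ := hu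
      exact ((show Commute (el cm 38) t from (mem_centralizer_singleton_iff.mp (hTC ht)).symm).map
        (MulAut.conj g).toMonoidHom)
    have hyo : orderOf y = 11 := by rw [hy, MulEquiv.orderOf_eq, hxo]
    have hymem : y ∈ J4Eleven.hJ4.U := by
      have hP : IsPGroup 11 ↥((zpowers y) ⊔ (U : Subgroup Spor.J4)) := by
        refine (IsPGroup.of_card (p := 11) (n := 1) (by rw [Nat.card_zpowers, hyo, pow_one]) :
          IsPGroup 11 ↥(zpowers y)).to_sup_of_normal_right' U.2 ?_
        rw [zpowers_le]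
        refine centralizer_le_normalizer _ (mem_centralizer_iff.mpr fun u hu => ?_)
        exact (hyU u (hU ▸ hu)).eq.symm
      rw [← hU, ← U.3 hP le_sup_right]
      exact mem_sup_left (mem_zpowers y)
    have hyc : y ∈ zpowers J4Eleven.eZ := (J4Eleven.hJ4.mem_center_iff ⟨y, hymem⟩).mp
      (mem_center_iff.mpr fun u => Subtype.ext (hyU u u.2).eq.symm)
    obtain ⟨i₀, e₀⟩ := Submonoid.mem_powers_iff _ _ |>.mp (mem_powers_iff_mem_zpowers.mpr hyc)
    obtain ⟨i, hi, e⟩ : ∃ i < 11, J4Eleven.eZ ^ i = y := ⟨i₀ % 11, Nat.mod_lt _ (by norm_num), by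
      rw [show 11 = orderOf J4Eleven.eZ by rw [← (el_X h).2, (el_orders h).2.2.1], pow_mod_orderOf]; exact e₀⟩
    have hi0 : i ≠ 0 := by
      rintro rfl
      rw [pow_zero] at e
      rw [← e, orderOf_one] at hyo
      norm_num at hyo
    have hc : IsConj (el cm 38) (el cm 40) := by
      rw [(el_X h).2]
      exact (isConj_iff.mpr ⟨g, e.symm⟩ : IsConj (el cm 38) (J4Eleven.eZ ^ i)).trans
        (J4Eleven.z_pow_conj i hi hi0).symm
    have := matG_trace_conj hc
    rw [(trace_XZ h).1, (trace_XZ h).2] at this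
    exact zero_ne_one this

include h F in
/-- The centraliser of the element of trace zero. -/
theorem cent_X11 : Nat.card ↥(centralizer ({el cm 38} : Set Spor.J4)) ≤ 242 := by
  classical
  haveI := finite_J4
  haveI : Fact (Nat.Prime 11) := ⟨by norm_num⟩
  obtain ⟨hX, hZe⟩ := el_X h
  obtain ⟨-, hxo, hzo, -⟩ := el_orders h
  have hdvd := cent_X11_dvd h F
  set C := centralizer ({el cm 38} : Set Spor.J4) with hC
  obtain ⟨S⟩ := (inferInstance : Nonempty (Sylow 11 ↥C))
  have hn1 : Nat.card (Sylow 11 ↥C) = 1 := by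
    have h2 : Nat.card (Sylow 11 ↥C) ∣ 2 ^ 9 * 121 := (S.card_dvd_index.trans (S : Subgroup ↥C).index_dvd_card).trans hdvd
    have hm := card_sylow_modEq_one 11 ↥C
    have hco : Nat.Coprime (Nat.card (Sylow 11 ↥C)) 121 := by
      rw [show 121 = 11 ^ 2 by norm_num]
      refine Nat.Coprime.pow_right 2 (((Nat.Prime.coprime_iff_not_dvd (by norm_num)).mpr fun hd => ?_).symm)
      unfold Nat.ModEq at hm
      omega
    obtain ⟨j, hj, e⟩ := (Nat.dvd_prime_pow Nat.prime_two).mp (hco.dvd_of_dvd_mul_right h2)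
    rw [e] at hm ⊢
    unfold Nat.ModEq at hm
    interval_cases j
    all_goals first | rfl | (revert hm; decide)
  haveI : Subsingleton (Sylow 11 ↥C) := (Nat.card_eq_one_iff_unique.mp hn1).1
  have hS121 : Nat.card ↥(S : Subgroup ↥C) ≤ 121 := by
    obtain ⟨m, hm⟩ := S.2.exists_card_eq
    rw [hm]
    have h1 : 11 ^ m ∣ 2 ^ 9 * 121 := (hm ▸ card_subgroup_dvd_card _).trans hdvd
    have : m ≤ 2 := by
      by_contra hlt
      exact absurd ((pow_dvd_pow 11 (show 3 ≤ m by omega)).trans h1) (by norm_num)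
    exact (Nat.pow_le_pow_right (by norm_num) this).trans (by norm_num)
  let H := J4Eleven.hJ4
  have hxc : ∀ b c, H.el 0 b c ∈ C := fun b c => by
    rw [hC, mem_centralizer_singleton_iff, hX]
    show H.el 0 b c * H.x = H.x * H.el 0 b c
    rw [H.x_eq]
    exact H.comm_iff.mpr (by simp)
  have hmemS : ∀ b c, (⟨H.el 0 b c, hxc b c⟩ : ↥C) ∈ (S : Subgroup ↥C) := fun b c => by
    obtain ⟨T, hT⟩ := (IsPGroup.of_card (p := 11) (n := if H.el 0 b c = 1 then 0 else 1) (by
        rw [Nat.card_zpowers, Subgroup.orderOf_mk]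
        split
        · next e => rw [e, orderOf_one, pow_zero]
        · next e => rw [pow_one]; exact orderOf_eq_prime (H.pow_eleven (H.el_mem _ _ _)) e) :
      IsPGroup 11 ↥(zpowers (⟨H.el 0 b c, hxc b c⟩ : ↥C))).exists_le_sylow
    rw [Subsingleton.elim S T]
    exact hT (mem_zpowers _)
  let f : Fin 11 × Fin 11 → ↥(S : Subgroup ↥C) := fun bc => ⟨⟨_, hxc bc.1 bc.2⟩, hmemS bc.1 bc.2⟩
  have hf : Function.Injective f := by
    rintro ⟨b, c⟩ ⟨b', c'⟩ e
    have e' : H.el 0 b c = H.el 0 b' c' := congrArg (fun u : ↥(S : Subgroup ↥C) => ((u : ↥C) : Spor.J4)) e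
    have hb := (H.el_inj e').2
    rw [Nat.mod_eq_of_lt b.2, Nat.mod_eq_of_lt b'.2] at hb
    obtain rfl := Fin.ext hb
    have hc := H.el_inj_z e'
    rw [Nat.mod_eq_of_lt c.2, Nat.mod_eq_of_lt c'.2] at hc
    rw [Fin.ext hc]
  have hsurj : Function.Surjective f := by
    have hle := Nat.card_le_card_of_injective f hf
    refine (Nat.bijective_iff_injective_and_card f).mpr ⟨hf, le_antisymm hle ?_⟩ |>.2
    rw [Nat.card_prod, Nat.card_fin]
    exact hS121
  set z := J4Eleven.eZ with hz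
  have hznorm : C ≤ normalizer ((zpowers z : Subgroup Spor.J4) : Set Spor.J4) := by
    intro g hg
    have hzC : z ∈ C := by
      have := hxc 0 1
      rwa [← H.z_eq, pow_one] at this
    have hzS : (⟨z, hzC⟩ : ↥C) ∈ (S : Subgroup ↥C) := by
      have := hmemS 0 1
      simp only [← H.z_eq, pow_one] at this
      exact this
    have hsm : (⟨g, hg⟩ * ⟨z, hzC⟩ * ⟨g, hg⟩⁻¹ : ↥C) ∈ (S : Subgroup ↥C) := by
      have hn := Sylow.normal_of_subsingleton S
      exact hn.conj_mem _ hzS _
    obtain ⟨⟨b, c⟩, e⟩ := hsurj ⟨_, hsm⟩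
    have e' : H.el 0 b c = g * z * g⁻¹ := congrArg (fun u : ↥(S : Subgroup ↥C) => ((u : ↥C) : Spor.J4)) e
    have hb0 : (b : ℕ) = 0 := by
      by_contra hb
      have hflat : ∀ a' < 11, ∀ b' < 11, a' + b' ≠ 0 → IsConj J4Eleven.eU (H.el a' b' 0) := fun a' ha' b' hb' h' =>
        (J4Eleven.reach_conj 10 (by norm_num) _ (J4Eleven.reach_ok a' ha' b' hb' h')).2.2
      have h1 : IsConj J4Eleven.eX (H.el 0 b c) :=
        ((show IsConj J4Eleven.eU J4Eleven.eX by
          have := hflat 0 (by norm_num) 1 (by norm_num) (by norm_num)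
          rwa [← H.x_eq] at this).symm.trans (hflat 0 (by norm_num) b b.2 (by omega))).trans
          (J4Eleven.el_conj_flat (by norm_num) b.2 (by omega) _)
      exact J4Eleven.two_classes.2.2.1 (h1.trans (e' ▸ (isConj_iff.mpr ⟨g, rfl⟩ : IsConj z (g * z * g⁻¹)).symm))
    rw [hb0, ← H.z_eq] at e'
    have hle : (zpowers z).map (MulAut.conj g).toMonoidHom ≤ zpowers z := by
      rw [MonoidHom.map_zpowers, zpowers_le]
      show g * z * g⁻¹ ∈ zpowers z
      rw [← e']
      exact pow_mem (mem_zpowers z) _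
    have he := eq_of_le_of_card_ge hle
      (le_of_eq (card_map_of_injective (f := (MulAut.conj g).toMonoidHom) (MulAut.conj g).injective).symm)
    rw [mem_normalizer_iff]
    intro u
    refine ⟨fun hu => hle ⟨u, hu, rfl⟩, fun hu => ?_⟩
    obtain ⟨v, hv, e''⟩ : g * u * g⁻¹ ∈ (zpowers z).map (MulAut.conj g).toMonoidHom := he.symm ▸ hu
    rwa [← (MulAut.conj g).injective (show MulAut.conj g v = MulAut.conj g u from e'')]
  let φ : ↥C →* MulAut ↥(zpowers z) := (zpowers z).normalizerMonoidHom.comp (Subgroup.inclusion hznorm)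
  have hzo' : orderOf z = 11 := hZe ▸ hzo
  have hr : Nat.card ↥φ.range ∣ 10 := by
    have : Nat.card (MulAut ↥(zpowers z)) = 10 := by
      rw [IsCyclic.card_mulAut, Nat.card_zpowers, hzo']
      decide
    exact this ▸ card_subgroup_dvd_card _
  have hk : Nat.card ↥φ.ker ∣ 121 := by
    have hk1 : Nat.card ↥φ.ker ∣ 2 ^ 9 * 121 := (card_subgroup_dvd_card _).trans hdvd
    have hodd : ¬ 2 ∣ Nat.card ↥φ.ker := by
      intro h2
      haveI : Fact (Nat.Prime 2) := ⟨Nat.prime_two⟩
      obtain ⟨⟨⟨s, hs⟩, hsk⟩, hso⟩ := exists_prime_orderOf_dvd_card' (G := ↥φ.ker) 2 h2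
      simp only [Subgroup.orderOf_mk] at hso
      have hsz : s ∈ centralizer ((zpowers z : Subgroup Spor.J4) : Set Spor.J4) := by
        have : (⟨s, hznorm hs⟩ : ↥(normalizer ((zpowers z : Subgroup Spor.J4) : Set Spor.J4))) ∈
            (zpowers z).normalizerMonoidHom.ker := hsk
        rwa [(zpowers z).normalizerMonoidHom_ker, mem_subgroupOf] at this
      rw [cent_zpowers, ← hZe] at hsz
      have hzs : Commute (el cm 40) s := (mem_centralizer_singleton_iff.mp hsz).symm
      have hxs : Commute (el cm 38) s := (mem_centralizer_singleton_iff.mp hs).symm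
      rcases (invol h F).2.1 s hso with hz' | hg'
      · have := ((side_facts h F hxo hxs).1 hz').1
        rw [(trace_XZ h).1] at this
        exact zero_ne_one this
      · have := (side_facts h F hzo hzs).2 hg'
        rw [(trace_XZ h).2] at this
        exact one_ne_zero this
    exact (Nat.Coprime.pow_right 9 ((Nat.Prime.coprime_iff_not_dvd Nat.prime_two).mpr hodd).symm).dvd_of_dvd_mul_left hk1
  have h1210 : Nat.card ↥C ∣ 121 * 10 := by
    rw [← φ.ker.card_mul_index, Subgroup.index_ker]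
    exact Nat.mul_dvd_mul hk hr
  exact Nat.le_of_dvd (by norm_num) ((Nat.dvd_gcd h1210 hdvd).trans (by norm_num))

end Cfsg.Lib.JankoFour.ClassNumber
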