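import Cfsg.Agent.JankoFour.ClassNumber.Check
import Cfsg.Agent.JankoFour.ClassNumber.Count
import Cfsg.Agent.J4Cert.CentQ
import Cfsg.Agent.J4Cert.Simple
import Cfsg.Agent.J4Cert.Linear

/-!
What the checks on words mean in the presented group: centraliser bounds and non-conjugacy.
-/

set_option autoImplicit false
set_option maxRecDepth 8000

namespace Cfsg.Lib.JankoFour.ClassNumber

open Cfsg Cfsg.Lib.J4Cert Subgroup
open Cfsg.Lib.J4Rep (va mmul idMat)

attribute [local irreducible] mB mPow prodM vt tabs4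

variable {M : ℕ → List ℕ} {n : ℕ}

/-- The stored matrices belong to elements, in pairs of inverses. -/
def PoolOK (M : ℕ → List ℕ) (n : ℕ) : Prop :=
  ∀ j < 2 * n, ∃ g, MOK g (M j) ∧ MOK g⁻¹ (M (iv j))

theorem iv_even (q : ℕ) : iv (2 * q) = 2 * q + 1 := by
  simp [iv]

theorem iv_odd (q : ℕ) : iv (2 * q + 1) = 2 * q := by
  simp [iv, show Nat.beq 1 0 = false from rfl]

theorem iv_lt {j : ℕ} (hj : j < 2 * n) : iv j < 2 * n := by
  rcases Nat.even_or_odd' j with ⟨q, rfl | rfl⟩
  · rw [iv_even]; omega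
  · rw [iv_odd]; omega

theorem iv_iv (j : ℕ) : iv (iv j) = j := by
  rcases Nat.even_or_odd' j with ⟨q, rfl | rfl⟩
  · rw [iv_even, iv_odd]
  · rw [iv_odd, iv_even]

/-- The element with a stored matrix. -/
noncomputable def el (M : ℕ → List ℕ) (j : ℕ) : Spor.J4 := Classical.epsilon fun g => MOK g (M j)

theorem PoolOK.el_ok (h : PoolOK M n) {j : ℕ} (hj : j < 2 * n) : MOK (el M j) (M j) := by
  obtain ⟨g, hg, -⟩ := h j hj
  exact Classical.epsilon_spec (p := fun g => MOK g (M j)) ⟨g, hg⟩

theorem PoolOK.el_iv (h : PoolOK M n) {j : ℕ} (hj : j < 2 * n) : el M (iv j) = (el M j)⁻¹ := by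
  obtain ⟨g, hg, hgi⟩ := h j hj
  rw [(h.el_ok hj).eq hg]
  exact (h.el_ok (iv_lt hj)).eq hgi

/-- The value of a word. -/
noncomputable def wv (M : ℕ → List ℕ) (w : List ℕ) : Spor.J4 := (w.map (el M)).prod

theorem foldl_ok (h : PoolOK M n) : ∀ (w : List ℕ) (a : Spor.J4) (A : List ℕ), (∀ j ∈ w, j < 2 * n) →
    MOK a A → MOK (a * wv M w) (w.foldl (fun A j => mB A (M j)) A)
  | [], a, A, _, ha => by simpa [wv] using ha
  | j :: w, a, A, hw, ha => by
    rw [List.forall_mem_cons] at hw
    rw [wv, List.map_cons, List.prod_cons, ← mul_assoc, List.foldl_cons]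
    exact foldl_ok h w _ _ hw.2 (ha.mul (h.el_ok hw.1))

theorem prodM_ok (h : PoolOK M n) {w : List ℕ} (hw : ∀ j ∈ w, j < 2 * n) : MOK (wv M w) (prodM M w) := by
  unfold prodM
  simpa using foldl_ok h w 1 idMat hw MOK.one

theorem ivW_lt {w : List ℕ} (hw : ∀ j ∈ w, j < 2 * n) : ∀ j ∈ ivW w, j < 2 * n := by
  intro j hj
  rw [ivW, List.mem_reverse, List.mem_map] at hj
  obtain ⟨i, hi, rfl⟩ := hj
  exact iv_lt (hw i hi)

theorem wv_ivW (h : PoolOK M n) : ∀ {w : List ℕ}, (∀ j ∈ w, j < 2 * n) → wv M (ivW w) = (wv M w)⁻¹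
  | [], _ => by simp [wv, ivW]
  | j :: w, hw => by
    rw [List.forall_mem_cons] at hw
    have ih := wv_ivW h hw.2
    simp only [wv, ivW, List.map_cons, List.reverse_cons, List.map_append, List.prod_append, List.prod_cons,
      List.map_nil, List.prod_nil, mul_one, mul_inv_rev] at ih ⊢
    rw [ih, h.el_iv hw.1]

theorem PoolOK.extend (h : PoolOK M n) {e : List ℕ × ℕ} (he : entryOK M n e = true) : PoolOK M (n + 1) := by
  simp only [entryOK, Bool.and_eq_true, List.all_eq_true, Nat.blt_eq] at he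
  obtain ⟨⟨hw, h1⟩, h2⟩ := he
  intro j hj
  rcases (by omega : j < 2 * n ∨ j = 2 * n ∨ j = 2 * n + 1) with hlt | hj'
  · exact h j hlt
  have a : MOK (wv M e.1 ^ e.2) (M (2 * n)) := by rw [leq_eq h1]; exact (prodM_ok h hw).npow _
  have b : MOK (wv M e.1 ^ e.2)⁻¹ (M (2 * n + 1)) := by
    rw [leq_eq h2, ← inv_pow, ← wv_ivW h hw]
    exact (prodM_ok h (ivW_lt hw)).npow _
  have e0 : iv (2 * n) = 2 * n + 1 := iv_even n
  rcases hj' with rfl | rfl
  · exact ⟨_, a, e0 ▸ b⟩
  · refine ⟨_, b, ?_⟩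
    rw [← e0, iv_iv, inv_inv]
    exact a

theorem PoolOK.extends : ∀ {n : ℕ} (l : List (List ℕ × ℕ)), PoolOK M n → entriesOK M n l = true →
    PoolOK M (n + l.length)
  | n, [], h, _ => h
  | n, e :: l, h, hl => by
    simp only [entriesOK, Bool.and_eq_true] at hl
    rw [List.length_cons, show n + (l.length + 1) = (n + 1) + l.length by omega]
    exact PoolOK.extends l (h.extend hl.1) hl.2

/-- The image of a packed vector. -/
def img (g : Spor.J4) (v : ℕ) : ℕ := if h : v < 2 ^ 112 then (imgV g ⟨v, h⟩).1 else 0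

theorem img_mul (a b : Spor.J4) {v : ℕ} (hv : v < 2 ^ 112) : img (a * b) v = img b (img a v) := by
  rw [img, dif_pos hv, imgV_mul, img, img, dif_pos hv, dif_pos (imgV a ⟨v, hv⟩).2]

theorem img_lt (g : Spor.J4) (v : ℕ) : img g v < 2 ^ 112 := by
  unfold img
  split
  · exact (imgV g _).2
  · exact Nat.two_pow_pos 112

theorem img_vt {g : Spor.J4} {A : List ℕ} (h : MOK g A) {v : ℕ} (hv : v < 2 ^ 112) :
    img g v = vt (tabs4 A) v := by
  rw [img, dif_pos hv, MOK.img h]

theorem vfold_eq (h : PoolOK M n) : ∀ (w : List ℕ) (v : ℕ), (∀ j ∈ w, j < 2 * n) → v < 2 ^ 112 →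
    vfold M v w = img (wv M w) v
  | [], v, _, hv => by
    simp only [vfold, List.foldl_nil, wv, List.map_nil, List.prod_nil, img, dif_pos hv, imgV, map_one]
    rfl
  | j :: w, v, hw, hv => by
    rw [List.forall_mem_cons] at hw
    rw [wv, List.map_cons, List.prod_cons, img_mul _ _ hv, img_vt (h.el_ok hw.1) hv]
    have := vfold_eq h w (vt (tabs4 (M j)) v) hw.2 (img_vt (h.el_ok hw.1) hv ▸ img_lt _ _)
    rw [vfold] at this ⊢
    rw [List.foldl_cons, this]
    rfl

theorem incr_pairwise : ∀ {l : List ℕ}, incr l = true → l.Pairwise (· < ·)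
  | [], _ => List.Pairwise.nil
  | [a], _ => List.pairwise_singleton _ _
  | a :: b :: l, h => by
    simp only [incr, Bool.and_eq_true, Nat.blt_eq] at h
    have ih := incr_pairwise h.2
    refine List.pairwise_cons.mpr ⟨fun x hx => ?_, ih⟩
    rcases List.mem_cons.mp hx with rfl | hx
    · exact h.1
    · exact h.1.trans ((List.pairwise_cons.mp ih).1 x hx)

/-- The conjugate of a stored element by a word. -/
noncomputable def cj (M : ℕ → List ℕ) (x : ℕ) (w : List ℕ) : Spor.J4 := wv M w * el M x * (wv M w)⁻¹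

theorem cKey_eq (h : PoolOK M n) {us : List ℕ} (hu : us.all (fun u => Nat.blt u (2 ^ 112)) = true) {x : ℕ}
    (hx : x < 2 * n) {w : List ℕ} (hw : ∀ j ∈ w, j < 2 * n) :
    cKey M us x w = packW (us.map (img (cj M x w))) := by
  unfold cKey
  congr 1
  refine List.map_congr_left fun u hu' => ?_
  have huv : u < 2 ^ 112 := Nat.le_of_ble_eq_true (List.all_eq_true.mp hu u hu')
  rw [vfold_eq h _ u (fun j hj => ?_) huv]
  · congr 1
    rw [cj, ← wv_ivW h hw]
    simp only [wv, List.map_append, List.map_cons, List.prod_append, List.prod_cons, mul_assoc]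
  · rcases List.mem_append.mp hj with hj | hj
    · exact hw j hj
    · rcases List.mem_cons.mp hj with rfl | hj
      · exact hx
      · exact ivW_lt hw j hj

theorem letters_lt {gens : List ℕ} {ws : List (List ℕ)} (hg : ∀ g ∈ gens, g < 2 * n)
    (hl : lettersOK gens ws = true) {w : List ℕ} (hw : w ∈ ws) : ∀ j ∈ w, j < 2 * n := by
  simp only [lettersOK, List.all_eq_true, List.any_eq_true, Bool.or_eq_true] at hl
  intro j hj
  obtain ⟨g, hgm, e | e⟩ := hl w hw j hj
  · exact Nat.eq_of_beq_eq_true e ▸ hg g hgm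
  · exact Nat.eq_of_beq_eq_true e ▸ iv_lt (hg g hgm)

theorem mem_of_letters (h : PoolOK M n) {gens : List ℕ} {ws : List (List ℕ)} (hg : ∀ g ∈ gens, g < 2 * n)
    (hl : lettersOK gens ws = true) {S : Subgroup Spor.J4} (hS : ∀ g ∈ gens, el M g ∈ S) {w : List ℕ}
    (hw : w ∈ ws) : wv M w ∈ S := by
  simp only [lettersOK, List.all_eq_true, List.any_eq_true, Bool.or_eq_true] at hl
  refine list_prod_mem fun g hgm => ?_
  obtain ⟨j, hj, rfl⟩ := List.mem_map.mp hgm
  obtain ⟨g, hgm, e | e⟩ := hl w hw j hj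
  · exact Nat.eq_of_beq_eq_true e ▸ hS g hgm
  · rw [← Nat.eq_of_beq_eq_true e, h.el_iv (hg g hgm)]
    exact inv_mem (hS g hgm)

theorem comm_mem (h : PoolOK M n) {y : ℕ} (hy : y < 2 * n) {gens : List ℕ} (hg : ∀ g ∈ gens, g < 2 * n)
    (hc : commList M y gens = true) : ∀ g ∈ gens, el M g ∈ centralizer ({el M y} : Set Spor.J4) := by
  intro g hgm
  rw [mem_centralizer_singleton_iff]
  have e := List.all_eq_true.mp hc g hgm
  exact ((h.el_ok (hg g hgm)).mul (h.el_ok hy)).eq (leq_eq e ▸ (h.el_ok hy).mul (h.el_ok (hg g hgm)))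

theorem cent_le (h : PoolOK M n) {x y k : ℕ} (hx : x < 2 * n) (hy : y < 2 * n) (hp : powOK M x k y = true) :
    centralizer ({el M x} : Set Spor.J4) ≤ centralizer ({el M y} : Set Spor.J4) := by
  have e : el M y = el M x ^ k := (h.el_ok hy).eq (leq_eq hp ▸ (h.el_ok hx).npow k)
  rw [e]
  exact centralizer_le_pow _ k

/-- The data of a chain step and what it takes. -/
structure Chain (M : ℕ → List ℕ) (n x y k : ℕ) (gens : List ℕ) (us : List ℕ) (ws : List (List ℕ)) : Prop where
  hx : x < 2 * n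
  hy : y < 2 * n
  hg : ∀ g ∈ gens, g < 2 * n
  hu : us.all (fun u => Nat.blt u (2 ^ 112)) = true
  hp : powOK M x k y = true
  hc : commList M y gens = true
  hl : lettersOK gens ws = true
  hk : conjOK M us x ws = true

variable {x y k : ℕ} {gens us : List ℕ} {ws : List (List ℕ)}

theorem Chain.inj (h : PoolOK M n) (c : Chain M n x y k gens us ws) :
    Function.Injective fun i : Fin ws.length => cj M x ws[i] := by
  have hnd : (ws.map (cKey M us x)).Nodup := (incr_pairwise c.hk).imp fun hab => Nat.ne_of_lt hab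
  intro i j e
  have key : ∀ l : Fin ws.length, (ws.map (cKey M us x))[l.val]'(by simp) = packW (us.map (img (cj M x ws[l]))) :=
    fun l => by
      rw [List.getElem_map, cKey_eq h c.hu c.hx (letters_lt c.hg c.hl (List.getElem_mem _))]
      rfl
  exact Fin.ext ((hnd.getElem_inj_iff (hi := by simp) (hj := by simp)).mp
    ((key i).trans ((congrArg (fun g => packW (us.map (img g))) e).trans (key j).symm)))

theorem Chain.bound (h : PoolOK M n) (c : Chain M n x y k gens us ws) :
    ws.length * Nat.card ↥(centralizer ({el M x} : Set Spor.J4)) ≤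
      Nat.card ↥(centralizer ({el M y} : Set Spor.J4)) := by
  haveI := finite_J4
  exact mul_card_le (cent_le h c.hx c.hy c.hp) (fun i : Fin ws.length => wv M ws[i])
    (fun i => mem_of_letters h c.hg c.hl (comm_mem h c.hy c.hg c.hc) (List.getElem_mem _)) (c.inj h)

theorem Chain.le (h : PoolOK M n) (c : Chain M n x y k gens us ws) {b cx : ℕ}
    (hb : Nat.card ↥(centralizer ({el M y} : Set Spor.J4)) ≤ b) (hbc : b < ws.length * (cx + 1)) :
    Nat.card ↥(centralizer ({el M x} : Set Spor.J4)) ≤ cx := by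
  by_contra hlt
  have h1 := (c.bound h).trans hb
  have h2 : ws.length * (cx + 1) ≤ ws.length * Nat.card ↥(centralizer ({el M x} : Set Spor.J4)) :=
    Nat.mul_le_mul_left _ (by omega)
  omega

/-- Listed commuting elements with different images. -/
theorem lower (h : PoolOK M n) {x : ℕ} (hx : x < 2 * n) {gens us : List ℕ} {ws : List (List ℕ)}
    (hg : ∀ g ∈ gens, g < 2 * n) (hu : us.all (fun u => Nat.blt u (2 ^ 112)) = true)
    (hc : commList M x gens = true) (hl : lettersOK gens ws = true) (hk : wordsOK M us ws = true) :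
    ws.length ≤ Nat.card ↥(centralizer ({el M x} : Set Spor.J4)) := by
  haveI := finite_J4
  refine le_card_centralizer (fun i : Fin ws.length => wv M ws[i])
    (fun i => mem_centralizer_singleton_iff.mp (mem_of_letters h hg hl (comm_mem h hx hg hc) (List.getElem_mem _))) ?_
  have hnd : (ws.map (wKey M us)).Nodup := (incr_pairwise hk).imp fun hab => Nat.ne_of_lt hab
  intro i j e
  have key : ∀ l : Fin ws.length, (ws.map (wKey M us))[l.val]'(by simp) = packW (us.map (img (wv M ws[l]))) :=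
    fun l => by
      rw [List.getElem_map]
      unfold wKey
      congr 1
      refine List.map_congr_left fun u hu' => ?_
      exact vfold_eq h _ u (letters_lt hg hl (List.getElem_mem _)) (Nat.le_of_ble_eq_true (List.all_eq_true.mp hu u hu'))
  exact Fin.ext ((hnd.getElem_inj_iff (hi := by simp) (hj := by simp)).mp
    ((key i).trans ((congrArg (fun g => packW (us.map (img g))) e).trans (key j).symm)))

/-- An element outside a complete list of conjugates is not conjugate. -/
theorem Chain.not_conj (h : PoolOK M n) (c : Chain M n x y k gens us ws) {x' b : ℕ} (hx' : x' < 2 * n)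
    (hp' : powOK M x' k y = true) (ho : outside M us x x' ws = true)
    (hb : Nat.card ↥(centralizer ({el M y} : Set Spor.J4)) ≤ b)
    (hlow : b ≤ ws.length * Nat.card ↥(centralizer ({el M x} : Set Spor.J4))) :
    ¬ IsConj (el M x) (el M x') := by
  haveI := finite_J4
  intro hcj
  obtain ⟨d, hd⟩ := isConj_iff.mp hcj
  have e1 : el M y = el M x ^ k := (h.el_ok c.hy).eq (leq_eq c.hp ▸ (h.el_ok c.hx).npow k)
  have e2 : el M y = el M x' ^ k := (h.el_ok c.hy).eq (leq_eq hp' ▸ (h.el_ok hx').npow k)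
  have hdy : d ∈ centralizer ({el M y} : Set Spor.J4) := by
    rw [mem_centralizer_singleton_iff]
    have := congrArg (fun g => g ^ k) hd
    simp only [conj_pow, ← e1, ← e2] at this
    exact mul_inv_eq_iff_eq_mul.mp this
  obtain ⟨i, hi⟩ := exists_index (cent_le h c.hx c.hy c.hp) (fun i : Fin ws.length => wv M ws[i])
    (fun i => mem_of_letters h c.hg c.hl (comm_mem h c.hy c.hg c.hc) (List.getElem_mem _)) (c.inj h)
    (hb.trans hlow) hdy
  have ho' := List.all_eq_true.mp ho ws[i] (List.getElem_mem _)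
  simp only [Bool.not_eq_true'] at ho'
  refine Nat.ne_of_beq_eq_false ho' ?_
  have hw := letters_lt c.hg c.hl (List.getElem_mem (l := ws) (n := i.val) i.isLt)
  show cKey M us x (ws[i.val]'i.isLt) = _
  rw [cKey_eq h c.hu c.hx hw, cKey_eq h c.hu hx' (w := []) (by simp)]
  congr 2
  rw [hd] at hi
  rw [show cj M x' [] = el M x' by simp [cj, wv]]
  exact congrArg img hi.symm

end Cfsg.Lib.JankoFour.ClassNumber
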