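import Cfsg.Agent.JankoFour.ClassNumber.Pool

/-!
The dimension of the image of a power of the difference from the identity is a class invariant.
-/

set_option autoImplicit false
set_option maxRecDepth 8000

namespace Cfsg.Lib.JankoFour.ClassNumber

open Cfsg Cfsg.Lib.J4Cert
open Cfsg.Lib.J4Rep (va mmul idMat va_mmul va_xor va_idMat)

attribute [local irreducible] mB mPow vt tabs4

/-- The difference from the identity, applied repeatedly. -/
def dlt (g : Spor.J4) : ℕ → ℕ → ℕ
  | 0, v => v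
  | e + 1, v => dlt g e (img g v ^^^ v)

theorem exists_ok (g : Spor.J4) : ∃ A, MOK g A := exists_mok g

theorem img_xor (g : Spor.J4) {a b : ℕ} (ha : a < 2 ^ 112) (hb : b < 2 ^ 112) :
    img g (a ^^^ b) = img g a ^^^ img g b := by
  obtain ⟨A, hA⟩ := exists_mok g
  have e : ∀ v < 2 ^ 112, img g v = va v A := fun v hv => by
    rw [img, dif_pos hv]
    exact hA.2 ⟨v, hv⟩
  rw [e _ (Nat.xor_lt_two_pow ha hb), e _ ha, e _ hb, va_xor]

theorem img_one {v : ℕ} (hv : v < 2 ^ 112) : img 1 v = v := by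
  simp only [img, dif_pos hv, imgV, map_one]
  rfl

theorem img_cancel (c : Spor.J4) {v : ℕ} (hv : v < 2 ^ 112) : img c⁻¹ (img c v) = v := by
  rw [← img_mul _ _ hv, mul_inv_cancel, img_one hv]

theorem step_lt (g : Spor.J4) {v : ℕ} (hv : v < 2 ^ 112) : img g v ^^^ v < 2 ^ 112 :=
  Nat.xor_lt_two_pow (img_lt g v) hv

theorem dlt_lt (g : Spor.J4) : ∀ (e : ℕ) {v : ℕ}, v < 2 ^ 112 → dlt g e v < 2 ^ 112
  | 0, _, hv => hv
  | e + 1, _, hv => dlt_lt g e (step_lt g hv)

theorem dlt_conj (g c : Spor.J4) : ∀ (e : ℕ) {v : ℕ}, v < 2 ^ 112 →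
    dlt (c * g * c⁻¹) e v = img c⁻¹ (dlt g e (img c v))
  | 0, v, hv => by rw [dlt, dlt, img_cancel c hv]
  | e + 1, v, hv => by
    rw [dlt, dlt_conj g c e (step_lt _ hv), dlt]
    congr 2
    rw [img_xor c (img_lt _ _) hv]
    congr 1
    rw [← img_mul _ _ hv, inv_mul_cancel_right, img_mul _ _ hv]

/-- The number of values of the repeated difference. -/
noncomputable def rkc (g : Spor.J4) (e : ℕ) : ℕ := Set.ncard (dlt g e '' Set.Iio (2 ^ 112))

theorem rkc_le_of_conj (g c : Spor.J4) (e : ℕ) : rkc (c * g * c⁻¹) e ≤ rkc g e := by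
  refine (Set.ncard_le_ncard ?_ (((Set.finite_Iio _).image _).image _)).trans
    (Set.ncard_image_le (f := img c⁻¹) ((Set.finite_Iio _).image _))
  rintro _ ⟨v, hv, rfl⟩
  exact ⟨dlt g e (img c v), ⟨img c v, img_lt c v, rfl⟩, (dlt_conj g c e hv).symm⟩

theorem rkc_conj {g h : Spor.J4} (hc : IsConj g h) (e : ℕ) : rkc g e = rkc h e := by
  obtain ⟨c, rfl⟩ := isConj_iff.mp hc
  refine le_antisymm ?_ (rkc_le_of_conj g c e)
  have := rkc_le_of_conj (c * g * c⁻¹) c⁻¹ e
  rwa [show c⁻¹ * (c * g * c⁻¹) * c⁻¹⁻¹ = g by group] at this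

theorem va_zip : ∀ (A B : List ℕ) (v : ℕ), A.length = B.length →
    va v (List.zipWith Nat.xor A B) = va v A ^^^ va v B
  | [], [], v, _ => by simp [va]
  | a :: A, b :: B, v, h => by
    simp only [List.length_cons, Nat.add_right_cancel_iff] at h
    rw [List.zipWith_cons_cons, va, va, va, va_zip A B (v / 2) h]
    split
    · show (a ^^^ b) ^^^ _ = _
      ac_rfl
    · simp

theorem okMat_id : okMat idMat = true := MOK.one.1

theorem okMat_zip {A : List ℕ} (hA : okMat A = true) : okMat (List.zipWith Nat.xor A idMat) = true := by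
  have hI := okMat_id
  simp only [okMat, Bool.and_eq_true, List.all_eq_true, decide_eq_true_eq] at hA hI ⊢
  refine ⟨?_, fun r hr => ?_⟩
  · rw [List.length_zipWith, Nat.eq_of_beq_eq_true hA.1, Nat.eq_of_beq_eq_true hI.1, Nat.min_self]
    exact Nat.beq_refl 112
  · obtain ⟨i, hi, rfl⟩ := List.getElem_of_mem hr
    rw [List.getElem_zipWith]
    exact Nat.xor_lt_two_pow (hA.2 _ (List.getElem_mem _)) (hI.2 _ (List.getElem_mem _))

theorem dM_ok {A : List ℕ} (hA : okMat A = true) : ∀ e, okMat (dM A e) = true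
  | 0 => okMat_id
  | e + 1 => by
    rw [dM, mB_eq (dM_ok hA e)]
    exact okMat_mmul (okMat_zip hA) (dM_ok hA e)

theorem dlt_eq {g : Spor.J4} {A : List ℕ} (hA : MOK g A) : ∀ (e : ℕ) {v : ℕ}, v < 2 ^ 112 →
    dlt g e v = va v (dM A e)
  | 0, v, hv => by rw [dlt, dM, va_idMat hv]
  | e + 1, v, hv => by
    have hI := okMat_id
    have hA' := hA.1
    simp only [okMat, Bool.and_eq_true] at hI hA'
    rw [dlt, dlt_eq hA e (step_lt g hv), dM, mB_eq (dM_ok hA.1 e), ← va_mmul,
      va_zip _ _ _ (by rw [Nat.eq_of_beq_eq_true hA'.1, Nat.eq_of_beq_eq_true hI.1]), va_idMat hv,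
      img, dif_pos hv]
    congr 2
    exact hA.2 ⟨v, hv⟩

theorem va_lt_two {r : ℕ} : ∀ (A : List ℕ) (v : ℕ), (∀ a ∈ A, a < 2 ^ r) → va v A < 2 ^ r := fun A v h =>
  Cfsg.Lib.J4Rep.va_lt A v (List.all_eq_true.mpr fun a ha => decide_eq_true (h a ha))

theorem rkc_le {g : Spor.J4} {A : List ℕ} (hA : MOK g A) {e r : ℕ} {C B : List ℕ} (h : upRk A e r C B = true) :
    rkc g e ≤ 2 ^ r := by
  simp only [upRk, Bool.and_eq_true, List.all_eq_true, Nat.blt_eq] at h
  obtain ⟨⟨-, hC⟩, hD⟩ := h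
  refine (Set.ncard_le_ncard ?_ ((Set.finite_Iio _).image fun c => va c B)).trans
    ((Set.ncard_image_le (f := fun c => va c B) (Set.finite_Iio (2 ^ r))).trans
      (Set.ncard_Iio_nat _).le)
  rintro _ ⟨v, hv, rfl⟩
  exact ⟨va v C, va_lt_two C v hC, by rw [dlt_eq hA e hv, ← leq_eq hD, ← va_mmul]⟩

theorem echelon_inj : ∀ (b : ℕ) (hs ws : List ℕ), echelon b hs ws = true →
    (∀ c, va c ws < 2 ^ b) ∧ ∀ c < 2 ^ ws.length, va c ws = 0 → c = 0
  | b, [], [], _ => ⟨fun c => by simp [va], fun c hc _ => by simpa using hc⟩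
  | b, [], _ :: _, h => by simp [echelon] at h
  | b, _ :: _, [], h => by simp [echelon] at h
  | b, h :: hs, w :: ws, he => by
    simp only [echelon, Bool.and_eq_true, Nat.blt_eq, Nat.ble_eq] at he
    obtain ⟨⟨⟨hb, h1⟩, h2⟩, hr⟩ := he
    obtain ⟨hlt, hinj⟩ := echelon_inj h hs ws hr
    have hb' : 2 ^ (h + 1) ≤ 2 ^ b := Nat.pow_le_pow_right (by norm_num) hb
    refine ⟨fun c => ?_, fun c hc h0 => ?_⟩
    · rw [va]
      refine Nat.xor_lt_two_pow ?_ ((hlt _).trans_le ((Nat.pow_le_pow_right (by norm_num) hb.le)))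
      split
      · exact h2.trans_le hb'
      · exact Nat.two_pow_pos b
    · rw [va] at h0
      rw [List.length_cons, pow_succ] at hc
      rcases Nat.mod_two_eq_zero_or_one c with hm | hm
      · rw [if_neg (by omega), Nat.zero_xor] at h0
        have := hinj (c / 2) (by omega) h0
        omega
      · rw [if_pos hm] at h0
        have := hlt (c / 2)
        rw [← Nat.eq_of_xor_eq_zero h0] at this
        omega

theorem le_rkc {g : Spor.J4} {A : List ℕ} (hA : MOK g A) {e : ℕ} {us hs : List ℕ} (h : lowRk A e us hs = true) :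
    2 ^ us.length ≤ rkc g e := by
  simp only [lowRk, Bool.and_eq_true, List.all_eq_true, Nat.blt_eq] at h
  obtain ⟨hu, he⟩ := h
  obtain ⟨-, hinj⟩ := echelon_inj _ _ _ he
  have hl : (mmul us (dM A e)).length = us.length := by simp [mmul]
  rw [hl] at hinj
  rw [← Set.ncard_Iio_nat (2 ^ us.length)]
  refine Set.ncard_le_ncard_of_injOn (fun c => va c (mmul us (dM A e))) (fun c _ => ?_) ?_
    ((Set.finite_Iio _).image _)
  · exact ⟨va c us, va_lt_two us c hu, by rw [dlt_eq hA e (va_lt_two us c hu), va_mmul]⟩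
  · intro a ha b hb hab
    exact Nat.eq_of_xor_eq_zero (hinj _ (Nat.xor_lt_two_pow ha hb) (by rw [va_xor]; exact Nat.xor_eq_zero_iff.mpr hab))

/-- Different dimensions of the images. -/
theorem not_conj_rk {g h : Spor.J4} {A B : List ℕ} (hg : MOK g A) (hh : MOK h B) {e r : ℕ} {us hs C D : List ℕ}
    (hlow : lowRk A e us hs = true) (hup : upRk B e r C D = true) (hr : r < us.length) : ¬ IsConj g h := by
  intro hc
  have h1 := (le_rkc hg hlow).trans ((rkc_conj hc e).le.trans (rkc_le hh hup))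
  exact absurd ((Nat.pow_le_pow_iff_right (by norm_num)).mp h1) (by omega)

end Cfsg.Lib.JankoFour.ClassNumber
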