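import Cfsg.Agent.JankoFour.ClassNumber.Pool
import Cfsg.Agent.JankoFour.ClassNumber.Data.Table
import Cfsg.Agent.J4Eleven.Main

/-!
The first stored elements: the generators, generators of an involution centraliser and of an 11-local group.
-/

set_option autoImplicit false
set_option maxRecDepth 20000

namespace Cfsg.Lib.JankoFour.ClassNumber

open Cfsg Cfsg.Lib.J4Cert
open Cfsg.Lib.J4Rep (idMat)

theorem seed_let : leq (cm 0) (letM 0) = true ∧ leq (cm 1) (letM 0) = true ∧ leq (cm 2) (letM 1) = true ∧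
    leq (cm 3) (letM 2) = true ∧ leq (cm 4) (letM 3) = true ∧ leq (cm 5) (letM 3) = true := by decide +kernel

theorem seed_cent : leq (cm 6) cgi0 = true ∧ leq (cm 7) cg0 = true ∧ leq (cm 8) cgi1 = true ∧
    leq (cm 9) cg1 = true ∧ leq (cm 10) zM = true ∧ leq (cm 11) zM = true ∧
    ((List.range 12).all fun i => leq (cm (12 + 2 * i)) (cQ.getD i []) &&
      leq (cm (13 + 2 * i)) (mB (cQ.getD i []) (mB (cQ.getD i []) (cQ.getD i [])))) = true := by decide +kernel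

/-- The numbers of the stored elements of the 11-local group, with the orders less one. -/
def emSeed : List (ℕ × ℕ) := [(291, 10), (172, 10), (490, 10), (349, 7), (495, 2), (499, 4)]

theorem seed_em : (emSeed.zipIdx.all fun e => leq (cm (36 + 2 * e.2)) (J4Eleven.em e.1.1) &&
    leq (cm (37 + 2 * e.2)) (mPow (J4Eleven.em e.1.1) e.1.2)) = true := by decide +kernel

theorem seed_id : ((List.range 24).all fun i => leq (mB (cm (2 * i)) (cm (2 * i + 1))) idMat) = true := by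
  decide +kernel

attribute [local irreducible] mB mPow cm letM zM cQ cg0 cg1 cgi0 cgi1 J4Eleven.em

theorem seed_exists : ∀ j < 48, ∃ g, MOK g (cm j) := by
  obtain ⟨l0, l1, l2, l3, l4, l5⟩ := seed_let
  obtain ⟨c0, c1, c2, c3, z0, z1, hq⟩ := seed_cent
  obtain ⟨B⟩ := exists_basis
  obtain ⟨D⟩ := exists_CData B
  simp only [List.all_eq_true, List.mem_range, Bool.and_eq_true] at hq
  have hem := seed_em
  simp only [List.all_eq_true, Bool.and_eq_true] at hem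
  have g0 : MOK (D.γ 0) cgi0 := (D.mokγ 0 (by norm_num)).1
  have g0' : MOK (D.γ 0)⁻¹ cg0 := (D.mokγ 0 (by norm_num)).2
  have g1 : MOK (D.γ 1) cgi1 := (D.mokγ 1 (by norm_num)).1
  have g1' : MOK (D.γ 1)⁻¹ cg1 := (D.mokγ 1 (by norm_num)).2
  intro j hj
  by_cases h12 : j < 12
  · interval_cases j
    exacts [⟨_, leq_eq l0 ▸ letM_ok 0⟩, ⟨_, leq_eq l1 ▸ letM_ok 0⟩, ⟨_, leq_eq l2 ▸ letM_ok 1⟩,
      ⟨_, leq_eq l3 ▸ letM_ok 2⟩, ⟨_, leq_eq l4 ▸ letM_ok 3⟩, ⟨_, leq_eq l5 ▸ letM_ok 3⟩,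
      ⟨_, leq_eq c0 ▸ g0⟩, ⟨_, leq_eq c1 ▸ g0'⟩, ⟨_, leq_eq c2 ▸ g1⟩, ⟨_, leq_eq c3 ▸ g1'⟩,
      ⟨_, leq_eq z0 ▸ MOK.z B⟩, ⟨_, leq_eq z1 ▸ MOK.z B⟩]
  by_cases h36 : j < 36
  · obtain ⟨i, hi, rfl | rfl⟩ : ∃ i < 12, j = 12 + 2 * i ∨ j = 13 + 2 * i := ⟨(j - 12) / 2, by omega, by omega⟩
    · exact ⟨_, leq_eq (hq i hi).1 ▸ (D.qget hi).1⟩
    · exact ⟨_, leq_eq (hq i hi).2 ▸ (D.qget hi).1.mul ((D.qget hi).1.mul (D.qget hi).1)⟩
  · obtain ⟨i, hi, hi'⟩ : ∃ i < 6, j = 36 + 2 * i ∨ j = 37 + 2 * i := ⟨(j - 36) / 2, by omega, by omega⟩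
    have hlen : emSeed.length = 6 := rfl
    have hb : emSeed[i].1 < 548 :=
      (show ∀ e ∈ emSeed, e.1 < 548 by decide) _ (List.getElem_mem (hlen.symm ▸ hi))
    obtain ⟨g, hg⟩ := J4Eleven.em_mem _ hb
    have hmem : (emSeed[i], i) ∈ emSeed.zipIdx :=
      List.mem_iff_getElem.2 ⟨i, by simpa [hlen] using hi, (List.getElem_zipIdx ..).trans (Prod.ext rfl (Nat.zero_add i))⟩
    obtain ⟨e1, e2⟩ := hem _ hmem
    rcases hi' with rfl | rfl
    · exact ⟨g, leq_eq e1 ▸ hg⟩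
    · exact ⟨_, leq_eq e2 ▸ hg.npow _⟩

theorem seeds_ok : PoolOK cm 24 := by
  intro j hj
  have hid := seed_id
  simp only [List.all_eq_true, List.mem_range] at hid
  obtain ⟨q, rfl | rfl⟩ := Nat.even_or_odd' j
  · obtain ⟨g, hg⟩ := seed_exists (2 * q) (by omega)
    obtain ⟨h, hh⟩ := seed_exists (2 * q + 1) (by omega)
    have e : g * h = 1 := (leq_eq (hid q (by omega)) ▸ hg.mul hh : MOK _ idMat).eq MOK.one
    exact ⟨g, hg, by rw [iv_even, inv_eq_of_mul_eq_one_right e]; exact hh⟩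
  · obtain ⟨g, hg⟩ := seed_exists (2 * q) (by omega)
    obtain ⟨h, hh⟩ := seed_exists (2 * q + 1) (by omega)
    have e : g * h = 1 := (leq_eq (hid q (by omega)) ▸ hg.mul hh : MOK _ idMat).eq MOK.one
    refine ⟨h, hh, ?_⟩
    rw [iv_odd, inv_eq_of_mul_eq_one_left e]
    exact hg

end Cfsg.Lib.JankoFour.ClassNumber
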