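import Cfsg.Agent.JankoFour.ClassNumber.Check
import Cfsg.Agent.JankoFour.ClassNumber.Data.Table
import Cfsg.Agent.JankoFour.ClassNumber.Data.Chains
import Cfsg.Agent.JankoFour.ClassNumber.Data.SpaceC
import Cfsg.Agent.JankoFour.ClassNumber.Data.NodesC6

/-!
A part of the second tree.
-/

set_option autoImplicit false
set_option maxRecDepth 20000
set_option Elab.async false

namespace Cfsg.Lib.JankoFour.ClassNumber

open Cfsg.Lib.J4Cert

theorem treeC_ok24 : treeOK treeC actC gensSC 12 (actC 422) 42240 10560 440 = true := by decide +kernel

theorem treeC_ok25 : treeOK treeC actC gensSC 12 (actC 422) 42240 11000 440 = true := by decide +kernel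

theorem treeC_ok26 : treeOK treeC actC gensSC 12 (actC 422) 42240 11440 440 = true := by decide +kernel

theorem treeC_ok27 : treeOK treeC actC gensSC 12 (actC 422) 42240 11880 440 = true := by decide +kernel

theorem treeC_ok28 : treeOK treeC actC gensSC 12 (actC 422) 42240 12320 440 = true := by decide +kernel

theorem treeC_ok29 : treeOK treeC actC gensSC 12 (actC 422) 42240 12760 440 = true := by decide +kernel

theorem treeC_ok30 : treeOK treeC actC gensSC 12 (actC 422) 42240 13200 440 = true := by decide +kernel

theorem treeC_ok31 : treeOK treeC actC gensSC 12 (actC 422) 42240 13640 440 = true := by decide +kernel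

theorem treeC_ok32 : treeOK treeC actC gensSC 12 (actC 422) 42240 14080 440 = true := by decide +kernel

theorem treeC_ok33 : treeOK treeC actC gensSC 12 (actC 422) 42240 14520 440 = true := by decide +kernel

theorem treeC_ok34 : treeOK treeC actC gensSC 12 (actC 422) 42240 14960 440 = true := by decide +kernel

theorem treeC_ok35 : treeOK treeC actC gensSC 12 (actC 422) 42240 15400 440 = true := by decide +kernel

theorem treeC_ok36 : treeOK treeC actC gensSC 12 (actC 422) 42240 15840 440 = true := by decide +kernel

theorem treeC_ok37 : treeOK treeC actC gensSC 12 (actC 422) 42240 16280 440 = true := by decide +kernel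

theorem treeC_ok38 : treeOK treeC actC gensSC 12 (actC 422) 42240 16720 440 = true := by decide +kernel

theorem treeC_ok39 : treeOK treeC actC gensSC 12 (actC 422) 42240 17160 440 = true := by decide +kernel

theorem treeC_ok40 : treeOK treeC actC gensSC 12 (actC 422) 42240 17600 440 = true := by decide +kernel

theorem treeC_ok41 : treeOK treeC actC gensSC 12 (actC 422) 42240 18040 440 = true := by decide +kernel

theorem treeC_ok42 : treeOK treeC actC gensSC 12 (actC 422) 42240 18480 440 = true := by decide +kernel

theorem treeC_ok43 : treeOK treeC actC gensSC 12 (actC 422) 42240 18920 440 = true := by decide +kernel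

theorem treeC_ok44 : treeOK treeC actC gensSC 12 (actC 422) 42240 19360 440 = true := by decide +kernel

theorem treeC_ok45 : treeOK treeC actC gensSC 12 (actC 422) 42240 19800 440 = true := by decide +kernel

theorem treeC_ok46 : treeOK treeC actC gensSC 12 (actC 422) 42240 20240 440 = true := by decide +kernel

theorem treeC_ok47 : treeOK treeC actC gensSC 12 (actC 422) 42240 20680 440 = true := by decide +kernel

end Cfsg.Lib.JankoFour.ClassNumber
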